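import Cfsg.Agent.Lib.Char.CoprimeBase.Forms

/-!
# Certified pairs of vectors for small fields
-/

set_option autoImplicit false
set_option linter.unusedSectionVars false
set_option linter.style.haveILetI false

namespace CfsgLib.Char.CoprimeBase

universe u

variable {K : Type u} [Field K] {n : ℕ}

/-- Field operations on codes. -/
structure Ops where
  /-- the order -/
  q : ℕ
  /-- addition -/
  add : ℕ → ℕ → ℕ
  /-- multiplication -/
  mul : ℕ → ℕ → ℕ
  /-- negation -/
  neg : ℕ → ℕ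
  /-- inversion, zero at zero -/
  inv : ℕ → ℕ

/-- The codes represent the field. -/
structure OpsRep (O : Ops) (ev : ℕ → K) : Prop where
  pos : 0 < O.q
  inj : ∀ a < O.q, ∀ b < O.q, ev a = ev b → a = b
  zero : ev 0 = 0
  add_lt : ∀ a < O.q, ∀ b < O.q, O.add a b < O.q
  mul_lt : ∀ a < O.q, ∀ b < O.q, O.mul a b < O.q
  neg_lt : ∀ a < O.q, O.neg a < O.q
  inv_lt : ∀ a < O.q, O.inv a < O.q
  map_add : ∀ a < O.q, ∀ b < O.q, ev (O.add a b) = ev a + ev b
  map_mul : ∀ a < O.q, ∀ b < O.q, ev (O.mul a b) = ev a * ev b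
  map_neg : ∀ a < O.q, ev (O.neg a) = -ev a
  map_inv : ∀ a < O.q, ev (O.inv a) = (ev a)⁻¹

/-- All entries are codes. -/
def opsValid (O : Ops) (l : List ℕ) : Bool := l.all fun a => decide (a < O.q)

theorem getD_lt {O : Ops} (h0 : 0 < O.q) {l : List ℕ} (h : opsValid O l = true) (v : ℕ) :
    l.getD v 0 < O.q := by
  rw [List.getD_eq_getElem?_getD]
  rcases hv : l[v]? with _ | a
  · exact h0
  · have := List.all_eq_true.1 h a (List.mem_of_getElem? hv)
    simpa using this

/-- A coordinate of a translate. -/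
def actC (O : Ops) (n : ℕ) (x : List ℕ) (d v : ℕ) : ℕ :=
  if dotBits (d >>> n) (v ^^^ (d % 2 ^ n)) n then O.neg (x.getD (v ^^^ (d % 2 ^ n)) 0)
  else x.getD (v ^^^ (d % 2 ^ n)) 0

/-- The form on coordinates. -/
def bC (O : Ops) (n : ℕ) (f g : ℕ → ℕ) : ℕ :=
  (List.range (2 ^ n)).foldr (fun v acc => O.add (O.mul (f v) (g v)) acc) 0

/-- The first non-zero entry. -/
def leadC (a b c e : ℕ) : ℕ :=
  if a = 0 then (if b = 0 then (if c = 0 then e else c) else b) else a

/-- The normalised code of a quadruple. -/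
def nrmC (O : Ops) (a b c e : ℕ) : ℕ :=
  ((O.mul (O.inv (leadC a b c e)) a * O.q + O.mul (O.inv (leadC a b c e)) b) * O.q
    + O.mul (O.inv (leadC a b c e)) c) * O.q + O.mul (O.inv (leadC a b c e)) e

/-- The label of an index. -/
def labC (O : Ops) (n : ℕ) (sq : Bool) (x y : List ℕ) (d : ℕ) : ℕ :=
  nrmC O (bC O n (fun v => x.getD v 0) (actC O n x d)) (bC O n (fun v => x.getD v 0) (actC O n y d))
    (bC O n (fun v => y.getD v 0) (actC O n x d)) (bC O n (fun v => y.getD v 0) (actC O n y d)) * 2 +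
    if sq && dotBits (d >>> n) (d % 2 ^ n) n then 1 else 0

/-- No index other than zero has both vectors as eigenvectors with one eigenvalue. -/
def noSimul (O : Ops) (n : ℕ) (x y : List ℕ) : Bool :=
  (List.range (2 ^ (n + n))).all fun d => (List.range O.q).all fun m =>
    Nat.beq d 0 || !((List.range (2 ^ n)).all fun v =>
      Nat.beq (O.mul m (actC O n x d v)) (x.getD v 0) && Nat.beq (O.mul m (actC O n y d v)) (y.getD v 0))

/-- The vector of a list of codes. -/
noncomputable def vecC (ev : ℕ → K) (l : List ℕ) : ModelSpace K n := fun v => ev (l.getD (toNum v) 0)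

variable {O : Ops} {ev : ℕ → K}

theorem zmod_two_eq_of_add : ∀ a b : ZMod 2, a + b = 0 → b = a := by decide

theorem zmod_three_no_root : ∀ z : ZMod 3, z ^ 2 ≠ -1 := by decide

theorem toNum_uOf (a : Bv (n + n)) : toNum (uOf a) = toNum a % 2 ^ n := by
  have h : uOf a = toVec n (toNum a % 2 ^ n) := funext fun i => by
    have h1 := congrFun (toVec_toNum a) (Fin.castAdd n i)
    simp only [toVec, Fin.val_castAdd] at h1
    simp only [uOf, toVec, Nat.testBit_mod_two_pow, i.2, decide_true, Bool.true_and]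
    exact h1.symm
  rw [h, toNum_toVec (Nat.mod_lt _ (Nat.two_pow_pos n))]

theorem toVec_sOf (a : Bv (n + n)) : toVec n (toNum a >>> n) = sOf a := funext fun i => by
  have h1 := congrFun (toVec_toNum a) (Fin.natAdd n i)
  simp only [toVec, Fin.val_natAdd] at h1
  simp only [sOf, toVec, Nat.testBit_shiftRight]
  exact h1

theorem bit01_dotBits (S W : ℕ) : bit01 (dotBits S W n) = dotZ (toVec n S) (toVec n W) := by
  rw [dotBits_eq, dotZ, Finset.sum_range]
  rfl

theorem actC_lt (R : OpsRep O ev) {x : List ℕ} (hx : opsValid O x = true) (d v : ℕ) :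
    actC O n x d v < O.q := by
  rw [actC]
  split
  · exact R.neg_lt _ (getD_lt R.pos hx _)
  · exact getD_lt R.pos hx _

theorem ev_actC (R : OpsRep O ev) {x : List ℕ} (hx : opsValid O x = true) (a : Bv (n + n))
    (v : Bv n) : ev (actC O n x (toNum a) (toNum v)) = act a (vecC ev x) v := by
  rw [actC, ← toNum_uOf, ← toNum_add]
  show _ = sgnK K (dotZ (sOf a) (v + uOf a)) * ev (x.getD (toNum (v + uOf a)) 0)
  have h1 := bit01_dotBits (n := n) (toNum a >>> n) (toNum (v + uOf a))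
  rw [toVec_sOf, toVec_toNum] at h1
  rw [← h1]
  cases dotBits (toNum a >>> n) (toNum (v + uOf a)) n
  · simp [bit01, sgnK_zero]
  · rw [if_pos rfl, R.map_neg _ (getD_lt R.pos hx _)]
    simp [bit01, sgnK_one]

theorem sum_toVec (F : Bv n → K) : ∑ v, F v = ∑ k ∈ Finset.range (2 ^ n), F (toVec n k) := by
  rw [Finset.sum_range]
  exact (Fintype.sum_bijective _ toVec_bijective _ _ fun _ => rfl).symm

theorem ev_bC (R : OpsRep O ev) (f g : ℕ → ℕ) (hf : ∀ v, f v < O.q) (hg : ∀ v, g v < O.q) :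
    bC O n f g < O.q ∧ ev (bC O n f g) = ∑ k ∈ Finset.range (2 ^ n), ev (f k) * ev (g k) := by
  have h : ∀ l : List ℕ, l.foldr (fun v acc => O.add (O.mul (f v) (g v)) acc) 0 < O.q ∧
      ev (l.foldr (fun v acc => O.add (O.mul (f v) (g v)) acc) 0) =
        (l.map fun k => ev (f k) * ev (g k)).sum := by
    intro l
    induction l with
    | nil => exact ⟨R.pos, R.zero⟩
    | cons a l ih =>
      refine ⟨R.add_lt _ (R.mul_lt _ (hf a) _ (hg a)) _ ih.1, ?_⟩
      rw [List.foldr_cons, R.map_add _ (R.mul_lt _ (hf a) _ (hg a)) _ ih.1,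
        R.map_mul _ (hf a) _ (hg a), ih.2, List.map_cons, List.sum_cons]
  obtain ⟨h1, h2⟩ := h (List.range (2 ^ n))
  refine ⟨h1, h2.trans ?_⟩
  rw [← List.sum_toFinset _ List.nodup_range, List.toFinset_range]

theorem ev_bC_act (R : OpsRep O ev) {x y : List ℕ} (hx : opsValid O x = true)
    (hy : opsValid O y = true) (a : Bv (n + n)) :
    bC O n (fun v => x.getD v 0) (actC O n y (toNum a)) < O.q ∧
      ev (bC O n (fun v => x.getD v 0) (actC O n y (toNum a))) =
        bform (vecC ev x) (act a (vecC ev y)) := by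
  obtain ⟨h1, h2⟩ := ev_bC (n := n) R (fun v => x.getD v 0) (actC O n y (toNum a))
    (fun v => getD_lt R.pos hx v) (fun v => actC_lt R hy _ v)
  refine ⟨h1, h2.trans ?_⟩
  rw [bform, sum_toVec]
  refine Finset.sum_congr rfl fun k hk => ?_
  rw [Finset.mem_range] at hk
  rw [← ev_actC R hy, vecC, toNum_toVec hk]

/-- Proportional quadruples have one normalised code. -/
theorem nrmC_eq (R : OpsRep O ev) {a b c e a' b' c' e' : ℕ} (ha : a < O.q) (hb : b < O.q)
    (hc : c < O.q) (he : e < O.q) (ha' : a' < O.q) (hb' : b' < O.q) (hc' : c' < O.q)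
    (he' : e' < O.q) {k : K} (hk : k ≠ 0) (h1 : ev a' = k * ev a) (h2 : ev b' = k * ev b)
    (h3 : ev c' = k * ev c) (h4 : ev e' = k * ev e) : nrmC O a' b' c' e' = nrmC O a b c e := by
  have hz : ∀ x < O.q, ∀ x' < O.q, ev x' = k * ev x → (x' = 0 ↔ x = 0) := by
    intro x hx x' hx' h
    constructor <;> rintro rfl
    · rw [R.zero, eq_comm, mul_eq_zero] at h
      exact R.inj _ hx 0 R.pos ((h.resolve_left hk).trans R.zero.symm)
    · rw [R.zero, mul_zero] at h
      exact R.inj _ hx' 0 R.pos (h.trans R.zero.symm)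
  have hl : ∀ {a b c e : ℕ}, a < O.q → b < O.q → c < O.q → e < O.q → leadC a b c e < O.q := by
    intro a b c e ha hb hc he
    simp only [leadC]
    split_ifs <;> assumption
  have hlead : ev (leadC a' b' c' e') = k * ev (leadC a b c e) := by
    simp only [leadC, hz a ha a' ha' h1, hz b hb b' hb' h2, hz c hc c' hc' h3]
    split_ifs <;> assumption
  have key : ∀ x < O.q, ∀ x' < O.q, ev x' = k * ev x →
      O.mul (O.inv (leadC a' b' c' e')) x' = O.mul (O.inv (leadC a b c e)) x := by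
    intro x hx x' hx' h
    have i1 := R.inv_lt _ (hl ha' hb' hc' he')
    have i2 := R.inv_lt _ (hl ha hb hc he)
    refine R.inj _ (R.mul_lt _ i1 _ hx') _ (R.mul_lt _ i2 _ hx) ?_
    rw [R.map_mul _ i1 _ hx', R.map_mul _ i2 _ hx, R.map_inv _ (hl ha' hb' hc' he'),
      R.map_inv _ (hl ha hb hc he), hlead, h, mul_inv, mul_mul_mul_comm, inv_mul_cancel₀ hk, one_mul]
  simp only [nrmC, key a ha a' ha' h1, key b hb b' hb' h2, key c hc c' hc' h3, key e he e' he' h4]

/-- A successful certificate: the stabiliser of the pair has index maps passing the test. -/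
theorem cert_sound (h2 : (2 : K) ≠ 0) (R : OpsRep O ev) {sq : Bool}
    (hsq : sq = true → ∀ k : K, k ≠ 0 → k ^ 2 = 1) {x y tab shifts : List ℕ}
    {good : ℕ → List ℕ → Bool} (hx : opsValid O x = true) (hy : opsValid O y = true)
    (htab : (List.range (2 ^ (n + n))).map (labC O n sq x y) = tab)
    (hshift : sq = false → shifts = List.range (2 ^ (n + n))) (hzero : sq = true → shifts = [0])
    (hchk : affCheck (fun d => tab.getD d 0) (n + n) good shifts = true)
    {g : ModelSpace K n ≃ₗ[K] ModelSpace K n} {π : Bv (n + n) → Bv (n + n)}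
    {χ : Bv (n + n) → K} (h : Normalises g π χ) (hgx : g (vecC ev x) = vecC ev x)
    (hgy : g (vecC ev y) = vecC ev y) :
    ∃ u : Bv (n + n), good (toNum u)
      ((List.range (2 ^ (n + n))).map fun v => toNum (π (toVec (n + n) v))) = true := by
  obtain ⟨u, hu, hu0⟩ := h.quad_shift h2 hgx hgy
  refine ⟨u, affCheck_sound hchk (AddMonoidHom.mk' π (h.π_add h2)) (h.injective h2) u ?_ ?_⟩
  · rcases hb : sq with _ | _
    · rw [hshift hb]; exact List.mem_range.2 (toNum_lt u)
    · rw [hzero hb, hu0 fun a => hsq hb _ (h.χ_ne a), toNum_zero]; exact List.mem_singleton_self 0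
  · intro a
    have hq : ∀ b : Bv (n + n), tab.getD (toNum b) 0 = labC O n sq x y (toNum b) := fun b => by
      rw [← htab]
      exact getD_range_map _ 0 (toNum_lt b)
    show tab.getD (toNum (π a + u)) 0 = tab.getD (toNum a) 0
    rw [hq, hq, labC, labC]
    obtain ⟨c, hc, hquad⟩ := hu a
    have e : ∀ b, _ := fun b => (⟨ev_bC_act (n := n) R hx hx b, ev_bC_act (n := n) R hx hy b,
      ev_bC_act (n := n) R hy hx b, ev_bC_act (n := n) R hy hy b⟩ : _ ∧ _ ∧ _ ∧ _)
    obtain ⟨⟨l1, e1⟩, ⟨l2, e2⟩, ⟨l3, e3⟩, l4, e4⟩ := e a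
    obtain ⟨⟨l1', e1'⟩, ⟨l2', e2'⟩, ⟨l3', e3'⟩, l4', e4'⟩ := e (π a + u)
    rw [nrmC_eq R l1 l2 l3 l4 l1' l2' l3' l4' hc
      (by rw [e1', e1]; exact congrFun hquad 0) (by rw [e2', e2]; exact congrFun hquad 1)
      (by rw [e3', e3]; exact congrFun hquad 2) (by rw [e4', e4]; exact congrFun hquad 3)]
    congr 1
    rcases hb : sq with _ | _
    · simp
    · have hχ : ∀ a, χ a ^ 2 = 1 := fun a => hsq hb _ (h.χ_ne a)
      rw [hu0 hχ, add_zero]
      have hqd : ∀ b : Bv (n + n),
          bit01 (dotBits (toNum b >>> n) (toNum b % 2 ^ n) n) = qSq b := fun b => by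
        rw [bit01_dotBits, toVec_sOf, ← toNum_uOf, toVec_toNum]; rfl
      have h1 : qSq (π a) = qSq a := zmod_two_eq_of_add _ _
        (sgnK_injective h2 (by rw [← h.χ_sq h2, hχ, sgnK_zero]))
      rw [bit01_inj (((hqd (π a)).trans h1).trans (hqd a).symm)]

/-- An element inducing the identity on indices and fixing the pair is trivial. -/
theorem cert_id (h2 : (2 : K) ≠ 0) (R : OpsRep O ev) (hsurj : ∀ k : K, ∃ m < O.q, ev m = k)
    {x y : List ℕ} (hx : opsValid O x = true) (hy : opsValid O y = true)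
    (hno : noSimul O n x y = true) (hx0 : (vecC ev x : ModelSpace K n) ≠ 0)
    {g : ModelSpace K n ≃ₗ[K] ModelSpace K n} {π : Bv (n + n) → Bv (n + n)}
    {χ : Bv (n + n) → K} (h : Normalises g π χ) (hgx : g (vecC ev x) = vecC ev x)
    (hgy : g (vecC ev y) = vecC ev y) (hid : ∀ a, π a = a) : g = 1 := by
  obtain ⟨d, c, hd⟩ := h.eq_act h2 hid
  obtain ⟨m, hm, hmc⟩ := hsurj c
  have hd0 : d = 0 := by
    by_contra hne
    rw [noSimul, List.all_eq_true] at hno
    have h1 := List.all_eq_true.1 (hno _ (List.mem_range.2 (toNum_lt d))) m (List.mem_range.2 hm)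
    rw [Bool.or_eq_true, Nat.beq_eq, Bool.not_eq_true'] at h1
    have h3 := h1.resolve_left fun e => hne (toNum_injective (e.trans toNum_zero.symm))
    rw [List.all_eq_false] at h3
    obtain ⟨v, hv, hvf⟩ := h3
    rw [List.mem_range] at hv
    refine hvf ?_
    have key : ∀ z : List ℕ, opsValid O z = true → g (vecC ev z) = vecC ev z →
        O.mul m (actC O n z (toNum d) v) = z.getD v 0 := by
      intro z hz hgz
      refine R.inj _ (R.mul_lt _ hm _ (actC_lt R hz _ _)) _ (getD_lt R.pos hz _) ?_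
      rw [R.map_mul _ hm _ (actC_lt R hz _ _), hmc]
      have h4 := congrFun ((hd (vecC ev z)).symm.trans hgz) (toVec n v)
      rw [Pi.smul_apply, ← ev_actC R hz, toNum_toVec hv, smul_eq_mul, vecC, toNum_toVec hv] at h4
      exact h4
    simp [key x hx hgx, key y hy hgy]
  subst hd0
  have hc : c = 1 := by
    have h1 := (hd (vecC ev x)).symm.trans hgx
    rw [act_zero_idx] at h1
    exact smul_left_injective K hx0 (h1.trans (one_smul K _).symm)
  refine LinearEquiv.ext fun z => ?_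
  rw [hd, act_zero_idx, hc, one_smul]
  rfl

/-- The field with three elements. -/
def ops3 : Ops := ⟨3, fun a b => (a + b) % 3, fun a b => a * b % 3, fun a => (3 - a) % 3, id⟩

/-- The field with five elements. -/
def ops5 : Ops :=
  ⟨5, fun a b => (a + b) % 5, fun a b => a * b % 5, fun a => (5 - a) % 5,
    fun a => [0, 1, 3, 2, 4].getD a 0⟩

/-- The field with nine elements: `a + 3 b` stands for `a + b i`. -/
def ops9 : Ops :=
  ⟨9, fun a b => (a % 3 + b % 3) % 3 + 3 * ((a / 3 + b / 3) % 3),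
    fun a b => (a % 3 * (b % 3) + 2 * (a / 3 * (b / 3))) % 3 +
      3 * ((a % 3 * (b / 3) + a / 3 * (b % 3)) % 3),
    fun a => (3 - a % 3) % 3 + 3 * ((3 - a / 3) % 3),
    fun a => [0, 1, 2, 6, 5, 4, 3, 8, 7].getD a 0⟩

theorem inv_of_code {O : Ops} {ev : ℕ → K} (h0 : ev 0 = 0) (h1 : ev 1 = 1)
    (hmul : ∀ a < O.q, ∀ b < O.q, ev (O.mul a b) = ev a * ev b)
    (hchk : ∀ a : Fin O.q, O.inv a < O.q ∧ (((a : ℕ) = 0 ∧ O.inv a = 0) ∨ O.mul a (O.inv a) = 1))
    (a : ℕ) (ha : a < O.q) : ev (O.inv a) = (ev a)⁻¹ := by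
  obtain ⟨hlt, ⟨e, e'⟩ | e⟩ := hchk ⟨a, ha⟩
  · simp only at e e'
    rw [e', e, h0, inv_zero]
  · refine eq_inv_of_mul_eq_one_right ?_
    rw [← hmul a ha _ hlt, e, h1]

theorem ev_prime {p : ℕ} [Fact p.Prime] [CharP K p] :
    (∀ a < p, ∀ b < p, (a : K) = b → a = b) ∧ ∀ a : ℕ, ((a % p : ℕ) : K) = a :=
  ⟨fun a ha b hb h => Nat.ModEq.eq_of_lt_of_lt ((CharP.natCast_eq_natCast K p).1 h) ha hb,
    fun a => (CharP.natCast_eq_natCast K p).2 (Nat.mod_modEq a p)⟩

theorem opsRep_three [CharP K 3] : OpsRep ops3 (fun a => (a : K)) := by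
  haveI : Fact (Nat.Prime 3) := ⟨Nat.prime_three⟩
  obtain ⟨hinj, hmod⟩ := ev_prime (K := K) (p := 3)
  refine ⟨by decide, hinj, Nat.cast_zero, fun a _ b _ => Nat.mod_lt _ (by norm_num),
    fun a _ b _ => Nat.mod_lt _ (by norm_num), fun a _ => Nat.mod_lt _ (by norm_num), fun a ha => ha,
    fun a _ b _ => by simp [ops3, hmod], fun a _ b _ => by simp [ops3, hmod], fun a ha => ?_,
    fun a ha => inv_of_code Nat.cast_zero Nat.cast_one (fun a _ b _ => by simp [ops3, hmod])
      (by decide) a ha⟩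
  show (((3 - a) % 3 : ℕ) : K) = -a
  have ha' : a ≤ 3 := le_of_lt ha
  rw [hmod, Nat.cast_sub ha', CharP.cast_eq_zero K 3, zero_sub]

theorem opsRep_five [CharP K 5] : OpsRep ops5 (fun a => (a : K)) := by
  haveI : Fact (Nat.Prime 5) := ⟨by norm_num⟩
  obtain ⟨hinj, hmod⟩ := ev_prime (K := K) (p := 5)
  have hchk : ∀ a : Fin ops5.q, ops5.inv a < ops5.q ∧
      (((a : ℕ) = 0 ∧ ops5.inv a = 0) ∨ ops5.mul a (ops5.inv a) = 1) := by decide
  refine ⟨by decide, hinj, Nat.cast_zero, fun a _ b _ => Nat.mod_lt _ (by norm_num),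
    fun a _ b _ => Nat.mod_lt _ (by norm_num), fun a _ => Nat.mod_lt _ (by norm_num),
    fun a ha => (hchk ⟨a, ha⟩).1,
    fun a _ b _ => by simp [ops5, hmod], fun a _ b _ => by simp [ops5, hmod], fun a ha => ?_,
    fun a ha => inv_of_code Nat.cast_zero Nat.cast_one (fun a _ b _ => by simp [ops5, hmod])
      hchk a ha⟩
  show (((5 - a) % 5 : ℕ) : K) = -a
  have ha' : a ≤ 5 := le_of_lt ha
  rw [hmod, Nat.cast_sub ha', CharP.cast_eq_zero K 5, zero_sub]

/-- The element of a code of the field with nine elements. -/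
def ev9 (ii : K) (a : ℕ) : K := ((a % 3 : ℕ) : K) + ((a / 3 : ℕ) : K) * ii

theorem opsRep_nine [CharP K 3] {ii : K} (hii : ii ^ 2 = -1) : OpsRep ops9 (ev9 ii) := by
  haveI : Fact (Nat.Prime 3) := ⟨Nat.prime_three⟩
  obtain ⟨hinj, hmod⟩ := ev_prime (K := K) (p := 3)
  have h3 : (3 : K) = 0 := by exact_mod_cast CharP.cast_eq_zero K 3
  have hev : ∀ r s : ℕ, ev9 ii (r % 3 + 3 * (s % 3)) = (r : K) + (s : K) * ii := fun r s => by
    rw [ev9, show (r % 3 + 3 * (s % 3)) % 3 = r % 3 by omega,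
      show (r % 3 + 3 * (s % 3)) / 3 = s % 3 by omega, hmod, hmod]
  have hadd : ∀ a < 9, ∀ b < 9, ev9 ii (ops9.add a b) = ev9 ii a + ev9 ii b := fun a _ b _ => by
    show ev9 ii ((a % 3 + b % 3) % 3 + 3 * ((a / 3 + b / 3) % 3)) = _
    rw [hev, ev9, ev9]; push_cast; ring
  have hmul : ∀ a < 9, ∀ b < 9, ev9 ii (ops9.mul a b) = ev9 ii a * ev9 ii b := fun a _ b _ => by
    show ev9 ii ((a % 3 * (b % 3) + 2 * (a / 3 * (b / 3))) % 3 +
      3 * ((a % 3 * (b / 3) + a / 3 * (b % 3)) % 3)) = _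
    rw [hev, ev9, ev9]; push_cast
    linear_combination (((a / 3 : ℕ) : K) * ((b / 3 : ℕ) : K)) * (h3 - hii)
  have hneg : ∀ a < 9, ev9 ii (ops9.neg a) = -ev9 ii a := fun a ha => by
    show ev9 ii ((3 - a % 3) % 3 + 3 * ((3 - a / 3) % 3)) = _
    rw [hev, ev9, Nat.cast_sub (by omega), Nat.cast_sub (by omega)]
    push_cast
    linear_combination h3 + ii * h3
  have hchk : ∀ a : Fin ops9.q, ops9.inv a < ops9.q ∧
      (((a : ℕ) = 0 ∧ ops9.inv a = 0) ∨ ops9.mul a (ops9.inv a) = 1) := by decide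
  have hlt : ∀ r s : ℕ, r % 3 + 3 * (s % 3) < 9 := fun r s => by omega
  refine ⟨by decide, ?_, by simp [ev9], fun a _ b _ => hlt _ _, fun a _ b _ => hlt _ _,
    fun a _ => hlt _ _, fun a ha => (hchk ⟨a, ha⟩).1, hadd, hmul, hneg,
    fun a ha => inv_of_code (by simp [ev9]) (by simp [ev9]) hmul hchk a ha⟩
  intro a ha b hb h
  change a < 9 at ha
  change b < 9 at hb
  simp only [ev9] at h
  by_cases hs : a / 3 = b / 3
  · rw [hs, add_left_inj] at h
    have := hinj _ (Nat.mod_lt _ (by norm_num)) _ (Nat.mod_lt _ (by norm_num)) h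
    omega
  · exfalso
    set f := ZMod.castHom (dvd_refl 3) K
    have hf : ∀ k : ℕ, f k = (k : K) := fun k => map_natCast f k
    have hne : f ((a / 3 : ℕ) - (b / 3 : ℕ)) ≠ 0 := by
      rw [map_sub, hf, hf, sub_ne_zero]
      exact fun e => hs (hinj _ (by omega) _ (by omega) e)
    have hiv : ii = f (((b % 3 : ℕ) - (a % 3 : ℕ)) / ((a / 3 : ℕ) - (b / 3 : ℕ))) := by
      rw [map_div₀, eq_div_iff hne, map_sub, map_sub, hf, hf, hf, hf]
      linear_combination h
    refine zmod_three_no_root (((b % 3 : ℕ) - (a % 3 : ℕ)) / ((a / 3 : ℕ) - (b / 3 : ℕ))) (f.injective ?_)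
    rw [map_pow, ← hiv, hii, map_neg, map_one]

/-- Labels for `q = 5`, `n = 2`. -/
def labs52 : List ℕ :=
  [254, 374, 498, 316, 318, 90, 256, 90, 496, 372, 90, 90, 434, 0, 90, 432]

/-- Labels for `q = 9`, `n = 2`. -/
def labs92 : List ℕ :=
  [194, 192, 2364, 2002, 196, 0, 2190, 198, 2368, 2000, 198, 198, 2194, 198, 198, 2]

/-- Labels for `q = 5`, `n = 3`. -/
def labs53 : List ℕ :=
  [62, 490, 60, 496, 436, 498, 432, 376, 378, 0, 316, 90, 64, 90, 2, 90,
   494, 372, 90, 90, 254, 498, 90, 90, 492, 90, 90, 312, 310, 90, 90, 370,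
   250, 64, 316, 310, 0, 90, 0, 90, 434, 90, 258, 90, 90, 66, 90, 68,
   438, 314, 90, 0, 90, 90, 314, 252, 434, 0, 90, 256, 0, 430, 374, 90]

/-- Labels for `q = 9`, `n = 3`. -/
def labs93 : List ℕ :=
  [2912, 1462, 1830, 1828, 2540, 2368, 2732, 2374, 1832, 198, 2548, 198, 2368, 198, 1822, 198,
   2908, 2008, 198, 198, 2, 1824, 198, 198, 2368, 198, 198, 1474, 2182, 198, 198, 1646,
   2184, 1830, 2362, 1826, 198, 198, 198, 198, 2182, 198, 1652, 198, 198, 2722, 198, 2182,
   1640, 2372, 198, 198, 198, 198, 2724, 1460, 1458, 198, 198, 2014, 198, 2908, 2012, 198]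

/-- Labels for `q = 3`, `n = 3`. -/
def labs33 : List ℕ :=
  [104, 102, 104, 2, 28, 80, 54, 24, 106, 31, 106, 31, 56, 1, 56, 1,
   58, 58, 31, 31, 58, 58, 31, 31, 26, 31, 31, 26, 26, 31, 31, 26,
   56, 82, 56, 82, 1, 31, 1, 31, 82, 1, 82, 1, 31, 106, 31, 106,
   78, 78, 31, 31, 31, 31, 78, 78, 104, 1, 1, 104, 1, 104, 104, 1]

/-- Labels for `q = 3`, `n = 4`. -/
def labs34 : List ℕ :=
  [58, 0, 104, 58, 58, 26, 26, 82, 54, 54, 106, 56, 2, 82, 2, 56,
   26, 1, 28, 31, 58, 1, 104, 31, 24, 1, 56, 31, 56, 31, 56, 1,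
   56, 56, 31, 1, 54, 24, 1, 1, 0, 58, 31, 1, 0, 102, 31, 31,
   54, 31, 1, 82, 106, 31, 1, 2, 58, 31, 31, 28, 80, 31, 31, 80,
   28, 28, 102, 102, 31, 31, 31, 31, 78, 104, 54, 78, 31, 1, 1, 31,
   54, 31, 106, 31, 1, 82, 1, 56, 56, 31, 2, 31, 1, 56, 31, 26,
   78, 82, 31, 31, 31, 1, 24, 54, 82, 28, 1, 31, 31, 31, 24, 102,
   26, 1, 1, 26, 31, 82, 104, 31, 24, 1, 31, 80, 31, 80, 56, 1,
   104, 80, 26, 58, 104, 26, 28, 78, 1, 1, 1, 31, 31, 31, 31, 31,
   58, 1, 104, 31, 106, 1, 58, 31, 31, 106, 31, 2, 31, 2, 31, 54,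
   82, 82, 31, 31, 2, 106, 31, 31, 1, 31, 58, 28, 1, 31, 58, 0,
   56, 1, 31, 56, 2, 31, 31, 54, 31, 80, 28, 31, 1, 80, 58, 31,
   80, 80, 80, 28, 1, 31, 1, 1, 31, 1, 1, 31, 2, 104, 26, 78,
   2, 1, 2, 31, 31, 56, 31, 54, 31, 26, 31, 82, 106, 1, 56, 31,
   82, 106, 31, 1, 31, 31, 104, 24, 1, 1, 2, 80, 106, 28, 31, 31,
   26, 31, 1, 2, 31, 104, 104, 31, 31, 28, 106, 31, 106, 31, 31, 102]

/-- The test "identity, or an involution fixing sixteen indices". -/
def idOrInvol (u : ℕ) (img : List ℕ) : Bool :=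
  isId 6 u img || (((List.range 64).all fun v => Nat.beq (img.getD (img.getD v 0) 0) v) &&
    Nat.beq ((List.range 64).countP fun v => Nat.beq (img.getD v 0) v) 16)

theorem tab52 : (List.range (2 ^ (2 + 2))).map (labC ops5 2 false [3, 2, 1, 3] [4, 2, 4, 0]) = labs52 := by
  decide +kernel
theorem tab92 : (List.range (2 ^ (2 + 2))).map (labC ops9 2 false [8, 2, 7, 6] [8, 5, 5, 5]) = labs92 := by
  decide +kernel
theorem tab53 : (List.range (2 ^ (3 + 3))).map
    (labC ops5 3 false [3, 4, 0, 3, 2, 3, 2, 3] [3, 2, 4, 2, 0, 1, 4, 4]) = labs53 := by decide +kernel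
theorem tab93 : (List.range (2 ^ (3 + 3))).map
    (labC ops9 3 false [7, 2, 6, 7, 8, 3, 7, 4] [7, 8, 8, 5, 7, 7, 5, 8]) = labs93 := by decide +kernel
theorem tab33 : (List.range (2 ^ (3 + 3))).map
    (labC ops3 3 true [2, 0, 0, 2, 1, 2, 0, 2] [0, 0, 1, 1, 1, 2, 1, 0]) = labs33 := by decide +kernel
theorem tab34 : (List.range (2 ^ (4 + 4))).map
    (labC ops3 4 true [2, 1, 2, 0, 2, 0, 0, 2, 1, 2, 1, 2, 2, 0, 1, 0]
      [2, 0, 2, 2, 2, 2, 0, 1, 1, 2, 1, 1, 1, 1, 0, 2]) = labs34 := by decide +kernel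

theorem aff52 : affCheck (fun d => labs52.getD d 0) (2 + 2) (isId (2 + 2))
    (List.range (2 ^ (2 + 2))) = true := by decide +kernel
theorem aff92 : affCheck (fun d => labs92.getD d 0) (2 + 2) (isId (2 + 2))
    (List.range (2 ^ (2 + 2))) = true := by decide +kernel
theorem aff53 : affCheck (fun d => labs53.getD d 0) (3 + 3) (isId (3 + 3))
    (List.range (2 ^ (3 + 3))) = true := by decide +kernel
theorem aff93 : affCheck (fun d => labs93.getD d 0) (3 + 3) (isId (3 + 3))
    (List.range (2 ^ (3 + 3))) = true := by decide +kernel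
theorem aff33 : affCheck (fun d => labs33.getD d 0) (3 + 3) idOrInvol [0] = true := by decide +kernel
theorem aff34 : affCheck (fun d => labs34.getD d 0) (4 + 4) (isId (4 + 4)) [0] = true := by
  decide +kernel

theorem eq_id_of_table {m : ℕ} {π : Bv m → Bv m} {u : ℕ}
    (h : isId m u ((List.range (2 ^ m)).map fun v => toNum (π (toVec m v))) = true) (a : Bv m) :
    π a = a := by
  rw [isId, Bool.and_eq_true, beq_iff_eq] at h
  have h1 := getD_range_map (fun v => toNum (π (toVec m v))) 0 (toNum_lt a)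
  rw [h.2, toVec_toNum] at h1
  refine toNum_injective (h1.symm.trans ?_)
  simpa using getD_range_map id 0 (toNum_lt a)

/-- A certified pair with trivial stabiliser. -/
theorem cert_pair (h2 : (2 : K) ≠ 0) (R : OpsRep O ev) (hcard : Nat.card K = O.q) {sq : Bool}
    (hsq : sq = true → ∀ k : K, k ≠ 0 → k ^ 2 = 1) {x y tab shifts : List ℕ}
    {good : ℕ → List ℕ → Bool} (hx : opsValid O x = true) (hy : opsValid O y = true)
    (hno : noSimul O n x y = true) (hx0 : x.getD 0 0 ≠ 0)
    (htab : (List.range (2 ^ (n + n))).map (labC O n sq x y) = tab)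
    (hshift : sq = false → shifts = List.range (2 ^ (n + n))) (hzero : sq = true → shifts = [0])
    (hchk : affCheck (fun d => tab.getD d 0) (n + n) good shifts = true) :
    ∃ X Y : ModelSpace K n, X ≠ 0 ∧ ∀ g π χ, Normalises g π χ → g X = X → g Y = Y →
      (∃ u : Bv (n + n), good (toNum u)
        ((List.range (2 ^ (n + n))).map fun v => toNum (π (toVec (n + n) v))) = true) ∧
        ((∀ a, π a = a) → g = 1) := by
  have hne : (vecC ev x : ModelSpace K n) ≠ 0 := fun e => hx0 (by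
    have h1 := congrFun e 0
    rw [vecC, toNum_zero, Pi.zero_apply] at h1
    exact R.inj _ (getD_lt R.pos hx 0) 0 R.pos (h1.trans R.zero.symm))
  haveI : Finite K := Nat.finite_of_card_ne_zero (by rw [hcard]; exact R.pos.ne')
  have hsurj : ∀ k : K, ∃ m < O.q, ev m = k := by
    have hinj : Function.Injective fun m : Fin O.q => ev m :=
      fun a b e => Fin.ext (R.inj _ a.2 _ b.2 e)
    intro k
    obtain ⟨m, hm⟩ := (hinj.bijective_of_nat_card_le (by simp [hcard])).2 k
    exact ⟨m, m.2, hm⟩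
  exact ⟨vecC ev x, vecC ev y, hne, fun g π χ h hgx hgy =>
    ⟨cert_sound h2 R hsq hx hy htab hshift hzero hchk h hgx hgy,
      cert_id h2 R hsurj hx hy hno hne h hgx hgy⟩⟩

theorem card_field_eq_three [Finite K] (h : Nat.card K = 3) : CharP K 3 := by
  have := Fintype.ofFinite K
  haveI : Fact (Nat.Prime 3) := ⟨Nat.prime_three⟩
  exact charP_of_card_eq_prime (by rw [← Nat.card_eq_fintype_card, h])

theorem model_pair_of_list (hp : Nat.card K = 5 ∨ Nat.card K = 9) (hn : n = 2 ∨ n = 3) :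
    ∃ X Y : ModelSpace K n, X ≠ 0 ∧ ∀ g π χ, Normalises g π χ → g X = X → g Y = Y → g = 1 := by
  haveI : Finite K := Nat.finite_of_card_ne_zero (by omega)
  have := Fintype.ofFinite K
  suffices h : ∃ X Y : ModelSpace K n, X ≠ 0 ∧ ∀ g π χ, Normalises g π χ → g X = X → g Y = Y →
      (∃ u : Bv (n + n), isId (n + n) (toNum u)
        ((List.range (2 ^ (n + n))).map fun v => toNum (π (toVec (n + n) v))) = true) ∧
        ((∀ a, π a = a) → g = 1) by
    obtain ⟨X, Y, hX, h⟩ := h
    refine ⟨X, Y, hX, fun g π χ hN h1 h2 => ?_⟩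
    obtain ⟨⟨u, hu⟩, hid⟩ := h g π χ hN h1 h2
    exact hid (eq_id_of_table hu)
  rcases hp with hp | hp
  · haveI : Fact (Nat.Prime 5) := ⟨by norm_num⟩
    haveI : CharP K 5 := charP_of_card_eq_prime (by rw [← Nat.card_eq_fintype_card, hp])
    have h2 : (2 : K) ≠ 0 := fun e => by
      have := (CharP.cast_eq_zero_iff K 5 2).1 (by exact_mod_cast e)
      norm_num at this
    rcases hn with rfl | rfl
    · exact cert_pair h2 opsRep_five hp (fun h => absurd h (by decide)) (by decide) (by decide)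
        (by decide +kernel) (by decide) tab52 (fun _ => rfl) (fun h => absurd h (by decide)) aff52
    · exact cert_pair h2 opsRep_five hp (fun h => absurd h (by decide)) (by decide) (by decide)
        (by decide +kernel) (by decide) tab53 (fun _ => rfl) (fun h => absurd h (by decide)) aff53
  · haveI : Fact (Nat.Prime 3) := ⟨Nat.prime_three⟩
    haveI : CharP K 3 := charP_of_card_eq_prime_pow (f := 2) (by rw [← Nat.card_eq_fintype_card, hp]; norm_num)
    have h2 : (2 : K) ≠ 0 := fun e => by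
      have := (CharP.cast_eq_zero_iff K 3 2).1 (by exact_mod_cast e)
      norm_num at this
    obtain ⟨ii, hii⟩ : ∃ ii : K, ii ^ 2 = -1 := by
      obtain ⟨r, hr⟩ := FiniteField.isSquare_neg_one_iff.2
        (show Fintype.card K % 4 ≠ 3 by rw [← Nat.card_eq_fintype_card, hp]; norm_num)
      exact ⟨r, by rw [pow_two, ← hr]⟩
    rcases hn with rfl | rfl
    · exact cert_pair h2 (opsRep_nine hii) hp (fun h => absurd h (by decide)) (by decide) (by decide)
        (by decide +kernel) (by decide) tab92 (fun _ => rfl) (fun h => absurd h (by decide)) aff92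
    · exact cert_pair h2 (opsRep_nine hii) hp (fun h => absurd h (by decide)) (by decide) (by decide)
        (by decide +kernel) (by decide) tab93 (fun _ => rfl) (fun h => absurd h (by decide)) aff93

theorem sq_eq_one_of_card_three (h : Nat.card K = 3) (k : K) (hk : k ≠ 0) : k ^ 2 = 1 := by
  haveI : Finite K := Nat.finite_of_card_ne_zero (by omega)
  have := Fintype.ofFinite K
  have h1 := FiniteField.pow_card_sub_one_eq_one k hk
  rwa [← Nat.card_eq_fintype_card, h] at h1

theorem model_pair_three_four (hp : Nat.card K = 3) :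
    ∃ X Y : ModelSpace K 4, X ≠ 0 ∧ ∀ g π χ, Normalises g π χ → g X = X → g Y = Y → g = 1 := by
  haveI : Finite K := Nat.finite_of_card_ne_zero (by omega)
  haveI := card_field_eq_three hp
  have h2 : (2 : K) ≠ 0 := fun e => by
    have := (CharP.cast_eq_zero_iff K 3 2).1 (by exact_mod_cast e)
    norm_num at this
  obtain ⟨X, Y, hX, h⟩ := cert_pair h2 opsRep_three hp (fun _ => sq_eq_one_of_card_three hp)
    (by decide) (by decide) (by decide +kernel) (by decide) tab34
    (fun h => absurd h (by decide)) (fun _ => rfl) aff34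
  refine ⟨X, Y, hX, fun g π χ hN h1 h2 => ?_⟩
  obtain ⟨⟨u, hu⟩, hid⟩ := h g π χ hN h1 h2
  exact hid (eq_id_of_table hu)

theorem countP_range (q : ℕ → Bool) (P : ℕ → Prop) [DecidablePred P] (h : ∀ v, q v = true ↔ P v) :
    ∀ m, (List.range m).countP q = ((Finset.range m).filter P).card := by
  intro m
  induction m with
  | zero => simp
  | succ m ih =>
    rw [List.range_succ, List.countP_append, ih, Finset.range_add_one, Finset.filter_insert]
    by_cases hm : P m
    · rw [if_pos hm, Finset.card_insert_of_notMem (by simp)]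
      simp [(h m).2 hm]
    · rw [if_neg hm]
      simp [show q m = false from Bool.eq_false_iff.2 fun e => hm ((h m).1 e)]

/-- Dimension three over three elements: outside the trivial element only involutions fixing sixteen
indices remain. -/
theorem model_pair_three_three (hp : Nat.card K = 3) :
    ∃ X Y : ModelSpace K 3, X ≠ 0 ∧ ∀ g π χ, Normalises g π χ → g X = X → g Y = Y →
      g = 1 ∨ ((∀ a, π (π a) = a) ∧ Nat.card {a // π a = a} = 16) := by
  classical
  haveI : Finite K := Nat.finite_of_card_ne_zero (by omega)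
  haveI := card_field_eq_three hp
  have h2 : (2 : K) ≠ 0 := fun e => by
    have := (CharP.cast_eq_zero_iff K 3 2).1 (by exact_mod_cast e)
    norm_num at this
  obtain ⟨X, Y, hX, h⟩ := cert_pair h2 opsRep_three hp (fun _ => sq_eq_one_of_card_three hp)
    (by decide) (by decide) (by decide +kernel) (by decide) tab33
    (fun h => absurd h (by decide)) (fun _ => rfl) aff33
  refine ⟨X, Y, hX, fun g π χ hN h1 h2 => ?_⟩
  obtain ⟨⟨u, hu⟩, hid⟩ := h g π χ hN h1 h2
  rw [idOrInvol, Bool.or_eq_true] at hu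
  rcases hu with hu | hu
  · exact Or.inl (hid (eq_id_of_table (m := 6) hu))
  rw [Bool.and_eq_true, List.all_eq_true, Nat.beq_eq] at hu
  obtain ⟨hinv, hfix⟩ := hu
  have hget : ∀ a : Bv (3 + 3),
      ((List.range (2 ^ (3 + 3))).map fun v => toNum (π (toVec (3 + 3) v))).getD (toNum a) 0 =
        toNum (π a) := fun a => by
    rw [getD_range_map _ 0 (toNum_lt a), toVec_toNum]
  refine Or.inr ⟨fun a => toNum_injective ?_, ?_⟩
  · have h3 := hinv (toNum a) (List.mem_range.2 (toNum_lt a))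
    rw [Nat.beq_eq, hget, hget] at h3
    exact h3
  · rw [countP_range _ (fun v => ((List.range (2 ^ (3 + 3))).map fun v =>
        toNum (π (toVec (3 + 3) v))).getD v 0 = v) (fun v => by rw [Nat.beq_eq])] at hfix
    refine Eq.trans ?_ hfix
    rw [← Fintype.card_coe, ← Nat.card_eq_fintype_card]
    refine Nat.card_congr
      { toFun := fun a => ⟨toNum a.1, Finset.mem_filter.2 ⟨Finset.mem_range.2 (toNum_lt a.1), by
          rw [hget, a.2]⟩⟩
        invFun := fun v => ⟨toVec (3 + 3) v.1, toNum_injective (by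
          have h3 := Finset.mem_filter.1 v.2
          rw [← hget, toNum_toVec (Finset.mem_range.1 h3.1)]
          exact h3.2)⟩
        left_inv := fun a => Subtype.ext (toVec_toNum a.1)
        right_inv := fun v => Subtype.ext
          (toNum_toVec (Finset.mem_range.1 (Finset.mem_filter.1 v.2).1)) }

end CfsgLib.Char.CoprimeBase
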