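import Cfsg.Agent.Lib.Char.CoprimeBase.Translates
import Cfsg.Agent.Lib.Char.CoprimeBase.FormsCert

/-!
# Pairs from rigid colourings, and the model in index two
-/

set_option autoImplicit false
set_option linter.unusedSectionVars false
set_option linter.style.haveILetI false

namespace CfsgLib.Char.CoprimeBase

universe u

variable {K V : Type u} [Field K] [AddCommGroup V] [Module K V] [Finite V] [Nontrivial V]
  {D : Subgroup (V ≃ₗ[K] V)} {l : ℕ}

/-- An endomorphism is determined on the translates. -/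
theorem Mono.hom_ext_translates (m : Mono D l) [Fact l.Prime] (hA : AIrr D l)
    {f g : V ≃ₗ[K] V} (h : ∀ w, ∀ z ∈ m.U0, f (m.dW w z) = g (m.dW w z)) : f = g :=
  LinearEquiv.ext fun v => by
    obtain ⟨c, hc, rfl⟩ := m.exists_sum hA v
    simp only [map_sum]
    exact Finset.sum_congr rfl fun w _ => h w _ (hc w)

/-- Coefficients along the translates are unique. -/
theorem Mono.sum_inj (m : Mono D l) [Fact l.Prime] (hA : AIrr D l)
    {c d : (Fin m.n → ZMod l) → V} (hc : ∀ w, c w ∈ m.U0) (hd : ∀ w, d w ∈ m.U0)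
    (h : ∑ w, m.dW w (c w) = ∑ w, m.dW w (d w)) (w : Fin m.n → ZMod l) : c w = d w :=
  sub_eq_zero.1 (m.sum_eq_zero hA (c := fun w => c w - d w) (fun w => sub_mem (hc w) (hd w))
    (by simp only [map_sub, Finset.sum_sub_distrib, h, sub_self]) w)

/-- A symmetry permuting the translates of a fixed sum. -/
theorem Mono.colour_eq (m : Mono D l) [Fact l.Prime] (hA : AIrr D l) {g : V ≃ₗ[K] V}
    {a : (Fin m.n → ZMod l) →+ (Fin m.n → ZMod l)} {t : (Fin m.n → ZMod l) → V ≃ₗ[K] V}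
    (ha : Function.Injective a) (ht : ∀ w, t w ∈ m.T) (hU : ∀ z ∈ m.U0, g z ∈ m.U0)
    (hg : ∀ w, ∀ z ∈ m.U0, g (m.dW w z) = m.dW (a w) (t w (g z)))
    {c : (Fin m.n → ZMod l) → V} (hc : ∀ w, c w ∈ m.U0)
    (hy : g (∑ w, m.dW w (c w)) = ∑ w, m.dW w (c w)) (w : Fin m.n → ZMod l) :
    c (a w) = t w (g (c w)) := by
  classical
  let e := Equiv.ofBijective a (Finite.injective_iff_bijective.1 ha)
  have h1 : ∑ v, m.dW v (c v) = ∑ v, m.dW v (t (e.symm v) (g (c (e.symm v)))) := by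
    rw [← hy, map_sum, ← Equiv.sum_comp e (fun v => m.dW v (t (e.symm v) (g (c (e.symm v)))))]
    refine Finset.sum_congr rfl fun v _ => ?_
    rw [hg v _ (hc v), Equiv.symm_apply_apply]
    rfl
  have h2 := m.sum_inj hA hc (fun v => m.T_mapsTo (ht _) (hU _ (hc _))) h1 (a w)
  rwa [show a w = e w from rfl, Equiv.symm_apply_apply] at h2

/-- The pair of a rigid colouring on a line. -/
theorem line_pair (hA : AIrr D l) (m : Mono D l) [Fact l.Prime] (hline : m.IsLine)
    (hr : LineRigid K l m.n) :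
    ∃ x y : V, x ≠ 0 ∧ ∀ g : V ≃ₗ[K] V, (∀ d ∈ D, g * d * g⁻¹ ∈ D) → g x = x → g y = y → g = 1 := by
  obtain ⟨c, -, hrig⟩ := hr
  refine ⟨m.x, ∑ w, m.dW w (c w • m.x), m.x_ne, fun g hn hx hy => ?_⟩
  obtain ⟨hU, a, t, b, ha, ht, ht0, hb1, hb2, hbl, hbt, hgd⟩ := hA.sym_of_fix m hn hx
  choose τ hτ using fun w => hline (t w m.x) (m.T_mapsTo (ht w) m.x_mem)
  have hinj : ∀ k k' : K, k • m.x = k' • m.x → k = k' :=
    fun k k' e => smul_left_injective K m.x_ne e
  have hsym : LSym a τ fun v w => (b v w : K) := by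
    refine ⟨ha, hinj _ _ ?_, fun u v w => by rw [hb1, Units.val_mul],
      fun u v w => by rw [hb2, Units.val_mul],
      fun v w => by rw [← Units.val_pow_eq_pow_val, hbl, Units.val_one], fun v w => hinj _ _ ?_⟩
    · rw [one_smul, ← hτ, ht0 _ m.x_mem]
    · rw [← hτ, hbt v w _ m.x_mem, hτ, LinearEquiv.map_smul, hτ, smul_smul, smul_smul]
      congr 1
      ring
  have hcol := fun w => m.colour_eq hA ha ht hU hgd (c := fun w => c w • m.x)
    (fun w => m.U0.smul_mem _ m.x_mem) hy w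
  obtain ⟨hid, hτ1⟩ := hrig a τ _ hsym fun w => hinj _ _ (by
    rw [hcol w, LinearEquiv.map_smul, hx, LinearEquiv.map_smul, hτ, smul_smul, mul_comm])
  refine m.hom_ext_translates hA fun w z hz => ?_
  obtain ⟨k, rfl⟩ := hline z hz
  rw [hgd w _ hz, hid, LinearEquiv.map_smul g, hx, LinearEquiv.map_smul, hτ, hτ1, one_smul]
  rfl

/-- The quaternion operators of a plane. -/
def Mono.Plane.ops {m : Mono D l} (P : m.Plane) : QuatOps K m.U0 where
  J1 := (P.t1 : V →ₗ[K] V).restrict fun _ hz => m.T_mapsTo P.t1_mem hz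
  J2 := (P.t2 : V →ₗ[K] V).restrict fun _ hz => m.T_mapsTo P.t2_mem hz
  nonsq := P.nonsq
  sq1 := fun z => Subtype.ext (P.sq1 z z.2)
  sq2 := fun z => Subtype.ext (P.sq2 z z.2)
  anti := fun z => Subtype.ext (P.anti z z.2)

/-- The pair of a rigid colouring on a plane. -/
theorem plane_pair (hA : AIrr D l) (m : Mono D l) [Fact l.Prime] (P : m.Plane)
    (hr : PlaneRigid P.ops m.n ⟨P.t1 m.x, m.T_mapsTo P.t1_mem m.x_mem⟩) :
    ∃ x y : V, x ≠ 0 ∧ ∀ g : V ≃ₗ[K] V, (∀ d ∈ D, g * d * g⁻¹ ∈ D) → g x = x → g y = y → g = 1 := by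
  obtain rfl := P.l_two
  obtain ⟨c, hc0, hrig⟩ := hr
  refine ⟨m.x, ∑ w, m.dW w (c w : V), m.x_ne, fun g hn hx hy => ?_⟩
  obtain ⟨hU, a, t, b, ha, ht, ht0, hb1, hb2, hbl, hbt, hgd⟩ := hA.sym_of_fix m hn hx
  have hcol := fun w => m.colour_eq hA ha ht hU hgd (c := fun w => (c w : V))
    (fun w => (c w).2) hy w
  have hgU : ∀ z ∈ m.U0, g z = z := by
    have h0 := hcol 0
    rw [map_zero, ht0 _ (hU _ (c 0).2), hc0] at h0
    intro z hz
    obtain ⟨k, k', rfl⟩ := P.span z hz
    rw [map_add, LinearEquiv.map_smul, LinearEquiv.map_smul, hx, ← h0]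
  let t' : (Fin m.n → ZMod 2) → (m.U0 →ₗ[K] m.U0) := fun w =>
    (t w : V →ₗ[K] V).restrict fun _ hz => m.T_mapsTo (ht w) hz
  have h := hrig a t' (fun v w => (b v w : K)) ha (fun w => by
      obtain ⟨s, h | h | h | h⟩ := P.cases (t w) (ht w)
      · exact ⟨s, 0, by norm_num, LinearMap.ext fun z => Subtype.ext (h z z.2)⟩
      · exact ⟨s, 1, by norm_num, LinearMap.ext fun z => Subtype.ext (h z z.2)⟩
      · exact ⟨s, 2, by norm_num, LinearMap.ext fun z => Subtype.ext (h z z.2)⟩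
      · exact ⟨s, 3, by norm_num, LinearMap.ext fun z => Subtype.ext (h z z.2)⟩)
    (LinearMap.ext fun z => Subtype.ext (ht0 z z.2))
    (fun u v w => by rw [hb1, Units.val_mul]) (fun u v w => by rw [hb2, Units.val_mul])
    (fun v w => by rw [← Units.val_pow_eq_pow_val, hbl, Units.val_one])
    (fun v w => LinearMap.ext fun z => Subtype.ext (hbt v w z z.2))
    (fun w => Subtype.ext ((hcol w).trans (by rw [hgU _ (c w).2]; rfl)))
  refine m.hom_ext_translates hA fun w z hz => ?_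
  obtain ⟨h1, h2⟩ := h w
  rw [hgd w z hz, h1, hgU z hz]
  have h3 : t w z = z := congrArg Subtype.val (LinearMap.congr_fun h2 ⟨z, hz⟩)
  rw [h3]
  rfl

section Param

variable {D : Subgroup (V ≃ₗ[K] V)}

/-- The signs as units. -/
def sgnU (K : Type u) [Field K] (z : ZMod 2) : Kˣ := if z = 0 then 1 else -1

theorem sgnU_val (z : ZMod 2) : (sgnU K z : K) = sgnK K z := by
  rcases zmod_two_cases z with rfl | rfl <;> simp [sgnU, sgnK]

theorem sgnU_add (a b : ZMod 2) : sgnU K (a + b) = sgnU K a * sgnU K b :=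
  Units.ext (by rw [Units.val_mul, sgnU_val, sgnU_val, sgnU_val, sgnK_add])

theorem additive_eq_dotZ {n : ℕ} (φ : Bv n → ZMod 2) (h : ∀ v w, φ (v + w) = φ v + φ w) :
    ∃ s, ∀ w, φ w = dotZ s w := by
  classical
  refine ⟨fun i => φ (Pi.single i 1), fun w => ?_⟩
  have h1 : (AddMonoidHom.mk' φ h) =
      AddMonoidHom.mk' (dotZ fun i => φ (Pi.single i 1)) (dotZ_add_right _) := by
    refine AddMonoidHom.functions_ext _ _ _ fun i z => ?_
    rcases zmod_two_cases z with rfl | rfl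
    · have h0 := h 0 0
      rw [add_zero] at h0
      simp [dotZ_zero, left_eq_add.1 h0]
    · simp [dotZ_single]
  exact DFunLike.congr_fun h1 w

variable (m : Mono D 2)

/-- The stabiliser element with given character. -/
noncomputable def Mono.ellS (s : Bv m.n) : V ≃ₗ[K] V :=
  Classical.choose (m.dual (fun w => sgnU K (dotZ s w)) fun v w => by rw [dotZ_add_right, sgnU_add])

theorem Mono.ellS_spec (s : Bv m.n) :
    m.ellS s ∈ stabD D m.x ∧ ∀ w, cmt (m.dW w) (m.ellS s) = sgnU K (dotZ s w) :=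
  Classical.choose_spec
    (m.dual (fun w => sgnU K (dotZ s w)) fun v w => by rw [dotZ_add_right, sgnU_add])

/-- The standard element: translation, middle factor, character. -/
noncomputable def Mono.stdE (u : Bv m.n) (t : V ≃ₗ[K] V) (s : Bv m.n) : V ≃ₗ[K] V :=
  m.dW u * t * m.ellS s

variable (hA : AIrr D 2)

include hA

theorem Mono.stdE_apply {t : V ≃ₗ[K] V} (ht : t ∈ m.T) (u s w : Bv m.n) {z : V}
    (hz : z ∈ m.U0) : m.stdE u t s (m.dW w z) = sgnK K (dotZ s w) • m.dW (u + w) (t z) := by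
  rw [Mono.stdE, LinearEquiv.mul_apply, m.ell_apply hA w (m.ellS_spec s).1 hz,
    (m.ellS_spec s).2, sgnU_val, LinearEquiv.map_smul, LinearEquiv.mul_apply, m.dW_add,
    LinearEquiv.mul_apply]
  have h := LinearEquiv.congr_fun ((m.mem_T.1 ht).2.2 w).eq z
  rw [LinearEquiv.mul_apply, LinearEquiv.mul_apply] at h
  rw [h]

theorem Mono.stdE_mem {t : V ≃ₗ[K] V} (ht : t ∈ m.T) (u s : Bv m.n) : m.stdE u t s ∈ D :=
  mul_mem (mul_mem (m.dW_mem u) (m.mem_T.1 ht).1) (m.ellS_spec s).1.1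

/-- Every element is standard. -/
theorem Mono.exists_stdE {d : V ≃ₗ[K] V} (hd : d ∈ D) :
    ∃ u s, ∃ t ∈ m.T, ∀ w, ∀ z ∈ m.U0, d (m.dW w z) = sgnK K (dotZ s w) • m.dW (u + w) (t z) := by
  classical
  obtain ⟨u, t, ht, ℓ, hℓ, rfl⟩ := m.decompT hA hd
  let φ : Bv m.n → ZMod 2 := fun w => if cmt (m.dW w) ℓ = 1 then 0 else 1
  have hsg : ∀ w, sgnU K (φ w) = cmt (m.dW w) ℓ := fun w => by
    by_cases e : cmt (m.dW w) ℓ = 1
    · simp [φ, sgnU, e]
    · have e' := neg_one_of_pow_two (hA.cmt_pow (m.dW_mem w) hℓ.1) e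
      simp only [φ, sgnU, if_neg e, if_neg (one_ne_zero (α := ZMod 2)), e']
  have hne : sgnU K (1 : ZMod 2) ≠ 1 ∨ ∀ w, cmt (m.dW w) ℓ = 1 := by
    by_cases e : ∀ w, cmt (m.dW w) ℓ = 1
    · exact Or.inr e
    · push Not at e
      obtain ⟨w, hw⟩ := e
      refine Or.inl fun h => hw ?_
      rw [← hsg, show φ w = 1 by simp [φ, hw], h]
  obtain ⟨s, hs⟩ : ∃ s, ∀ w, cmt (m.dW w) ℓ = sgnU K (dotZ s w) := by
    rcases hne with hne | hall
    · obtain ⟨s, hs⟩ := additive_eq_dotZ φ fun v w => by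
        have h1 : sgnU K (φ (v + w)) = sgnU K (φ v + φ w) := by
          rw [sgnU_add, hsg (v + w), hsg v, hsg w, m.dW_add, cmt_mul_left hA.heis (m.dW_mem v) (m.dW_mem w) hℓ.1]
        have hinj : ∀ a b : ZMod 2, sgnU K a = sgnU K b → a = b := by
          intro a b e
          rcases zmod_two_cases a with rfl | rfl <;> rcases zmod_two_cases b with rfl | rfl <;>
            first
              | rfl
              | exact absurd (e.symm.trans (if_pos rfl)) hne
              | exact absurd (e.trans (if_pos rfl)) hne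
        exact hinj _ _ h1
      exact ⟨s, fun w => by rw [← hs, hsg]⟩
    · exact ⟨0, fun w => by rw [hall, dotZ_comm, dotZ_zero]; simp [sgnU]⟩
  refine ⟨u, s, t, ht, fun w z hz => ?_⟩
  rw [LinearEquiv.mul_apply, m.ell_apply hA w hℓ hz, hs, sgnU_val, LinearEquiv.map_smul,
    LinearEquiv.mul_apply, m.dW_add, LinearEquiv.mul_apply]
  have h := LinearEquiv.congr_fun ((m.mem_T.1 ht).2.2 w).eq z
  rw [LinearEquiv.mul_apply, LinearEquiv.mul_apply] at h
  rw [h]

/-- The coordinates of a line. -/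
noncomputable def Mono.coords (hline : m.IsLine) : ModelSpace K m.n ≃ₗ[K] V :=
  haveI : Fact (Nat.Prime 2) := ⟨Nat.prime_two⟩
  LinearEquiv.ofBijective
    { toFun := fun z => ∑ w, z w • m.dW w m.x
      map_add' := fun a b => by simp [add_smul, Finset.sum_add_distrib]
      map_smul' := fun c a => by simp [Finset.smul_sum, smul_smul] }
    ⟨fun a b h => funext fun w => smul_left_injective K m.x_ne
      (m.sum_inj hA (c := fun w => a w • m.x) (d := fun w => b w • m.x)
        (fun w => m.U0.smul_mem _ m.x_mem) (fun w => m.U0.smul_mem _ m.x_mem)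
        (by simpa [LinearEquiv.map_smul] using h) w),
    fun v => by
      obtain ⟨c, hc, rfl⟩ := m.exists_sum hA v
      choose k hk using fun w => hline (c w) (hc w)
      exact ⟨k, Finset.sum_congr rfl fun w _ => by rw [hk w, LinearEquiv.map_smul]⟩⟩

theorem Mono.coords_apply (hline : m.IsLine) (z : ModelSpace K m.n) :
    m.coords hA hline z = ∑ w, z w • m.dW w m.x := rfl

/-- The model element of an index. -/
noncomputable def Mono.lineE (a : Bv (m.n + m.n)) : V ≃ₗ[K] V := m.stdE (uOf a) 1 (sOf a)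

theorem Mono.lineE_coords (hline : m.IsLine) (a : Bv (m.n + m.n)) (z : ModelSpace K m.n) :
    m.lineE a (m.coords hA hline z) = m.coords hA hline (act a z) := by
  rw [m.coords_apply hA, m.coords_apply hA, map_sum]
  conv_rhs => rw [← Equiv.sum_comp (Equiv.addRight (uOf a)) (fun v => act a z v • m.dW v m.x)]
  refine Finset.sum_congr rfl fun w _ => ?_
  rw [LinearEquiv.map_smul, Mono.lineE, m.stdE_apply hA (one_mem _) _ _ _ m.x_mem]
  simp only [act, Equiv.coe_addRight, add_assoc, bv_add_self, add_zero, LinearEquiv.coe_one, id_eq,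
    smul_smul]
  rw [add_comm (uOf a) w, mul_comm]

/-- On a line every element of `D` is a scalar times a model element. -/
theorem Mono.exists_lineE (hline : m.IsLine) {d : V ≃ₗ[K] V} (hd : d ∈ D) :
    ∃ (a : Bv (m.n + m.n)) (c : K), ∀ v, d v = c • m.lineE a v := by
  haveI : Fact (Nat.Prime 2) := ⟨Nat.prime_two⟩
  obtain ⟨u, s, t, ht, h⟩ := m.exists_stdE hA hd
  obtain ⟨c, hc⟩ := hline (t m.x) (m.T_mapsTo ht m.x_mem)
  refine ⟨mkIdx u s, c, fun v => ?_⟩
  obtain ⟨z, rfl⟩ := (m.coords hA hline).surjective v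
  rw [m.coords_apply hA, map_sum, map_sum, Finset.smul_sum]
  refine Finset.sum_congr rfl fun w _ => ?_
  rw [LinearEquiv.map_smul, LinearEquiv.map_smul, h w _ m.x_mem, Mono.lineE, uOf_mk, sOf_mk,
    m.stdE_apply hA (one_mem _) _ _ _ m.x_mem, hc, LinearEquiv.map_smul, LinearEquiv.coe_one, id_eq,
    smul_smul, smul_smul, smul_smul, smul_smul]
  congr 1
  ring

/-- An automorphism normalising `D`, seen in coordinates, normalises the model. -/
theorem Mono.normalises (hline : m.IsLine) {g : V ≃ₗ[K] V} (hn : ∀ d ∈ D, g * d * g⁻¹ ∈ D) :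
    ∃ (π : Bv (m.n + m.n) → Bv (m.n + m.n)) (χ : Bv (m.n + m.n) → K),
      Normalises (((m.coords hA hline).trans g).trans (m.coords hA hline).symm) π χ ∧
      ∀ a v, g (m.lineE a v) = χ a • m.lineE (π a) (g v) := by
  choose π χ h using fun a => m.exists_lineE hA hline
    (hn _ (m.stdE_mem hA (one_mem _) (uOf a) (sOf a)))
  have hg : ∀ a v, g (m.lineE a v) = χ a • m.lineE (π a) (g v) := fun a v => by
    have h1 := h a (g v)
    rw [LinearEquiv.mul_apply, LinearEquiv.mul_apply,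
      show g⁻¹ (g v) = v from LinearEquiv.symm_apply_apply g v] at h1
    exact h1
  refine ⟨π, χ, ⟨fun a z => ?_⟩, hg⟩
  simp only [LinearEquiv.trans_apply]
  rw [← m.lineE_coords hA hline, hg, LinearEquiv.map_smul]
  congr 1
  rw [LinearEquiv.symm_apply_eq, ← m.lineE_coords hA hline, LinearEquiv.apply_symm_apply]

/-- A pair of the model gives a pair. -/
theorem model_to_pair (hline : m.IsLine) (P : (V ≃ₗ[K] V) → Prop)
    (h : ∃ X Y : ModelSpace K m.n, X ≠ 0 ∧ ∀ g π χ, Normalises g π χ → g X = X → g Y = Y →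
      g = 1 ∨ ∀ f : V ≃ₗ[K] V, (∀ a v, f (m.lineE a v) = χ a • m.lineE (π a) (f v)) → P f) :
    ∃ x y : V, x ≠ 0 ∧ ∀ g : V ≃ₗ[K] V, (∀ d ∈ D, g * d * g⁻¹ ∈ D) → g x = x → g y = y →
      g = 1 ∨ P g := by
  obtain ⟨X, Y, hX, h⟩ := h
  refine ⟨m.coords hA hline X, m.coords hA hline Y,
    (m.coords hA hline).map_ne_zero_iff.2 hX, fun g hn hx hy => ?_⟩
  obtain ⟨π, χ, hN, hg⟩ := m.normalises hA hline hn
  rcases h _ π χ hN (by simp [hx]) (by simp [hy]) with e | e
  · refine Or.inl (LinearEquiv.ext fun v => ?_)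
    have h1 := LinearEquiv.congr_fun e ((m.coords hA hline).symm v)
    simp only [LinearEquiv.trans_apply, LinearEquiv.apply_symm_apply, LinearEquiv.coe_one, id_eq] at h1
    exact (m.coords hA hline).symm.injective h1
  · exact Or.inr (e g hg)

end Param

end CfsgLib.Char.CoprimeBase
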