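import Cfsg.Agent.Lib.Char.CoprimeBase.Colour
import Cfsg.Agent.Lib.Char.OddBase.Setup

/-!
# Two vectors with trivial common stabiliser: sums, systems of imprimitivity, semilinear groups
-/

set_option autoImplicit false
set_option linter.unusedSectionVars false
set_option linter.style.haveILetI false

namespace CfsgLib.Char.CoprimeBase

open CfsgLib.Char.OddBase

universe u

/-- Two vectors with trivial common stabiliser. -/
def Base2 (A V : Type u) [Group A] [AddCommGroup V] [DistribMulAction A V] : Prop :=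
  ∃ x y : V, ∀ a : A, a • x = x → a • y = y → a = 1

/-- The statement for elementary abelian `p`-groups of order less than `N`. -/
def CopBelow (p N : ℕ) : Prop :=
  ∀ (A V : Type u) [Group A] [Finite A] [AddCommGroup V] [Finite V] [DistribMulAction A V]
    [FaithfulSMul A V] [Group.IsSolvable A], ¬ p ∣ Nat.card A → (∀ v : V, p • v = 0) →
      Nat.card V < N → Base2 A V

variable {A V : Type u} [Group A] [AddCommGroup V] [DistribMulAction A V]

/-- In a pair the first vector may be taken non-zero. -/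
theorem Base2.ne_zero [Nontrivial V] (h : Base2 A V) :
    ∃ x y : V, x ≠ 0 ∧ ∀ a : A, a • x = x → a • y = y → a = 1 := by
  obtain ⟨x, y, h⟩ := h
  by_cases hx : x = 0
  · by_cases hy : y = 0
    · obtain ⟨w, hw⟩ := exists_ne (0 : V)
      exact ⟨w, w, hw, fun a _ _ => h a (by rw [hx, smul_zero]) (by rw [hy, smul_zero])⟩
    · exact ⟨y, x, hy, fun a h1 h2 => h a h2 h1⟩
  · exact ⟨x, y, hx, h⟩

/-- Maschke: invariant subgroups have invariant complements. -/
theorem exists_invariant_compl {p : ℕ} [hp : Fact p.Prime] [Finite A] [Finite V]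
    (hA : ¬ p ∣ Nat.card A) (hV : ∀ v : V, p • v = 0) (U : AddSubgroup V)
    (hU : ∀ a : A, ∀ v ∈ U, a • v ∈ U) :
    ∃ W : AddSubgroup V, (∀ a : A, ∀ w ∈ W, a • w ∈ W) ∧ U ⊓ W = ⊥ ∧ U ⊔ W = ⊤ := by
  classical
  have := Fintype.ofFinite A
  obtain ⟨hmod⟩ : Nonempty (Module (ZMod p) V) := ⟨AddCommGroup.zmodModule hV⟩
  obtain ⟨X, hX⟩ := (AddSubgroup.toZModSubmodule p U).exists_isCompl
  obtain ⟨π, hπmem, hπfix⟩ : ∃ π : V →+ V, (∀ v, π v ∈ U) ∧ ∀ u ∈ U, π u = u := by
    refine ⟨(Submodule.subtype _).toAddMonoidHom.comp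
      (Submodule.projectionOnto (AddSubgroup.toZModSubmodule p U) X hX).toAddMonoidHom,
      fun v => (Submodule.projectionOnto (AddSubgroup.toZModSubmodule p U) X hX v).2, fun u hu => ?_⟩
    exact congrArg Subtype.val (Submodule.projectionOnto_apply_left hX ⟨u, hu⟩)
  obtain ⟨k, hk⟩ : ∃ k : ℕ, Nat.card A * k ≡ 1 [MOD p] := by
    obtain ⟨k, hk⟩ := Nat.exists_mul_mod_eq_one_of_coprime
      (Nat.coprime_comm.1 ((Nat.Prime.coprime_iff_not_dvd hp.out).2 hA)) hp.out.one_lt
    exact ⟨k, by rw [Nat.ModEq, hk.2, Nat.mod_eq_of_lt hp.out.one_lt]⟩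
  let avg : V →+ V := AddMonoidHom.mk' (fun v => k • ∑ a : A, a • π (a⁻¹ • v)) fun x y => by
    simp only [smul_add, map_add, Finset.sum_add_distrib]
  have hmem : ∀ v, avg v ∈ U := fun v =>
    U.nsmul_mem (U.sum_mem fun a _ => hU a _ (hπmem _)) k
  have hfix : ∀ u ∈ U, avg u = u := by
    intro u hu
    show k • ∑ a : A, a • π (a⁻¹ • u) = u
    rw [Finset.sum_congr rfl fun a _ => by rw [hπfix _ (hU _ _ hu), smul_inv_smul]]
    rw [Finset.sum_const, Finset.card_univ, ← Nat.card_eq_fintype_card, ← mul_nsmul',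
      mul_comm, ← Nat.div_add_mod (Nat.card A * k) p, hk, Nat.mod_eq_of_lt hp.out.one_lt,
      add_nsmul, one_nsmul, mul_nsmul, hV, smul_zero, zero_add]
  have hequiv : ∀ (g : A) (v : V), avg (g • v) = g • avg v := by
    intro g v
    show k • ∑ a : A, a • π (a⁻¹ • g • v) = g • k • ∑ a : A, a • π (a⁻¹ • v)
    rw [show g • k • ∑ a : A, a • π (a⁻¹ • v) = k • g • ∑ a : A, a • π (a⁻¹ • v) from
      map_nsmul (DistribSMul.toAddMonoidHom V g) k _, Finset.smul_sum (r := g)]
    refine congrArg (k • ·) ?_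
    refine Fintype.sum_equiv (Equiv.mulLeft g⁻¹) _ _ fun a => ?_
    simp [mul_smul]
  refine ⟨avg.ker, fun a w hw => ?_, ?_, ?_⟩
  · rw [AddMonoidHom.mem_ker] at hw ⊢
    rw [hequiv, hw, smul_zero]
  · refine (AddSubgroup.eq_bot_iff_forall _).2 fun v hv => ?_
    obtain ⟨h1, h2⟩ := AddSubgroup.mem_inf.1 hv
    rw [← hfix v h1, AddMonoidHom.mem_ker.1 h2]
  · refine eq_top_iff.2 fun v _ => AddSubgroup.mem_sup.2 ⟨avg v, hmem v, v - avg v, ?_, by abel⟩
    rw [AddMonoidHom.mem_ker, map_sub, hfix _ (hmem v), sub_self]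

theorem decompose_unique {U W : AddSubgroup V} (hbot : U ⊓ W = ⊥) {u u' w w' : V} (hu : u ∈ U)
    (hu' : u' ∈ U) (hw : w ∈ W) (hw' : w' ∈ W) (e : u + w = u' + w') : u = u' ∧ w = w' := by
  have e' : u - u' = w' - w := by rw [sub_eq_sub_iff_add_eq_add, e, add_comm]
  have h : u - u' ∈ U ⊓ W :=
    AddSubgroup.mem_inf.2 ⟨sub_mem hu hu', e' ▸ sub_mem hw' hw⟩
  rw [hbot, AddSubgroup.mem_bot, sub_eq_zero] at h
  subst h
  exact ⟨rfl, add_left_cancel e⟩

/-- Pairs on two complementary invariant subgroups give a pair. -/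
theorem base2_split [FaithfulSMul A V] (U W : AddSubgroup V)
    (hU : ∀ a : A, ∀ v ∈ U, a • v ∈ U) (hW : ∀ a : A, ∀ v ∈ W, a • v ∈ W)
    (hbot : U ⊓ W = ⊥) (htop : U ⊔ W = ⊤)
    (h1 : Base2 (restrictUnits U hU).range U) (h2 : Base2 (restrictUnits W hW).range W) :
    Base2 A V := by
  obtain ⟨x1, y1, hb1⟩ := h1
  obtain ⟨x2, y2, hb2⟩ := h2
  refine ⟨(x1 : V) + x2, (y1 : V) + y2, fun a e1 e2 => ?_⟩
  rw [smul_add] at e1 e2
  obtain ⟨k1, k2⟩ := decompose_unique hbot (hU a _ x1.2) x1.2 (hW a _ x2.2) x2.2 e1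
  obtain ⟨k3, k4⟩ := decompose_unique hbot (hU a _ y1.2) y1.2 (hW a _ y2.2) y2.2 e2
  have f1 : restrictUnits U hU a = 1 :=
    congrArg Subtype.val (hb1 ⟨_, a, rfl⟩ (Subtype.ext k1) (Subtype.ext k3))
  have f2 : restrictUnits W hW a = 1 :=
    congrArg Subtype.val (hb2 ⟨_, a, rfl⟩ (Subtype.ext k2) (Subtype.ext k4))
  refine FaithfulSMul.eq_of_smul_eq_smul (α := V) fun v => ?_
  obtain ⟨u, hu, w, hw, rfl⟩ := AddSubgroup.mem_sup.1 (htop ▸ AddSubgroup.mem_top v)
  rw [one_smul, smul_add]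
  have g1 : a • u = u := by
    have := congrArg (fun z : (AddMonoid.End U)ˣ => (((z : AddMonoid.End U) ⟨u, hu⟩ : U) : V)) f1
    exact this
  have g2 : a • w = w := by
    have := congrArg (fun z : (AddMonoid.End W)ˣ => (((z : AddMonoid.End W) ⟨w, hw⟩ : W) : V)) f2
    exact this
  rw [g1, g2]

theorem range_solvable [Group.IsSolvable A] {H : Type u} [Group H] (f : A →* H) :
    Group.IsSolvable f.range :=
  isSolvable_range f

/-- An imprimitive group. -/
theorem base2_system {p : ℕ} [hp : Fact p.Prime] (hp2 : p ≠ 2) [Finite A] [Finite V]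
    [FaithfulSMul A V] [Group.IsSolvable A] (s : System A V) (hA : ¬ p ∣ Nat.card A)
    (hV : ∀ v : V, p • v = 0) (hirr : IsIrr A V) (hlin : CopBelow.{u} p (Nat.card V)) :
    Base2 A V := by
  classical
  haveI := hirr.1
  haveI := s.transitive hirr
  haveI : Nonempty s.I := Fintype.card_pos_iff.1 (by have := s.two_le; omega)
  obtain ⟨i0⟩ := (inferInstance : Nonempty s.I)
  set St := MulAction.stabilizer A i0 with hSt
  set W0 := s.W i0 with hW0
  have hStW : ∀ a : St, ∀ v ∈ W0, a • v ∈ W0 := fun a v hv => by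
    have := s.maps (a : A) i0 v hv
    rwa [MulAction.mem_stabilizer_iff.1 a.2] at this
  set ρ := restrictUnits W0 hStW with hρ
  have hex : ∀ i : s.I, ∃ a : A, a • i0 = i := fun i => MulAction.exists_smul_eq A i0 i
  choose gs hgs using hex
  haveI hWn : Nontrivial W0 := (AddSubgroup.nontrivial_iff_ne_bot W0).2 (s.ne_bot i0)
  have hgsmem : ∀ (i : s.I) (w : W0), gs i • (w : V) ∈ s.W i := fun i w => by
    have := s.maps (gs i) i0 w w.2
    rwa [hgs] at this
  have hback : ∀ (i : s.I), ∀ v ∈ s.W i, (gs i)⁻¹ • v ∈ W0 := fun i v hv => by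
    have := s.maps (gs i)⁻¹ i v hv
    rwa [show (gs i)⁻¹ • i = i0 by rw [inv_smul_eq_iff, hgs]] at this
  have hVk := s.card_V hirr i0
  have hW2 : 2 ≤ Nat.card W0 := Finite.one_lt_card
  have hWlt : Nat.card W0 < Nat.card V := by
    rw [hVk]
    calc Nat.card W0 = Nat.card W0 ^ 1 := (pow_one _).symm
      _ < _ := Nat.pow_lt_pow_right hW2 (by have := s.two_le; omega)
  haveI : Group.IsSolvable St := isSolvable_subgroup St
  haveI := isSolvable_range ρ
  obtain ⟨x, y, hx0, hxy⟩ := (hlin ρ.range W0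
    (not_dvd_of_dvd hA ((Subgroup.card_range_dvd ρ).trans (Subgroup.card_subgroup_dvd_card St)))
    (fun w => Subtype.ext (by simpa using hV (w : V))) hWlt).ne_zero
  set φ := MulAction.toPermHom A s.I with hφ
  haveI := isSolvable_range φ
  obtain ⟨c, hc⟩ := exists_colour hp2 _ φ.range s.I
    (not_dvd_of_dvd hA (Subgroup.card_range_dvd φ)) rfl
  let X : s.I → W0 := fun _ => x
  let Y : s.I → W0 := fun i => y + (c i).val • x
  refine ⟨∑ i, gs i • (X i : V), ∑ i, gs i • (Y i : V), fun a e1 e2 => ?_⟩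
  have key : ∀ (Z : s.I → W0), a • ∑ i, gs i • (Z i : V) = ∑ i, gs i • (Z i : V) →
      ∀ i, a • gs i • (Z i : V) = gs (a • i) • (Z (a • i) : V) := by
    intro Z e i
    rw [Finset.smul_sum] at e
    rw [Fintype.sum_equiv (MulAction.toPerm a)
      (fun j => a • gs j • (Z j : V)) (fun j => a • gs (a⁻¹ • j) • (Z (a⁻¹ • j) : V))
      (fun j => by simp)] at e
    have := congrFun (s.eq_of_sum_eq (fun j => by
      have h := s.maps a (a⁻¹ • j) _ (hgsmem (a⁻¹ • j) (Z (a⁻¹ • j)))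
      rwa [smul_inv_smul] at h) (fun j => hgsmem j (Z j)) e) (a • i)
    simpa using this
  have hh : ∀ i, ∃ h : St, a * gs i = gs (a • i) * h := fun i =>
    ⟨⟨(gs (a • i))⁻¹ * (a * gs i), by
      rw [MulAction.mem_stabilizer_iff, mul_smul, mul_smul, hgs, inv_smul_eq_iff, hgs]⟩, by group⟩
  choose h hhe using hh
  have hact : ∀ (Z : s.I → W0), a • ∑ i, gs i • (Z i : V) = ∑ i, gs i • (Z i : V) →
      ∀ i, (⟨ρ (h i), h i, rfl⟩ : ρ.range) • Z i = Z (a • i) := by
    intro Z e i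
    refine Subtype.ext (MulAction.injective (gs (a • i)) ?_)
    show gs (a • i) • ((h i : A) • (Z i : V)) = gs (a • i) • (Z (a • i) : V)
    rw [← key Z e i, ← mul_smul, ← hhe i, mul_smul]
  have hX : ∀ i, (⟨ρ (h i), h i, rfl⟩ : ρ.range) • x = x := fun i => hact X e1 i
  have hzero : ∀ i, c (a • i) = c i ∧ ρ (h i) = 1 := by
    intro i
    set k : ρ.range := ⟨ρ (h i), h i, rfl⟩ with hk
    set δ : ℤ := ((c (a • i)).val : ℤ) - (c i).val with hδ
    have hy : k • y = y + δ • x := by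
      have h1 := hact Y e2 i
      simp only [Y, smul_add] at h1
      rw [show k • ((c i).val • x) = (c i).val • (k • x) from
        map_nsmul (DistribSMul.toAddMonoidHom W0 k) _ _, hX i, ← eq_sub_iff_add_eq] at h1
      rw [h1, hδ, sub_zsmul, natCast_zsmul, natCast_zsmul]
      abel
    have hiter : ∀ n : ℕ, (k ^ n) • y = y + (n * δ) • x := by
      intro n
      induction n with
      | zero => simp
      | succ n ih =>
        rw [pow_succ', mul_smul, ih, smul_add, hy,
          show k • (((n : ℤ) * δ) • x) = ((n : ℤ) * δ) • (k • x) from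
            map_zsmul (DistribSMul.toAddMonoidHom W0 k) _ _, hX i, add_assoc, ← add_zsmul]
        congr 2
        push_cast
        ring
    have hn := hiter (orderOf k)
    rw [pow_orderOf_eq_one, one_smul, left_eq_add] at hn
    have hdvd : (p : ℤ) ∣ (orderOf k : ℤ) * δ := by
      have hxo : addOrderOf x = p := addOrderOf_eq_prime
        (Subtype.ext (by simpa using hV (x : V))) hx0
      rw [← hxo]
      exact addOrderOf_dvd_iff_zsmul_eq_zero.2 hn
    have hδ0 : c (a • i) = c i := by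
      rcases (Nat.prime_iff_prime_int.1 hp.out).dvd_mul.1 hdvd with h0 | h0
      · exfalso
        exact hA ((Int.natCast_dvd_natCast.1 h0).trans ((orderOf_dvd_natCard k).trans
          ((Subgroup.card_range_dvd ρ).trans (Subgroup.card_subgroup_dvd_card St))))
      · have h2 : ((δ : ℤ) : ZMod p) = 0 := (ZMod.intCast_zmod_eq_zero_iff_dvd δ p).2 h0
        rw [hδ] at h2
        push_cast at h2
        rw [ZMod.natCast_zmod_val, ZMod.natCast_zmod_val, sub_eq_zero] at h2
        exact h2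
    refine ⟨hδ0, congrArg Subtype.val (hxy k (hX i) ?_)⟩
    rw [hy, hδ, hδ0, sub_self, zero_zsmul, add_zero]
  have hfix : ∀ i, a • i = i := fun i =>
    Equiv.congr_fun (congrArg Subtype.val (hc ⟨φ a, a, rfl⟩ fun j => (hzero j).1)) i
  refine FaithfulSMul.eq_of_smul_eq_smul (α := V) fun v => ?_
  obtain ⟨f, hf, rfl⟩ := s.exists_sum v
  rw [one_smul, Finset.smul_sum]
  refine Finset.sum_congr rfl fun i _ => ?_
  have h1 := congrArg (fun z : (AddMonoid.End W0)ˣ =>
    (((z : AddMonoid.End W0) ⟨_, hback i _ (hf i)⟩ : W0) : V)) (hzero i).2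
  have h2 : ((h i : A)) • ((gs i)⁻¹ • f i) = (gs i)⁻¹ • f i := h1
  calc a • f i = (a * gs i) • ((gs i)⁻¹ • f i) := by rw [mul_smul, smul_inv_smul]
    _ = gs (a • i) • ((h i : A) • ((gs i)⁻¹ • f i)) := by rw [hhe i, mul_smul]
    _ = f i := by rw [h2, hfix i, smul_inv_smul]

/-- The semilinear step: a pair for the centraliser of `N` gives a pair. -/
theorem base2_of_centralizer {p : ℕ} [hp : Fact p.Prime] [Finite A] [Finite V] [FaithfulSMul A V]
    (hA : ¬ p ∣ Nat.card A) (hV : ∀ v : V, p • v = 0) (hirr : IsIrr A V)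
    (hprim : IsEmpty (System A V)) (N : Subgroup A) [N.Normal]
    (hab : ∀ x ∈ N, ∀ y ∈ N, x * y = y * x)
    (h : ∃ x z : V, x ≠ 0 ∧
      ∀ c ∈ Subgroup.centralizer (N : Set A), c • x = x → c • z = z → c = 1) : Base2 A V := by
  classical
  obtain ⟨x, z, hx0, hxz⟩ := h
  set K := gen (V := V) N with hK
  letI : Field K := (gen_isField hirr hprim N hab).toField
  haveI : Finite K := Subtype.finite
  obtain ⟨ω, hω⟩ := IsCyclic.exists_generator (α := Kˣ)
  let ev : K →+ V := AddMonoidHom.mk' (fun k => k.1 x) fun a b => rfl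
  set U := ev.range with hUdef
  have hconj : ∀ (a : A) (k : K), a • k.1 x =
      ((⟨toEnd a * k.1 * toEnd a⁻¹, conj_mem_gen a k.2⟩ : K)).1 (a • x) := fun a k => by
    show a • k.1 x = (toEnd a : AddMonoid.End V) (k.1 ((toEnd a⁻¹ : AddMonoid.End V) (a • x)))
    rw [toEnd_apply, toEnd_apply, inv_smul_smul]
  have hU : ∀ a : MulAction.stabilizer A x, ∀ v ∈ U, a • v ∈ U := by
    rintro ⟨a, ha⟩ _ ⟨k, rfl⟩
    refine ⟨⟨toEnd a * k.1 * toEnd a⁻¹, conj_mem_gen a k.2⟩, ?_⟩
    show (toEnd a * k.1 * toEnd a⁻¹ : AddMonoid.End V) x = a • k.1 x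
    rw [hconj a k, MulAction.mem_stabilizer_iff.1 ha]
  obtain ⟨W, hW, hbot, htop⟩ := exists_invariant_compl (A := MulAction.stabilizer A x)
    (not_dvd_of_dvd hA (Subgroup.card_subgroup_dvd_card _)) hV U hU
  obtain ⟨_, ⟨lam, rfl⟩, w, hw, hz⟩ := AddSubgroup.mem_sup.1 (htop ▸ AddSubgroup.mem_top z)
  refine ⟨x, (ω : K).1 x + w, fun a h1 h2 => ?_⟩
  rw [smul_add] at h2
  have ha : a ∈ MulAction.stabilizer A x := MulAction.mem_stabilizer_iff.2 h1
  obtain ⟨k1, k2⟩ := decompose_unique hbot (hU ⟨a, ha⟩ _ ⟨(ω : K), rfl⟩) ⟨(ω : K), rfl⟩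
    (hW ⟨a, ha⟩ w hw) hw h2
  have k1' : ((⟨toEnd a * (ω : K).1 * toEnd a⁻¹, conj_mem_gen a (ω : K).2⟩ : K)).1 x
      = (ω : K).1 x := by
    have := hconj a (ω : K)
    rw [h1] at this
    rw [← this]
    exact k1
  have heq : (⟨toEnd a * (ω : K).1 * toEnd a⁻¹, conj_mem_gen a (ω : K).2⟩ : K) = (ω : K) := by
    by_contra hne
    obtain ⟨v, hv⟩ := (gen_isField hirr hprim N hab).mul_inv_cancel (sub_ne_zero.2 hne)
    rw [(gen_isField hirr hprim N hab).mul_comm] at hv
    have h3 := DFunLike.congr_fun (congrArg Subtype.val hv) x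
    change v.1 (((⟨toEnd a * (ω : K).1 * toEnd a⁻¹, conj_mem_gen a (ω : K).2⟩ : K)).1 x
      - (ω : K).1 x) = x at h3
    rw [k1', sub_self, map_zero] at h3
    exact hx0 h3.symm
  have hω' : (toEnd a : AddMonoid.End V) * (ω : K).1 = (ω : K).1 * toEnd a := by
    conv_rhs => rw [← congrArg Subtype.val heq]
    simp only [mul_assoc, ← map_mul, inv_mul_cancel, map_one, mul_one]
  have haC : a ∈ Subgroup.centralizer (N : Set A) := by
    refine Subgroup.mem_centralizer_iff.2 fun n hn => (toEnd_injective (V := V) ?_).symm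
    rw [map_mul, map_mul]
    let kn : K := ⟨toEnd n, toEnd_mem_gen hn⟩
    have hn0 : kn ≠ 0 := fun e => hx0 (by
      have h3 : n • x = 0 := DFunLike.congr_fun (congrArg Subtype.val e) x
      exact (smul_eq_zero_iff_eq n).1 h3)
    obtain ⟨j, hj⟩ := (Submonoid.mem_powers_iff _ _).1
      (mem_powers_iff_mem_zpowers.2 (hω (Units.mk0 kn hn0)))
    have hj' : (toEnd n : AddMonoid.End V) = ((ω : K).1) ^ j := by
      have := congrArg (fun u : Kˣ => ((u : K) : AddMonoid.End V)) hj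
      simpa [kn] using this.symm
    rw [hj']
    exact (Commute.pow_right hω' j).eq
  refine hxz a haC h1 ?_
  rw [← hz, smul_add, show a • w = w from k2]
  refine congrArg (· + w) ?_
  show a • lam.1 x = lam.1 x
  have h4 := DFunLike.congr_fun (commute_of_centralizes haC lam.2) x
  change a • lam.1 x = lam.1 (a • x) at h4
  rw [h4, h1]

end CfsgLib.Char.CoprimeBase
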