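import Cfsg.Agent.Lib.Char.CoprimeBase.Homogeneous
import Cfsg.Agent.Lib.Char.CoprimeBase.Reduce

/-!
# A reducible Heisenberg type normal subgroup splits the space as a tensor product
-/

set_option autoImplicit false
set_option linter.unusedSectionVars false
set_option linter.style.haveILetI false

namespace CfsgLib.Char.CoprimeBase

universe u

variable {K V : Type u} [Field K] [AddCommGroup V] [Module K V] [Finite V]

/-- An independent pair with trivial common stabiliser, in dimension at least two. -/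
theorem exists_independent_pair {W : Type u} [AddCommGroup W] [Module K W] [Finite W]
    (H : Subgroup (W ≃ₗ[K] W)) (hb : Base2 H W) (hdim : ∀ a : W, ∃ b : W, b ∉ K ∙ a) :
    ∃ a b : W, a ≠ 0 ∧ b ∉ K ∙ a ∧ ∀ h ∈ H, h a = a → h b = b → h = 1 := by
  obtain ⟨b0, hb0⟩ := hdim 0
  haveI : Nontrivial W := ⟨⟨b0, 0, fun e => hb0 (by rw [e]; exact zero_mem _)⟩⟩
  obtain ⟨a, b, ha, h⟩ := hb.ne_zero
  by_cases hab : b ∈ K ∙ a
  · obtain ⟨b', hb'⟩ := hdim a
    refine ⟨a, b', ha, hb', fun g hg e1 _ => ?_⟩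
    obtain ⟨c, rfl⟩ := Submodule.mem_span_singleton.1 hab
    exact congrArg Subtype.val (h ⟨g, hg⟩ e1 (by
      show g (c • a) = c • a
      rw [map_smul, e1]))
  · exact ⟨a, b, ha, hab, fun g hg e1 e2 => congrArg Subtype.val (h ⟨g, hg⟩ e1 e2)⟩

theorem natCast_card_ne_zero {p : ℕ} [hp : Fact p.Prime] [Nontrivial V] (hV : ∀ v : V, p • v = 0) :
    (p : K) = 0 := by
  obtain ⟨v, hv⟩ := exists_ne (0 : V)
  have h := hV v
  rw [← Nat.cast_smul_eq_nsmul K] at h
  exact (smul_eq_zero.1 h).resolve_right hv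

/-- A group with a reducible normal Heisenberg type subgroup has a base of size two. -/
theorem base2_tensor {p : ℕ} [hp : Fact p.Prime] [Finite K] (G : Subgroup (V ≃ₗ[K] V))
    [Group.IsSolvable G] (hG : ¬ p ∣ Nat.card G) (E : Subgroup (V ≃ₗ[K] V)) (hE : Heis E)
    (hnorm : ∀ g ∈ G, ∀ d ∈ E, g * d * g⁻¹ ∈ E) (hns : ∃ d ∈ E, d ∉ scalars K V)
    (hred : ∃ U : Submodule K V, EInv E U ∧ U ≠ ⊥ ∧ U ≠ ⊤) (hV : ∀ v : V, p • v = 0)
    (hlin : CopBelow.{u} p (Nat.card V)) :
    ∃ x y : V, x ≠ 0 ∧ ∀ g ∈ G, g x = x → g y = y → g = 1 := by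
  classical
  obtain ⟨Ur, hUr, hUr0, hUr1⟩ := hred
  obtain ⟨U, hUle, hU⟩ := exists_eIrr hUr0 hUr
  have hUtop : U ≠ ⊤ := fun e => hUr1 (top_le_iff.1 (e ▸ hUle))
  haveI : Nontrivial U := (Submodule.nontrivial_iff_ne_bot).2 hU.1
  haveI : Nontrivial V := Subtype.val_injective.nontrivial (α := U)
  have hpK : (p : K) = 0 := natCast_card_ne_zero hV
  set T := homE E U hU.2.1 with hT
  haveI : Finite (U →ₗ[K] V) :=
    Finite.of_injective (fun f : U →ₗ[K] V => (⇑f : U → V)) DFunLike.coe_injective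
  -- dimensions
  have hdimU : ∀ a : U, ∃ b : U, b ∉ K ∙ a := by
    intro a
    by_contra hc
    push Not at hc
    obtain ⟨d, hd, hds⟩ := hns
    obtain ⟨u0, hu0⟩ := exists_ne (0 : U)
    have ha : a ≠ 0 := fun e => hu0 (by simpa [e] using hc u0)
    obtain ⟨c, hc'⟩ := Submodule.mem_span_singleton.1 (hc ⟨d a, hU.2.1 d hd a a.2⟩)
    have hcU : ∀ u ∈ U, d u = c • u := by
      intro u hu
      obtain ⟨k, hk⟩ := Submodule.mem_span_singleton.1 (hc ⟨u, hu⟩)
      have h1 : u = k • (a : V) := (congrArg Subtype.val hk).symm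
      have h2 : c • (a : V) = d a := congrArg Subtype.val hc'
      rw [h1, LinearEquiv.map_smul, ← h2, smul_comm]
    have h0 := hE.indep hU.2.1 hU.1 ![d, 1] (fun i => by fin_cases i <;> simp [hd])
      (fun i j hij h => by
        refine hds ?_
        fin_cases i <;> fin_cases j <;> first
          | exact absurd rfl hij
          | simpa [Congr] using h
          | simpa [Congr] using inv_mem h)
      ![1, -c] (fun u hu => by simp [Fin.sum_univ_two, hcU u hu]) 0
    simp at h0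
  have hTinj : ∀ f ∈ T, f ≠ 0 → Function.Injective f := fun f hf hf0 => homE_injective hU hf hf0
  have hsum := fun (f g : U →ₗ[K] V) (hf : f ∈ T) (hg : g ∈ T) (a b : U) (h : f a + g b = 0)
    (φ : U →ₗ[K] K) => homE_sum_zero hE hU hf hg h φ
  have hspan : ∀ v : V, v ≠ 0 → ∃ f ∈ T, f ≠ 0 := by
    intro v hv
    obtain ⟨n, f, b, hf, hs, -⟩ := exists_homE_sum hE hU v
    by_contra h
    push Not at h
    refine hv (hs.trans (Finset.sum_eq_zero fun i _ => ?_))
    rw [h _ (hf i), LinearMap.zero_apply]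
  haveI : Nontrivial T := by
    obtain ⟨v, hv⟩ := exists_ne (0 : V)
    obtain ⟨f, hf, hf0⟩ := hspan v hv
    exact ⟨⟨⟨f, hf⟩, 0, fun e => hf0 (congrArg Subtype.val e)⟩⟩
  have hdimT : ∀ a : T, ∃ b : T, b ∉ K ∙ a := by
    intro a
    by_contra hc
    push Not at hc
    obtain ⟨f0, hf0⟩ := exists_ne (0 : T)
    have ha : a ≠ 0 := fun e => hf0 (by simpa [e] using hc f0)
    have hrange : LinearMap.range (a : U →ₗ[K] V) = ⊤ := by
      refine Submodule.eq_top_iff'.2 fun v => ?_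
      obtain ⟨n, f, b, hf, hs, -⟩ := exists_homE_sum hE hU v
      rw [hs]
      refine sum_mem fun i _ => ?_
      obtain ⟨c, hc'⟩ := Submodule.mem_span_singleton.1 (hc ⟨f i, hf i⟩)
      refine ⟨c • b i, ?_⟩
      rw [map_smul]
      exact LinearMap.congr_fun (congrArg Subtype.val hc') (b i)
    have hainj := hTinj a a.2 (fun e => ha (Subtype.ext e))
    let S : Submodule K V := ((Ur.comap (a : U →ₗ[K] V))).map U.subtype
    rcases hU.2.2 S (Submodule.map_subtype_le _ _) (by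
      rintro d hd _ ⟨u, hu, rfl⟩
      exact ⟨⟨d u, hU.2.1 d hd u u.2⟩, by
        show (a : U →ₗ[K] V) _ ∈ Ur
        rw [a.2 d hd u]
        exact hUr d hd _ hu, rfl⟩) with e | e
    · obtain ⟨v, hv, hv0⟩ := (Submodule.ne_bot_iff _).1 hUr0
      obtain ⟨u, rfl⟩ : v ∈ LinearMap.range (a : U →ₗ[K] V) := by rw [hrange]; trivial
      have : (u : V) ∈ S := ⟨u, hv, rfl⟩
      rw [e, Submodule.mem_bot] at this
      exact hv0 (by rw [show u = 0 from Subtype.ext this, map_zero])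
    · refine hUr1 (Submodule.eq_top_iff'.2 fun v => ?_)
      obtain ⟨u, rfl⟩ : v ∈ LinearMap.range (a : U →ₗ[K] V) := by rw [hrange]; trivial
      obtain ⟨w, hw, hwu⟩ : (u : V) ∈ S := by rw [e]; exact u.2
      rw [← show w = u from Subtype.ext hwu]
      exact hw
  -- the pairs
  let P : Subgroup ((V ≃ₗ[K] V) × (U ≃ₗ[K] U)) :=
    { carrier := {q | q.1 ∈ G ∧ ∀ d (hd : d ∈ E) (u : U),
        ((q.2 ⟨d u, hU.2.1 d hd u u.2⟩ : U) : V) = (q.1 * d * q.1⁻¹) (q.2 u)}
      one_mem' := ⟨one_mem G, fun d hd u => by simp⟩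
      mul_mem' := fun {q r} hq hr => ⟨mul_mem hq.1 hr.1, fun d hd u => by
        have hd' := hnorm _ hr.1 d hd
        have h1 : r.2 ⟨d u, hU.2.1 d hd u u.2⟩ =
            ⟨(r.1 * d * r.1⁻¹) (r.2 u), hU.2.1 _ hd' _ (r.2 u).2⟩ := Subtype.ext (hr.2 d hd u)
        show ((q.2 (r.2 ⟨d u, hU.2.1 d hd u u.2⟩) : U) : V) = _
        rw [h1, hq.2 _ hd' (r.2 u)]
        refine LinearEquiv.congr_fun ?_ _
        simp only [Prod.fst_mul]
        group⟩
      inv_mem' := fun {q} hq => ⟨inv_mem hq.1, fun d hd u => by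
        have hd' : q.1⁻¹ * d * q.1 ∈ E := by
          have := hnorm _ (inv_mem hq.1) d hd
          rwa [inv_inv] at this
        have h1 : q.2 ⟨(q.1⁻¹ * d * q.1) (q.2⁻¹ u), hU.2.1 _ hd' _ (q.2⁻¹ u).2⟩ =
            (⟨d u, hU.2.1 d hd u u.2⟩ : U) := Subtype.ext (by
          rw [hq.2 _ hd' (q.2⁻¹ u), show q.1 * (q.1⁻¹ * d * q.1) * q.1⁻¹ = d by group]
          congr 2
          exact LinearEquiv.apply_symm_apply q.2 u)
        show ((q.2⁻¹ ⟨d u, hU.2.1 d hd u u.2⟩ : U) : V) = _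
        rw [← h1, show q.2⁻¹ (q.2 ⟨(q.1⁻¹ * d * q.1) (q.2⁻¹ u), hU.2.1 _ hd' _ (q.2⁻¹ u).2⟩) =
          ⟨(q.1⁻¹ * d * q.1) (q.2⁻¹ u), hU.2.1 _ hd' _ (q.2⁻¹ u).2⟩ from
          LinearEquiv.symm_apply_apply q.2 _]
        simp only [Prod.fst_inv, Prod.snd_inv, inv_inv]⟩ }
  have hsurj : ∀ g ∈ G, ∃ g1 : U ≃ₗ[K] U, (g, g1) ∈ P := by
    intro g hg
    have hgU : EIrr E (U.map (g : V →ₗ[K] V)) := by
      refine ⟨fun e => hU.1 ?_, ?_, fun W hW hWi => ?_⟩
      · exact (Submodule.map_eq_bot_iff (p := U) (e := g)).1 e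
      · rintro d hd _ ⟨u, hu, rfl⟩
        have hd' : g⁻¹ * d * g ∈ E := by
          have := hnorm _ (inv_mem hg) d hd
          rwa [inv_inv] at this
        exact ⟨_, hU.2.1 _ hd' u hu, LinearEquiv.apply_symm_apply g _⟩
      · rcases hU.2.2 (W.comap (g : V →ₗ[K] V)) (fun u hu => by
            obtain ⟨w, hw, e⟩ := hW hu
            rwa [← g.injective e])
          (fun d hd u hu => by
            show g (d u) ∈ W
            have := hWi _ (hnorm g hg d hd) (g u) hu
            rwa [LinearEquiv.mul_apply, LinearEquiv.mul_apply,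
              show g⁻¹ (g u) = u from LinearEquiv.symm_apply_apply g u] at this) with e | e
        · left
          rw [Submodule.eq_bot_iff] at e ⊢
          intro w hw
          obtain ⟨u, rfl⟩ := g.surjective w
          rw [e u hw, map_zero]
        · right
          refine le_antisymm hW ?_
          rintro _ ⟨u, hu, rfl⟩
          exact (show u ∈ W.comap (g : V →ₗ[K] V) by rw [e]; exact hu)
    obtain ⟨f, hf, hfinj, hfr⟩ := exists_homE_range hE hU hgU
    let ef : U ≃ₗ[K] U.map (g : V →ₗ[K] V) :=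
      (LinearEquiv.ofInjective f hfinj).trans (LinearEquiv.ofEq _ _ hfr)
    let g1 : U ≃ₗ[K] U := (g.submoduleMap U).trans ef.symm
    have hg1 : ∀ u : U, f (g1 u) = g (u : V) := fun u => by
      have h1 : ef (g1 u) = g.submoduleMap U u := ef.apply_symm_apply _
      exact congrArg Subtype.val h1
    refine ⟨g1, hg, fun d hd u => ?_⟩
    have hd' := hnorm g hg d hd
    have h1 : f (g1 ⟨d u, hU.2.1 d hd u u.2⟩) = f ⟨(g * d * g⁻¹) (g1 u), hU.2.1 _ hd' _ (g1 u).2⟩ := by
      rw [hg1, hf _ hd' (g1 u), hg1]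
      simp only [LinearEquiv.mul_apply]
      rw [show g⁻¹ (g (u : V)) = (u : V) from LinearEquiv.symm_apply_apply g u]
    exact congrArg Subtype.val (hfinj h1)
  -- the group of pairs is solvable of order prime to `p`
  have hscalP : ∀ c : Kˣ, ((1 : V ≃ₗ[K] V), (scal c : U ≃ₗ[K] U)) ∈ P := fun c =>
    ⟨one_mem G, fun d hd u => by simp [scal_apply, LinearEquiv.map_smul]⟩
  let π : P →* G :=
    { toFun := fun q => ⟨q.1.1, q.2.1⟩, map_one' := rfl, map_mul' := fun _ _ => rfl }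
  let ι : Kˣ →* P :=
    { toFun := fun c => ⟨_, hscalP c⟩
      map_one' := Subtype.ext (Prod.ext rfl (map_one scal))
      map_mul' := fun a b => Subtype.ext (Prod.ext (one_mul _).symm (map_mul scal a b)) }
  have hker : π.ker ≤ ι.range := by
    rintro ⟨⟨g, g1⟩, hq⟩ hk
    have hg1 : g = 1 := congrArg Subtype.val (MonoidHom.mem_ker.1 hk)
    subst hg1
    obtain ⟨c, hc⟩ := (exists_spanAlg_eq hE hU).1 (g1 : U →ₗ[K] U) fun d hd u => by
      simpa using hq.2 d hd u
    have hc0 : c ≠ 0 := fun e => by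
      obtain ⟨u0, hu0⟩ := exists_ne (0 : U)
      refine hu0 (g1.injective ?_)
      rw [map_zero]
      exact (hc u0).trans (by rw [e, zero_smul])
    exact ⟨Units.mk0 c hc0, Subtype.ext (Prod.ext rfl (LinearEquiv.ext fun u => (hc u).symm))⟩
  haveI : Group.IsSolvable P := Group.isSolvable_of_ker_le_range ι π hker
  have hP : ¬ p ∣ Nat.card P := by
    rw [← π.ker.card_mul_index, hp.out.dvd_mul, not_or]
    refine ⟨not_dvd_of_dvd ?_ ((Subgroup.card_dvd_of_le hker).trans (Subgroup.card_range_dvd ι)),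
      not_dvd_of_dvd hG (by rw [Subgroup.index_ker]; exact Subgroup.card_subgroup_dvd_card _)⟩
    intro hd
    rw [Nat.card_units] at hd
    have hQ : p ∣ Nat.card K := by
      haveI : CharP K p := (CharP.charP_iff_prime_eq_zero hp.out).2 hpK
      have := Fintype.ofFinite K
      rw [Nat.card_eq_fintype_card]
      exact (CharP.cast_eq_zero_iff K p _).1 (FiniteField.cast_card_eq_zero K)
    have h1 := Nat.dvd_sub hQ hd
    rw [Nat.sub_sub_self Nat.card_pos] at h1
    exact hp.out.one_lt.ne' (Nat.dvd_one.1 h1)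
  -- the two actions
  have hact : ∀ (q : P) (f : T), ((q.1.1 : V →ₗ[K] V).comp
      ((f : U →ₗ[K] V).comp (q.1.2.symm : U →ₗ[K] U))) ∈ T := by
    intro q f d hd u
    have h1 := (P.inv_mem q.2).2 d hd u
    have hd' : q.1.1⁻¹ * d * q.1.1 ∈ E := by
      have := hnorm _ (inv_mem q.2.1) d hd
      rwa [inv_inv] at this
    have h2 : q.1.2.symm ⟨d u, hU.2.1 d hd u u.2⟩ =
        ⟨(q.1.1⁻¹ * d * q.1.1) (q.1.2.symm u), hU.2.1 _ hd' _ (q.1.2.symm u).2⟩ := Subtype.ext (by
      have := h1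
      simp only [Prod.fst_inv, Prod.snd_inv, inv_inv] at this
      exact this)
    simp only [LinearMap.comp_apply, LinearEquiv.coe_coe]
    rw [h2, f.2 _ hd']
    simp only [LinearEquiv.mul_apply]
    exact LinearEquiv.apply_symm_apply q.1.1 _
  let θ : P → (T →ₗ[K] T) := fun q =>
    { toFun := fun f => ⟨_, hact q f⟩
      map_add' := fun f g => Subtype.ext (by
        simp only [Submodule.coe_add, LinearMap.add_comp, LinearMap.comp_add])
      map_smul' := fun c f => Subtype.ext (by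
        simp only [Submodule.coe_smul, LinearMap.smul_comp, LinearMap.comp_smul, RingHom.id_apply]) }
  have hθmul : ∀ q r, θ (q * r) = θ q * θ r := fun q r =>
    LinearMap.ext fun f => Subtype.ext (LinearMap.ext fun u => rfl)
  have hθone : θ 1 = 1 := LinearMap.ext fun f => Subtype.ext (LinearMap.ext fun u => rfl)
  let θhom : P →* (T →ₗ[K] T) := { toFun := θ, map_one' := hθone, map_mul' := hθmul }
  let θ2 : P →* (T ≃ₗ[K] T) :=
    (LinearMap.GeneralLinearGroup.generalLinearEquiv K T).toMonoidHom.comp θhom.toHomUnits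
  have hθ2 : ∀ (q : P) (f : T), ((θ2 q f : T) : U →ₗ[K] V) =
      (q.1.1 : V →ₗ[K] V).comp ((f : U →ₗ[K] V).comp (q.1.2.symm : U →ₗ[K] U)) := fun q f => rfl
  let θ1 : P →* (U ≃ₗ[K] U) := (MonoidHom.snd _ _).comp P.subtype
  haveI := isSolvable_range θ1
  haveI := isSolvable_range θ2
  have hcardU : Nat.card U < Nat.card V := by
    refine lt_of_le_of_ne (Nat.card_le_card_of_injective _ Subtype.val_injective) fun e => hUtop ?_
    have := Subtype.val_injective (p := fun x => x ∈ U) |>.bijective_of_nat_card_le e.ge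
    exact Submodule.eq_top_iff'.2 fun v => by obtain ⟨u, rfl⟩ := this.2 v; exact u.2
  have hcardT : Nat.card T < Nat.card V := by
    obtain ⟨a, ha⟩ := exists_ne (0 : U)
    obtain ⟨b, hb⟩ := hdimU a
    obtain ⟨φ, hφb, hφa⟩ := exists_dual_pair (K := K) hb
    obtain ⟨ψ, hψ⟩ := exists_dual_one (K := K) ha
    have hle : Nat.card T * Nat.card T ≤ Nat.card V := by
      rw [← Nat.card_prod]
      refine Nat.card_le_card_of_injective
        (fun q => (q.1 : U →ₗ[K] V) a + (q.2 : U →ₗ[K] V) b) fun q r e => ?_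
      have e' : ((q.1 - r.1 : T) : U →ₗ[K] V) a + ((q.2 - r.2 : T) : U →ₗ[K] V) b = 0 := by
        simp only [Submodule.coe_sub, LinearMap.sub_apply]
        rw [sub_add_sub_comm, sub_eq_zero]
        exact e
      have h2 := hsum _ _ (q.1 - r.1).2 (q.2 - r.2).2 a b e' φ
      rw [hφa, hφb, zero_smul, one_smul, zero_add] at h2
      have h3 : q.2 - r.2 = 0 := Subtype.ext h2
      have h1 := hsum _ _ (q.1 - r.1).2 (q.2 - r.2).2 a b e' ψ
      rw [h3, hψ, one_smul, Submodule.coe_zero, smul_zero, add_zero] at h1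
      exact Prod.ext (sub_eq_zero.1 (Subtype.ext h1)) (sub_eq_zero.1 h3)
    have h2T : 2 ≤ Nat.card T := Finite.one_lt_card
    calc Nat.card T < Nat.card T * Nat.card T := by
          have := Nat.mul_le_mul_right (Nat.card T) h2T
          omega
      _ ≤ Nat.card V := hle
  obtain ⟨a, b, ha, hab, hG1⟩ := exists_independent_pair θ1.range
    (hlin _ U (not_dvd_of_dvd hP (Subgroup.card_range_dvd θ1))
      (fun u => Subtype.ext (by simpa using hV (u : V))) hcardU) hdimU
  obtain ⟨y2, x2, hy2, hxy2, hG2⟩ := exists_independent_pair θ2.range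
    (hlin _ T (not_dvd_of_dvd hP (Subgroup.card_range_dvd θ2))
      (fun f => Subtype.ext (LinearMap.ext fun u => by simpa using hV ((f : U →ₗ[K] V) u))) hcardT)
    hdimT
  have hy2inj := hTinj _ y2.2 (fun e => hy2 (Subtype.ext e))
  refine ⟨(y2 : U →ₗ[K] V) a, (x2 : U →ₗ[K] V) a + (y2 : U →ₗ[K] V) b,
    fun e => ha (hy2inj (e.trans (map_zero _).symm)), fun g hg hY hX => ?_⟩
  obtain ⟨g1, hq⟩ := hsurj g hg
  have hgf : ∀ (q : P) (f : T) (u : U), q.1.1 ((f : U →ₗ[K] V) u) =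
      ((θ2 q f : T) : U →ₗ[K] V) (q.1.2 u) := fun q f u => by
    rw [hθ2]
    simp
  -- rescale so that `a` is fixed
  obtain ⟨μ, hμ⟩ : ∃ μ : Kˣ, (μ : K) • g1 a = a := by
    obtain ⟨φ, hφ⟩ := exists_dual_one (K := K) (a := g1 a)
      (fun e => ha (g1.map_eq_zero_iff.1 e))
    set q0 : P := ⟨(g, g1), hq⟩
    have h0 : ((θ2 q0 y2 : T) : U →ₗ[K] V) (g1 a) + ((-y2 : T) : U →ₗ[K] V) a = 0 := by
      rw [← hgf q0 y2 a, Submodule.coe_neg, LinearMap.neg_apply, show q0.1.1 = g from rfl, hY,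
        add_neg_cancel]
    have h1 := hsum _ _ (θ2 q0 y2).2 (-y2).2 _ _ h0 φ
    rw [hφ, one_smul, Submodule.coe_neg, smul_neg, add_neg_eq_zero] at h1
    have h2 : (y2 : U →ₗ[K] V) (φ a • g1 a) = (y2 : U →ₗ[K] V) a := by
      rw [map_smul, ← LinearMap.smul_apply, ← h1, ← hgf q0 y2 a]
      exact hY
    have h3 := hy2inj h2
    refine ⟨Units.mk0 (φ a) (fun e => ha ?_), h3⟩
    rw [← h3, e, zero_smul]
  set q : P := ι μ * ⟨(g, g1), hq⟩ with hqdef
  have hq1 : q.1.1 = g := one_mul g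
  have hq2 : q.1.2 a = a := hμ
  have hqy : θ2 q y2 = y2 := by
    obtain ⟨φ, hφ⟩ := exists_dual_one (K := K) ha
    have h0 : ((θ2 q y2 : T) : U →ₗ[K] V) a + ((-y2 : T) : U →ₗ[K] V) a = 0 := by
      conv_lhs => arg 1; rw [← hq2]
      rw [← hgf q y2 a, Submodule.coe_neg, LinearMap.neg_apply, hq1, hY, add_neg_cancel]
    have h1 := hsum _ _ (θ2 q y2).2 (-y2).2 _ _ h0 φ
    rw [hφ, one_smul, one_smul, Submodule.coe_neg, add_neg_eq_zero] at h1
    exact Subtype.ext h1
  -- the translation part vanishes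
  obtain ⟨c, hc⟩ : ∃ c : K, θ2 q x2 = x2 + c • y2 := by
    obtain ⟨φ, hφ⟩ := exists_dual_one (K := K) ha
    refine ⟨-(φ (q.1.2 b - b)), ?_⟩
    have h0 : ((θ2 q x2 - x2 : T) : U →ₗ[K] V) a + (y2 : U →ₗ[K] V) (q.1.2 b - b) = 0 := by
      have e1 := hgf q x2 a
      have e2 := hgf q y2 b
      rw [hq2, hq1] at e1
      rw [hqy, hq1] at e2
      rw [Submodule.coe_sub, LinearMap.sub_apply, map_sub, ← e1, ← e2]
      rw [map_add] at hX
      linear_combination (norm := abel) hX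
    have h1 := hsum _ _ (θ2 q x2 - x2).2 y2.2 _ _ h0 φ
    rw [hφ, one_smul] at h1
    have h2 : θ2 q x2 - x2 + φ (q.1.2 b - b) • y2 = 0 := Subtype.ext h1
    have h3 := eq_neg_of_add_eq_zero_left h2
    rw [sub_eq_iff_eq_add'] at h3
    rw [h3]
    exact congrArg (x2 + ·) (neg_smul (φ (q.1.2 b - b)) y2).symm
  have hc0 : c = 0 := by
    have hiter : ∀ n : ℕ, (θ2 q ^ n) x2 = x2 + (n * c) • y2 := by
      intro n
      induction n with
      | zero => simp
      | succ n ih =>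
        rw [pow_succ', LinearEquiv.mul_apply, ih, map_add, map_smul, hc, hqy, add_assoc,
          ← add_smul]
        congr 2
        push_cast
        ring
    have h := hiter (orderOf q)
    rw [← map_pow, pow_orderOf_eq_one, map_one] at h
    have h1 : ((orderOf q : K) * c) • y2 = 0 := left_eq_add.1 h
    rcases mul_eq_zero.1 ((smul_eq_zero.1 h1).resolve_right hy2) with h2 | h2
    · exfalso
      haveI : CharP K p := (CharP.charP_iff_prime_eq_zero hp.out).2 hpK
      exact hP (((CharP.cast_eq_zero_iff K p _).1 h2).trans (orderOf_dvd_natCard q))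
    · exact h2
  rw [hc0, zero_smul, add_zero] at hc
  have hb : q.1.2 b = b := by
    refine hy2inj ?_
    have e1 := hgf q x2 a
    have e2 := hgf q y2 b
    rw [hq1, hq2, hc] at e1
    rw [hq1, hqy] at e2
    rw [map_add, e1, e2] at hX
    exact add_left_cancel hX
  have hu1 : q.1.2 = 1 := hG1 _ ⟨q, rfl⟩ hq2 hb
  have hu2 : θ2 q = 1 := hG2 _ ⟨q, rfl⟩ hqy hc
  refine LinearEquiv.ext fun v => ?_
  obtain ⟨n, f, bv, hf, hs, -⟩ := exists_homE_sum hE hU v
  rw [hs, map_sum]
  refine Finset.sum_congr rfl fun i _ => ?_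
  have := hgf q ⟨f i, hf i⟩ (bv i)
  rw [hq1, hu1, hu2] at this
  exact this

end CfsgLib.Char.CoprimeBase
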