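import Cfsg.Agent.Lib.Char.CoprimeBase.Cases
import Cfsg.Agent.Lib.Char.CoprimeBase.Tensor

/-!
# Primitive coprime solvable groups: two vectors with trivial common stabiliser
-/

set_option autoImplicit false
set_option linter.unusedSectionVars false
set_option linter.style.haveILetI false

namespace CfsgLib.Char.CoprimeBase

open CfsgLib.Char.OddBase
open scoped commutatorElement

universe u

section Lift

variable {A V K : Type u} [Group A] [AddCommGroup V] [Field K] [Module K V] {C : Subgroup A}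
  (φ : C →* (V ≃ₗ[K] V))

/-- The group generated by the image of a subgroup of `C` and the scalars. -/
def liftG (S : Subgroup A) : Subgroup (V ≃ₗ[K] V) where
  carrier := {g | ∃ c : C, (c : A) ∈ S ∧ ∃ k : Kˣ, g = scal k * φ c}
  one_mem' := ⟨1, one_mem S, 1, by simp⟩
  mul_mem' := by
    rintro a b ⟨c, hc, k, rfl⟩ ⟨c', hc', k', rfl⟩
    refine ⟨c * c', mul_mem hc hc', k * k', ?_⟩
    rw [map_mul, map_mul, show scal k * φ c * (scal k' * φ c') = scal k * (φ c * scal k') * φ c' by group,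
      scal_comm k' (φ c)]
    group
  inv_mem' := by
    rintro a ⟨c, hc, k, rfl⟩
    refine ⟨c⁻¹, inv_mem hc, k⁻¹, ?_⟩
    rw [map_inv, map_inv]
    rw [mul_inv_rev]
    exact (Commute.symm (scal_comm k (φ c))).inv_inv.eq.symm

theorem mem_liftG {S : Subgroup A} {g : V ≃ₗ[K] V} :
    g ∈ liftG φ S ↔ ∃ c : C, (c : A) ∈ S ∧ ∃ k : Kˣ, g = scal k * φ c := Iff.rfl

theorem apply_mem_liftG {S : Subgroup A} {c : C} (hc : (c : A) ∈ S) : φ c ∈ liftG φ S :=
  ⟨c, hc, 1, by simp⟩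

theorem scal_mem_liftG (S : Subgroup A) (k : Kˣ) : scal k ∈ liftG φ S :=
  ⟨1, one_mem S, k, by simp⟩

theorem liftG_mono {S T : Subgroup A} (h : S ≤ T) : liftG φ S ≤ liftG φ T := by
  rintro g ⟨c, hc, k, rfl⟩
  exact ⟨c, h hc, k, rfl⟩

theorem liftG_normal {S : Subgroup A} (hS : S.Normal) :
    ∀ g ∈ liftG φ C, ∀ d ∈ liftG φ S, g * d * g⁻¹ ∈ liftG φ S := by
  rintro g ⟨c, -, k, rfl⟩ d ⟨e, he, k', rfl⟩
  refine ⟨c * e * c⁻¹, hS.conj_mem _ he _, k', ?_⟩
  rw [show scal k * φ c * (scal k' * φ e) * (scal k * φ c)⁻¹ =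
    scal k * (φ c * scal k') * φ e * (φ c)⁻¹ * (scal k)⁻¹ by group, scal_comm k' (φ c),
    show scal k * (scal k' * φ c) * φ e * (φ c)⁻¹ * (scal k)⁻¹ =
      scal k * (scal k' * (φ c * φ e * (φ c)⁻¹)) * (scal k)⁻¹ by group,
    ← scal_comm k (scal k' * (φ c * φ e * (φ c)⁻¹)), mul_inv_cancel_right, map_mul, map_mul, map_inv]

/-- The surjection onto the lift of `C`. -/
def prodHom : C × Kˣ →* (V ≃ₗ[K] V) where
  toFun x := scal x.2 * φ x.1
  map_one' := by simp
  map_mul' x y := by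
    rw [Prod.snd_mul, Prod.fst_mul, map_mul, map_mul,
      show scal x.2 * φ x.1 * (scal y.2 * φ y.1) = scal x.2 * (φ x.1 * scal y.2) * φ y.1 by group,
      scal_comm y.2 (φ x.1)]
    group

theorem liftG_eq_range : liftG φ C = (prodHom φ).range := by
  ext g
  constructor
  · rintro ⟨c, -, k, rfl⟩
    exact ⟨(c, k), rfl⟩
  · rintro ⟨⟨c, k⟩, rfl⟩
    exact ⟨c, c.2, k, rfl⟩

end Lift

theorem not_dvd_card_sub_one {p : ℕ} [hp : Fact p.Prime] (K : Type u) [Field K] [Finite K]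
    [CharP K p] : ¬ p ∣ Nat.card K - 1 := by
  intro hd
  have := Fintype.ofFinite K
  have hQ : p ∣ Nat.card K := by
    rw [Nat.card_eq_fintype_card]
    exact (CharP.cast_eq_zero_iff K p _).1 (FiniteField.cast_card_eq_zero K)
  have h1 := Nat.dvd_sub hQ hd
  rw [Nat.sub_sub_self Nat.card_pos] at h1
  exact hp.out.one_lt.ne' (Nat.dvd_one.1 h1)

/-- An irreducible subgroup of a group of Heisenberg type is the whole group. -/
theorem reducible_of_lt {K V : Type u} [Field K] [AddCommGroup V] [Module K V] [Finite V]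
    [Nontrivial V] {D E : Subgroup (V ≃ₗ[K] V)} (hD : Heis D) (hE : Heis E) (hED : E ≤ D)
    (hne : E ≠ D) : ∃ U : Submodule K V, EInv E U ∧ U ≠ ⊥ ∧ U ≠ ⊤ := by
  classical
  by_contra hcon
  push Not at hcon
  have htop : EIrr E (⊤ : Submodule K V) :=
    ⟨top_ne_bot, fun _ _ _ _ => Submodule.mem_top,
      fun U _ hU => or_iff_not_imp_left.2 fun h => hcon U hU h⟩
  obtain ⟨d, hd, hdE⟩ := SetLike.exists_of_lt (lt_of_le_of_ne hED hne)
  obtain ⟨r, hr, hr'⟩ := (exists_spanAlg_eq hE htop).2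
    (((d : V →ₗ[K] V)).restrict (p := (⊤ : Submodule K V)) (q := ⊤) fun _ _ => Submodule.mem_top)
  obtain ⟨k, e, he, hne', hcov⟩ := hE.exists_reps
  obtain ⟨c, hc⟩ := spanAlg_exists_coeff hE e hcov hr
  have hcontra := hD.indep (U := (⊤ : Submodule K V)) (fun _ _ _ _ => Submodule.mem_top) top_ne_bot
    (ι := Option (Fin k)) (fun i => i.elim d e) (fun i => by
      cases i
      · exact hd
      · exact hED (he _))
    (fun i j hij hcg => by
      have hsc : scalars K V ≤ E := by rintro _ ⟨c, rfl⟩; exact hE.scal_mem c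
      rcases i with _ | i <;> rcases j with _ | j
      · exact hij rfl
      · refine hdE ?_
        have h1 : (e j)⁻¹ * d ∈ E := hsc hcg
        have := mul_mem (he j) h1
        rwa [mul_inv_cancel_left] at this
      · refine hdE ?_
        have h1 : d⁻¹ * e i ∈ E := hsc hcg
        have := mul_mem (he i) (inv_mem h1)
        rwa [mul_inv_rev, inv_inv, mul_inv_cancel_left] at this
      · exact hne' i j (fun e => hij (congrArg some e)) hcg)
    (fun i => i.elim (1 : K) fun j => -c j) (fun u hu => by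
      rw [Fintype.sum_option]
      have h1 := hr' ⟨u, hu⟩
      rw [hc, LinearMap.sum_apply] at h1
      simp only [Option.elim, one_smul, neg_smul, Finset.sum_neg_distrib]
      rw [add_neg_eq_zero]
      exact h1.symm) none
  exact one_ne_zero hcontra

/-- The primitive case. -/
theorem base2_primitive {A V : Type u} [Group A] [Finite A] [AddCommGroup V] [Finite V]
    [DistribMulAction A V] [FaithfulSMul A V] [Group.IsSolvable A] {p : ℕ} [hp : Fact p.Prime]
    (hp2 : p ≠ 2) (hA : ¬ p ∣ Nat.card A) (hV : ∀ v : V, p • v = 0) (hirr : IsIrr A V)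
    (hprim : IsEmpty (System A V)) (hlin : CopBelow.{u} p (Nat.card V)) : Base2 A V := by
  classical
  haveI := hirr.1
  obtain ⟨N, D, hN, hD, hab, hmax, hND, hDC, hDD, hCCD⟩ := exists_series (A := A)
  haveI := hN
  haveI := hD
  refine base2_of_centralizer hA hV hirr hprim N hab ?_
  obtain ⟨x0, hx0⟩ := exists_ne (0 : V)
  set C := Subgroup.centralizer (N : Set A) with hCdef
  have hcN : ∀ c ∈ C, ∀ n ∈ N, Commute c n := fun c hc n hn =>
    (Subgroup.mem_centralizer_iff.1 hc n hn).symm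
  have hNC : N ≤ C := fun x hx => Subgroup.mem_centralizer_iff.2 fun y hy => hab y hy x hx
  by_cases hDN : D ≤ N
  · refine ⟨x0, 0, hx0, fun c hc h1 _ => ?_⟩
    by_contra hc1
    refine hx0 (fixed_eq_zero hirr hprim N hab (hCCD ⟨hc, ?_⟩) hc1 h1)
    exact Subgroup.mem_centralizer_iff.2 fun d hd => ((hcN c hc d (hDN hd)).eq).symm
  obtain ⟨p', m', hp', hQ, hidx⟩ := index_centralizer_le hirr hprim N hab
  letI : Field (gen (V := V) N) := (gen_isField hirr hprim N hab).toField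
  haveI : Finite (gen (V := V) N) := Subtype.finite
  letI : Module (gen (V := V) N) V :=
    { smul := fun z v => (z : AddMonoid.End V) v
      one_smul := fun v => rfl
      mul_smul := fun a b v => rfl
      smul_zero := fun a => map_zero (a : AddMonoid.End V)
      smul_add := fun a v w => map_add (a : AddMonoid.End V) v w
      add_smul := fun a b v => rfl
      zero_smul := fun v => rfl }
  haveI : CharP (gen (V := V) N) p := (CharP.charP_iff_prime_eq_zero hp.out).2 (natCast_card_ne_zero (V := V) hV)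
  -- the linear representation of `C`
  have hlinear : ∀ c : C, ∀ (z : (gen (V := V) N)) (v : V), (c : A) • (z • v) = z • ((c : A) • v) := fun c z v =>
    DFunLike.congr_fun (commute_of_centralizes c.2 z.2) v
  let φ : C →* (V ≃ₗ[(gen (V := V) N)] V) :=
    { toFun := fun c =>
        { toFun := fun v => (c : A) • v
          map_add' := fun v w => smul_add (c : A) v w
          map_smul' := fun z v => hlinear c z v
          invFun := fun v => (c : A)⁻¹ • v
          left_inv := fun v => inv_smul_smul (c : A) v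
          right_inv := fun v => smul_inv_smul (c : A) v }
      map_one' := LinearEquiv.ext fun v => one_smul A v
      map_mul' := fun a b => LinearEquiv.ext fun v => mul_smul (a : A) (b : A) v }
  have hφ : ∀ (c : C) (v : V), φ c v = (c : A) • v := fun c v => rfl
  have hφinj : Function.Injective φ := fun a b h =>
    Subtype.ext (FaithfulSMul.eq_of_smul_eq_smul (α := V) fun v => LinearEquiv.congr_fun h v)
  have hφN : ∀ c : C, (c : A) ∈ N → φ c ∈ scalars (gen (V := V) N) V := by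
    intro c hc
    let z : (gen (V := V) N) := ⟨toEnd (c : A), toEnd_mem_gen hc⟩
    have hz : z ≠ 0 := fun e => hx0 ((smul_eq_zero_iff_eq (c : A)).1
      (show (c : A) • x0 = 0 from DFunLike.congr_fun (congrArg Subtype.val e) x0))
    exact ⟨Units.mk0 z hz, LinearEquiv.ext fun v => rfl⟩
  have hsc : ∀ c : C, φ c ∈ scalars (gen (V := V) N) V → ∀ e : C, Commute (c : A) e := by
    rintro c ⟨k, hk⟩ e
    have h1 : φ (c * e) = φ (e * c) := by rw [map_mul, map_mul, ← hk, scal_comm]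
    exact congrArg Subtype.val (hφinj h1)
  have hcomm : ∀ x ∈ D, ∀ y ∈ D, ⁅x, y⁆ ∈ N := fun x hx y hy =>
    hDD (Subgroup.commutator_mem_commutator hx hy)
  -- Heisenberg type
  have hHeis : ∀ R : Subgroup A, R.Normal → N ≤ R → R ≤ D → Heis (liftG φ R) := by
    intro R hR hNR hRD
    refine ⟨scal_mem_liftG φ R, ?_, ?_⟩
    · rintro d ⟨a, ha, k, rfl⟩ e ⟨b, hb, k', rfl⟩
      obtain ⟨z, hz⟩ := hφN (b * a * b⁻¹ * a⁻¹) (by
        have := hcomm _ (hRD hb) _ (hRD ha)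
        rwa [commutatorElement_def] at this)
      refine ⟨z, ?_⟩
      have hba : φ b * φ a = scal z * (φ a * φ b) := by
        rw [hz, ← map_mul, ← map_mul, ← map_mul]
        congr 1
        group
      calc scal k' * φ b * (scal k * φ a) = scal k' * (φ b * scal k) * φ a := by group
        _ = scal k' * scal k * (φ b * φ a) := by rw [scal_comm k (φ b)]; group
        _ = scal k * scal k' * (scal z * (φ a * φ b)) := by
            rw [hba, ← map_mul, mul_comm k' k, map_mul]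
        _ = scal z * (scal k * scal k') * (φ a * φ b) := by
            rw [← mul_assoc, ← map_mul, ← map_mul, ← map_mul, ← map_mul]
            congr 2
            rw [mul_comm]
        _ = scal z * (scal k * (φ a * scal k') * φ b) := by rw [scal_comm k' (φ a)]; group
        _ = _ := by group
    · rintro d ⟨a, ha, k, rfl⟩ hcen
      have hac : (a : A) ∈ R ⊓ Subgroup.centralizer (R : Set A) := by
        refine ⟨ha, Subgroup.mem_centralizer_iff.2 fun e he => ?_⟩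
        have h1 := hcen (φ ⟨e, hDC (hRD he)⟩) (apply_mem_liftG φ he)
        rw [← mul_assoc, scal_comm k, mul_assoc, mul_assoc, ← map_mul, ← map_mul] at h1
        exact congrArg Subtype.val (hφinj (mul_left_cancel h1))
      haveI := hR
      have hZ : R ⊓ Subgroup.centralizer (R : Set A) = N := by
        refine hmax _ (Subgroup.normal_inf_normal _ _) (fun x hx y hy =>
          Subgroup.mem_centralizer_iff.1 hy.2 x hx.1) fun x hx => ⟨hNR hx, ?_⟩
        exact Subgroup.mem_centralizer_iff.2 fun r hr => (hcN r (hDC (hRD hr)) x hx).eq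
      exact mul_mem ⟨k, rfl⟩ (hφN a (hZ ▸ hac))
  set G := liftG φ C with hG
  set D' := liftG φ D with hD'
  haveI : Group.IsSolvable C := isSolvable_subgroup C
  haveI : Group.IsSolvable G := by
    rw [hG, liftG_eq_range]
    exact isSolvable_range (prodHom φ)
  have hGp : ¬ p ∣ Nat.card G := by
    rw [hG, liftG_eq_range]
    refine not_dvd_of_dvd ?_ (Subgroup.card_range_dvd _)
    rw [Nat.card_prod, hp.out.dvd_mul, not_or]
    refine ⟨not_dvd_of_dvd hA C.card_subgroup_dvd_card, ?_⟩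
    rw [Nat.card_units]
    exact not_dvd_card_sub_one (gen (V := V) N)
  have hnorm : ∀ R : Subgroup A, R.Normal → ∀ g ∈ G, ∀ d ∈ liftG φ R, g * d * g⁻¹ ∈ liftG φ R :=
    fun R hR => liftG_normal φ hR
  have hfinish : (∃ x y : V, x ≠ 0 ∧ ∀ g ∈ G, g x = x → g y = y → g = 1) →
      ∃ x z : V, x ≠ 0 ∧ ∀ c ∈ C, c • x = x → c • z = z → c = 1 := by
    rintro ⟨x, y, hx, h⟩
    refine ⟨x, y, hx, fun c hc h1 h2 => ?_⟩
    have h3 := h _ (apply_mem_liftG φ (c := ⟨c, hc⟩) hc) h1 h2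
    exact congrArg Subtype.val (hφinj (h3.trans (map_one φ).symm))
  refine hfinish ?_
  have hheisD : Heis D' := hHeis D hD hND le_rfl
  obtain ⟨d0, hd0, hd0N⟩ := SetLike.not_le_iff_exists.1 hDN
  have hmemN : ∀ a : C, (a : A) ∈ D → φ a ∈ scalars (gen (V := V) N) V → (a : A) ∈ N := fun a ha hs =>
    hCCD ⟨a.2, Subgroup.mem_centralizer_iff.2 fun e he => (hsc a hs ⟨e, hDC he⟩).eq.symm⟩
  have hlift : ∀ R : Subgroup A, R.Normal → N ≤ R → R ≤ D → liftG φ R = D' → R = D := by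
    intro R _ hNR hRD e
    refine le_antisymm hRD fun a ha => ?_
    obtain ⟨r, hr, k, hk⟩ : φ ⟨a, hDC ha⟩ ∈ liftG φ R := e ▸ apply_mem_liftG φ (S := D) ha
    have h1 := hmemN (⟨a, hDC ha⟩ * r⁻¹) (mul_mem ha (inv_mem (hRD hr)))
      ⟨k, by rw [map_mul, map_inv, hk, mul_inv_cancel_right]⟩
    have h2 := mul_mem (hNR h1) hr
    simp only [Subgroup.coe_mul, InvMemClass.coe_inv, inv_mul_cancel_right] at h2
    exact h2
  -- a reducible normal subgroup
  by_cases hexR : ∃ R : Subgroup A, R.Normal ∧ N ≤ R ∧ R ≤ D ∧ R ≠ N ∧ R ≠ D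
  · obtain ⟨R, hR, hNR, hRD, hRN, hRD'⟩ := hexR
    obtain ⟨a, ha, haN⟩ := SetLike.exists_of_lt (lt_of_le_of_ne hNR (Ne.symm hRN))
    exact base2_tensor G hGp (liftG φ R) (hHeis R hR hNR hRD) (hnorm R hR)
      ⟨φ ⟨a, hDC (hRD ha)⟩, apply_mem_liftG φ ha, fun hs => haN (hmemN _ (hRD ha) hs)⟩
      (reducible_of_lt hheisD (hHeis R hR hNR hRD) (liftG_mono φ hRD)
        fun e => hRD' (hlift R hR hNR hRD e)) hV hlin
  push Not at hexR
  have hnsD : ∃ d ∈ D', d ∉ scalars (gen (V := V) N) V :=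
    ⟨φ ⟨d0, hDC hd0⟩, apply_mem_liftG φ hd0, fun hs => hd0N (hmemN _ hd0 hs)⟩
  by_cases hred : ∃ U : Submodule (gen (V := V) N) V, EInv D' U ∧ U ≠ ⊥ ∧ U ≠ ⊤
  · exact base2_tensor G hGp D' hheisD (hnorm D hD) hnsD hred hV hlin
  push Not at hred
  -- the prime
  obtain ⟨l, hl, d1, hd1, hd1N, hd1l⟩ :
      ∃ l : ℕ, l.Prime ∧ ∃ d ∈ D, d ∉ N ∧ d ^ l ∈ N := by
    have hex : ∃ k, 0 < k ∧ d0 ^ k ∈ N :=
      ⟨orderOf d0, orderOf_pos d0, by rw [pow_orderOf_eq_one]; exact one_mem N⟩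
    obtain ⟨hk0, hkN⟩ := Nat.find_spec hex
    set k := Nat.find hex with hk
    have hk1 : k ≠ 1 := fun e => hd0N (by rw [e, pow_one] at hkN; exact hkN)
    obtain ⟨l, hl, j, hj⟩ := Nat.exists_prime_and_dvd hk1
    have hj0 : 0 < j := Nat.pos_of_ne_zero fun e => by rw [e, mul_zero] at hj; omega
    refine ⟨l, hl, d0 ^ j, pow_mem hd0 j, fun h => ?_, by rw [← pow_mul, mul_comm, ← hj]; exact hkN⟩
    refine Nat.find_min hex (m := j) ?_ ⟨hj0, h⟩
    rw [← hk, hj]
    exact lt_mul_of_one_lt_left hj0 hl.one_lt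
  haveI := Fact.mk hl
  have hmu : ∀ a : C, (a : A) ∈ D → φ a ∈ D' := fun a ha => apply_mem_liftG φ ha
  -- exponent `l` modulo `N`
  let R1 : Subgroup A :=
    { carrier := {d | d ∈ D ∧ d ^ l ∈ N}
      one_mem' := ⟨one_mem D, by rw [one_pow]; exact one_mem N⟩
      mul_mem' := fun {a b} ha hb => by
        refine ⟨mul_mem ha.1 hb.1, ?_⟩
        let q : D →* D ⧸ N.subgroupOf D := QuotientGroup.mk' (N.subgroupOf D)
        have hc : Commute (q ⟨a, ha.1⟩) (q ⟨b, hb.1⟩) := by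
          show q _ * q _ = q _ * q _
          rw [← map_mul, ← map_mul, QuotientGroup.mk'_eq_mk']
          refine ⟨⟨_, mul_mem (inv_mem (mul_mem ha.1 hb.1)) (mul_mem hb.1 ha.1)⟩, ?_, ?_⟩
          · refine Subgroup.mem_subgroupOf.2 ?_
            show (a * b)⁻¹ * (b * a) ∈ N
            have e : (a * b)⁻¹ * (b * a) = ⁅b⁻¹, a⁻¹⁆ := by rw [commutatorElement_def]; group
            rw [e]
            exact hcomm _ (inv_mem hb.1) _ (inv_mem ha.1)
          · refine Subtype.ext ?_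
            show a * b * ((a * b)⁻¹ * (b * a)) = b * a
            group
        have ea : q ((⟨a, ha.1⟩ : D) ^ l) = 1 :=
          (QuotientGroup.eq_one_iff _).2 (Subgroup.mem_subgroupOf.2 (by simpa using ha.2))
        have eb : q ((⟨b, hb.1⟩ : D) ^ l) = 1 :=
          (QuotientGroup.eq_one_iff _).2 (Subgroup.mem_subgroupOf.2 (by simpa using hb.2))
        have h1 : q ((⟨a, ha.1⟩ * ⟨b, hb.1⟩ : D) ^ l) = 1 := by
          rw [map_pow, map_mul, hc.mul_pow, ← map_pow, ← map_pow, ea, eb, one_mul]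
        have h2 := Subgroup.mem_subgroupOf.1 ((QuotientGroup.eq_one_iff _).1 h1)
        simpa using h2
      inv_mem' := fun {a} ha => ⟨inv_mem ha.1, by rw [inv_pow]; exact inv_mem ha.2⟩ }
  have hR1 : R1 = D := by
    refine hexR R1 ⟨fun d hd g => ⟨hD.conj_mem d hd.1 g, ?_⟩⟩ (fun n hn => ⟨hND hn, pow_mem hn l⟩)
      (fun d hd => hd.1) (fun e => hd1N (e ▸ (⟨hd1, hd1l⟩ : d1 ∈ R1)))
    rw [conj_pow]
    exact hN.conj_mem _ hd.2 g
  have hscalpow : ∀ a : C, (a : A) ∈ D → φ a ^ l ∈ scalars (gen (V := V) N) V := fun a ha => by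
    rw [← map_pow]
    exact hφN _ (by
      have : (a : A) ∈ R1 := hR1 ▸ ha
      rw [Subgroup.coe_pow]
      exact this.2)
  -- the scalars `l`-th powers
  let Pw : (gen (V := V) N)ˣ → Prop := fun x => ∃ c : (gen (V := V) N)ˣ, x = c ^ l ∨ (l = 2 ∧ x = -(c ^ l))
  have hPmul : ∀ x y, Pw x → Pw y → Pw (x * y) := by
    rintro x y ⟨c, hc⟩ ⟨c', hc'⟩
    refine ⟨c * c', ?_⟩
    rcases hc with rfl | ⟨e, rfl⟩ <;> rcases hc' with rfl | ⟨e', rfl⟩
    · exact Or.inl (mul_pow c c' l).symm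
    · exact Or.inr ⟨e', by rw [mul_neg, mul_pow]⟩
    · exact Or.inr ⟨e, by rw [neg_mul, mul_pow]⟩
    · exact Or.inl (by rw [neg_mul_neg, mul_pow])
  have hPinv : ∀ x, Pw x → Pw x⁻¹ := by
    rintro x ⟨c, rfl | ⟨e, rfl⟩⟩
    · exact ⟨c⁻¹, Or.inl (inv_pow c l).symm⟩
    · exact ⟨c⁻¹, Or.inr ⟨e, by rw [inv_neg, inv_pow]⟩⟩
  have hPl : ∀ c : (gen (V := V) N)ˣ, Pw (c ^ l) := fun c => ⟨c, Or.inl rfl⟩
  have hPc : ∀ {d e : V ≃ₗ[(gen (V := V) N)] V}, d ∈ D' → e ∈ D' → d ^ l ∈ scalars (gen (V := V) N) V →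
      Pw (cmt d e ^ (l * (l - 1) / 2)) := by
    intro d e hd he hp'
    have h1 := cmt_pow_eq_one hheisD hd he hp'
    by_cases hl2 : l = 2
    · subst hl2
      rcases eq_or_ne (cmt d e) 1 with e1 | e1
      · exact ⟨1, Or.inl (by rw [e1, one_pow, one_pow])⟩
      · exact ⟨1, Or.inr ⟨rfl, by rw [neg_one_of_pow_two h1 e1]; norm_num⟩⟩
    · obtain ⟨k, hk⟩ := hl.odd_of_ne_two hl2
      refine ⟨1, Or.inl ?_⟩
      rw [hk, show (2 * k + 1) * (2 * k + 1 - 1) / 2 = (2 * k + 1) * k by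
        rw [Nat.add_sub_cancel, show (2 * k + 1) * (2 * k) = (2 * k + 1) * k * 2 by ring,
          Nat.mul_div_cancel _ two_pos], pow_mul, ← hk, h1, one_pow, one_pow]
  let Nu : A → (gen (V := V) N)ˣ → Prop := fun a x => ∃ h : a ∈ D, φ ⟨a, hDC h⟩ ^ l = scal x
  have hnu : ∀ a ∈ D, ∃ x, Nu a x := fun a ha => by
    obtain ⟨x, hx⟩ := hscalpow ⟨a, hDC ha⟩ ha
    exact ⟨x, ha, hx.symm⟩
  have hnu_mul : ∀ a b x y, Nu a x → Nu b y → ∃ z, Pw z ∧ Nu (a * b) (z * (x * y)) := by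
    rintro a b x y ⟨ha, hx⟩ ⟨hb, hy⟩
    refine ⟨_, hPc (hmu ⟨a, hDC ha⟩ ha) (hmu ⟨b, hDC hb⟩ hb) ⟨x, hx.symm⟩, mul_mem ha hb, ?_⟩
    rw [show (⟨a * b, hDC (mul_mem ha hb)⟩ : C) = ⟨a, hDC ha⟩ * ⟨b, hDC hb⟩ from rfl, map_mul,
      mul_pow_cmt hheisD (hmu ⟨a, hDC ha⟩ ha) (hmu ⟨b, hDC hb⟩ hb), hx, hy, map_mul, map_mul]
  have hnu_uniq : ∀ a x y, Nu a x → Nu a y → x = y := by
    rintro a x y ⟨_, hx⟩ ⟨_, hy⟩
    exact scal_injective (hx.symm.trans hy)
  have hnuN : ∀ n ∈ N, ∃ x, Nu n x ∧ Pw x := by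
    intro n hn
    obtain ⟨k, hk⟩ := hφN ⟨n, hNC hn⟩ hn
    exact ⟨k ^ l, ⟨hND hn, by rw [map_pow, hk]⟩, hPl k⟩
  let R2 : Subgroup A :=
    { carrier := {a | ∃ x, Nu a x ∧ Pw x}
      one_mem' := hnuN 1 (one_mem N)
      mul_mem' := by
        rintro a b ⟨x, hx, hPx⟩ ⟨y, hy, hPy⟩
        obtain ⟨z, hz, hzn⟩ := hnu_mul a b x y hx hy
        exact ⟨_, hzn, hPmul _ _ hz (hPmul _ _ hPx hPy)⟩
      inv_mem' := by
        rintro a ⟨x, ⟨ha, hx⟩, hPx⟩
        refine ⟨x⁻¹, ⟨inv_mem ha, ?_⟩, hPinv x hPx⟩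
        rw [show (⟨a⁻¹, hDC (inv_mem ha)⟩ : C) = (⟨a, hDC ha⟩ : C)⁻¹ from rfl, map_inv, inv_pow, hx,
          ← map_inv] }
  have hR2n : R2.Normal := by
    refine ⟨fun a ha g => ?_⟩
    obtain ⟨x, ⟨haD, hx⟩, c, hc⟩ := ha
    let cj : (gen (V := V) N) → (gen (V := V) N) := fun z => ⟨toEnd g * z.1 * toEnd g⁻¹, conj_mem_gen g z.2⟩
    have hcj : ∀ (z : (gen (V := V) N)) (v : V), cj z • v = g • (z • (g⁻¹ • v)) := fun z v => rfl
    have hconj : ∀ (z : (gen (V := V) N)) (v : V), cj z • (g • v) = g • (z • v) := fun z v => by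
      rw [hcj, inv_smul_smul]
    have hcne : cj (c : (gen (V := V) N)) ≠ 0 := fun e => hx0 (by
      have h1 := hconj (c : (gen (V := V) N)) ((c : (gen (V := V) N))⁻¹ • (g⁻¹ • x0))
      rw [e, zero_smul, smul_inv_smul₀ c.ne_zero, smul_inv_smul] at h1
      exact h1.symm)
    have hnew : ∀ k : ℕ, ∀ v, (φ ⟨g * a * g⁻¹, hDC (hD.conj_mem a haD g)⟩ ^ k) v =
        g • ((φ ⟨a, hDC haD⟩ ^ k) (g⁻¹ • v)) := by
      intro k
      induction k with
      | zero => intro v; simp [smul_inv_smul]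
      | succ k ih =>
        intro v
        rw [pow_succ', LinearEquiv.mul_apply, ih, pow_succ', LinearEquiv.mul_apply, hφ, hφ]
        simp only [mul_smul, inv_smul_smul]
    have hpowc : ∀ k : ℕ, ∀ v : V, (c : (gen (V := V) N)) ^ k • v = g⁻¹ • (cj (c : (gen (V := V) N)) ^ k • (g • v)) := by
      intro k
      induction k with
      | zero => intro v; rw [pow_zero, pow_zero, one_smul, one_smul, inv_smul_smul]
      | succ k ih =>
        intro v
        rw [pow_succ, mul_smul, ih, pow_succ, mul_smul, hconj]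
    rcases hc with hc | ⟨hl2, hc⟩
    · refine ⟨Units.mk0 _ hcne ^ l, ⟨hD.conj_mem a haD g, LinearEquiv.ext fun v => ?_⟩, _, Or.inl rfl⟩
      rw [hnew, hx, hc, scal_apply, scal_apply, Units.val_pow_eq_pow_val, Units.val_pow_eq_pow_val,
        Units.val_mk0, hpowc, smul_inv_smul, smul_inv_smul]
    · refine ⟨-(Units.mk0 _ hcne ^ l), ⟨hD.conj_mem a haD g, LinearEquiv.ext fun v => ?_⟩, _,
        Or.inr ⟨hl2, rfl⟩⟩
      rw [hnew, hx, hc, scal_apply, scal_apply, Units.val_neg, Units.val_neg,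
        Units.val_pow_eq_pow_val, Units.val_pow_eq_pow_val, Units.val_mk0, neg_smul, neg_smul,
        smul_neg, hpowc, smul_inv_smul, smul_inv_smul]
  have hR2 : R2 = D := by
    refine hexR R2 hR2n hnuN (fun a ⟨x, ⟨ha, _⟩, _⟩ => ha) fun e => ?_
    -- otherwise `D` is abelian
    obtain ⟨γ, hγ⟩ := IsCyclic.exists_generator (α := (gen (V := V) N)ˣ)
    have hpow : ∀ a x, Nu a x → ∀ k : ℕ, ∃ z, Pw z ∧ Nu (a ^ k) (z * x ^ k) := by
      intro a x hx k
      induction k with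
      | zero =>
        obtain ⟨y, hy, hPy⟩ := hnuN 1 (one_mem N)
        exact ⟨y, hPy, by simpa using hy⟩
      | succ k ih =>
        obtain ⟨z, hz, hzn⟩ := ih
        obtain ⟨z', hz', hzn'⟩ := hnu_mul _ _ _ _ hzn hx
        refine ⟨z' * z, hPmul _ _ hz' hz, ?_⟩
        rw [pow_succ, pow_succ]
        simpa [mul_assoc] using hzn'
    refine hd1N (hCCD ⟨hDC hd1, Subgroup.mem_centralizer_iff.2 fun b hb => ?_⟩)
    obtain ⟨x, hx⟩ := hnu d1 hd1
    obtain ⟨y, hy⟩ := hnu b hb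
    obtain ⟨i, hi⟩ := Subgroup.mem_zpowers_iff.1 (hγ x)
    obtain ⟨j, hj⟩ := Subgroup.mem_zpowers_iff.1 (hγ y)
    have hil : ¬ (l : ℤ) ∣ i := by
      rintro ⟨q, hq⟩
      refine hd1N (e ▸ (⟨x, hx, ⟨γ ^ q, Or.inl ?_⟩⟩ : d1 ∈ R2))
      rw [← hi, hq, mul_comm, zpow_mul, zpow_natCast]
    obtain ⟨s, hs⟩ : ∃ s : ℕ, (l : ℤ) ∣ j + s * i := by
      have hne : ((i : ZMod l)) ≠ 0 := fun h => hil ((ZMod.intCast_zmod_eq_zero_iff_dvd i l).1 h)
      refine ⟨((-(j : ZMod l)) / (i : ZMod l)).val, (ZMod.intCast_zmod_eq_zero_iff_dvd _ l).1 ?_⟩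
      push_cast
      rw [ZMod.natCast_zmod_val, div_mul_cancel₀ _ hne, add_neg_cancel]
    obtain ⟨z, hz, hzn⟩ := hpow d1 x hx s
    obtain ⟨z', hz', hzn'⟩ := hnu_mul _ _ _ _ hy hzn
    have hbN : b * d1 ^ s ∈ N := e ▸ (⟨_, hzn', hPmul _ _ hz' (by
      rw [mul_left_comm]
      refine hPmul _ _ hz ?_
      obtain ⟨q, hq⟩ := hs
      rw [← hi, ← hj, ← zpow_natCast (γ ^ i), ← zpow_mul, ← zpow_add, mul_comm i, hq, mul_comm,
        zpow_mul, zpow_natCast]
      exact hPl _)⟩ : b * d1 ^ s ∈ R2)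
    have h1 : Commute d1 (b * d1 ^ s) := hcN d1 (hDC hd1) _ hbN
    have h2 : Commute d1 b := by
      have h3 := h1.mul_right ((Commute.self_pow d1 s).inv_right)
      rwa [mul_inv_cancel_right] at h3
    exact h2.eq.symm
  have hAirr : AIrr D' l := by
    refine ⟨hheisD, fun U hU => or_iff_not_imp_left.2 fun h => hred U hU h, ?_⟩
    rintro d ⟨a, ha, k, rfl⟩
    obtain ⟨x, ⟨_, hx⟩, c, hc⟩ : (a : A) ∈ R2 := hR2 ▸ ha
    refine ⟨(c * k)⁻¹, ?_⟩
    have h1 : scal ((c * k)⁻¹) * (scal k * φ a) = scal c⁻¹ * φ a := by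
      rw [← mul_assoc, ← map_mul, mul_inv, inv_mul_cancel_right]
    rw [h1]
    have h2 : ∀ n : ℕ, (scal c⁻¹ * φ a) ^ n = scal (c⁻¹ ^ n) * φ a ^ n := fun n => by
      rw [(Commute.symm (scal_comm c⁻¹ (φ a))).mul_pow, map_pow]
    have h3 : (scal c⁻¹ * φ a) ^ l = scal (c⁻¹ ^ l * x) := by
      rw [h2, map_mul]
      congr 1
    rcases hc with hc | ⟨hl2, hc⟩
    · left
      rw [h3, hc, inv_pow, inv_mul_cancel, map_one]
    · right
      refine ⟨hl2, ?_⟩
      rw [hl2] at h3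
      rw [h3, hc, inv_pow, hl2, mul_neg, inv_mul_cancel]
  refine HeisData.exists_pair hp2
    (⟨hAirr, hl, hnsD, inferInstance, hGp, hnorm D hD, ?_⟩ : HeisData p G D' l)
  intro hQ3 R hRD hSR hRn
  -- a prime field is centralised by all of `A`
  have hC : C = ⊤ := by
    refine Subgroup.index_eq_one.1 (le_antisymm (hidx.trans ?_) (Nat.one_le_iff_ne_zero.2 ?_))
    · change Nat.card (gen (V := V) N) = p' ^ m' at hQ
      rw [hQ3] at hQ
      exact ((Nat.Prime.pow_eq_iff Nat.prime_three).1 hQ.symm).2.le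
    · exact Subgroup.index_ne_zero_of_finite
  let R' : Subgroup A :=
    { carrier := {a | ∃ h : a ∈ D, φ ⟨a, hDC h⟩ ∈ R}
      one_mem' := ⟨one_mem D, by
        rw [show (⟨1, hDC (one_mem D)⟩ : C) = 1 from rfl, map_one]; exact one_mem R⟩
      mul_mem' := by
        rintro a b ⟨ha, hap⟩ ⟨hb, hbp⟩
        refine ⟨mul_mem ha hb, ?_⟩
        rw [show (⟨a * b, hDC (mul_mem ha hb)⟩ : C) = ⟨a, hDC ha⟩ * ⟨b, hDC hb⟩ from rfl, map_mul]
        exact mul_mem hap hbp
      inv_mem' := by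
        rintro a ⟨ha, hap⟩
        refine ⟨inv_mem ha, ?_⟩
        rw [show (⟨a⁻¹, hDC (inv_mem ha)⟩ : C) = (⟨a, hDC ha⟩ : C)⁻¹ from rfl, map_inv]
        exact inv_mem hap }
  have hR'n : R'.Normal := by
    refine ⟨fun a ⟨ha, hap⟩ g => ⟨hD.conj_mem a ha g, ?_⟩⟩
    have hg : g ∈ C := hC ▸ Subgroup.mem_top g
    rw [show (⟨g * a * g⁻¹, hDC (hD.conj_mem a ha g)⟩ : C) =
      ⟨g, hg⟩ * ⟨a, hDC ha⟩ * ⟨g, hg⟩⁻¹ from rfl, map_mul, map_mul, map_inv]
    exact hRn _ (apply_mem_liftG φ hg) _ hap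
  have hNR' : N ≤ R' := fun n hn => ⟨hND hn, hSR (hφN _ hn)⟩
  by_cases hR'N : R' = N
  · refine Or.inl (le_antisymm (fun d hd => ?_) hSR)
    obtain ⟨a, ha, k, rfl⟩ := hRD hd
    refine mul_mem ⟨k, rfl⟩ (hφN a (hR'N ▸ ⟨ha, ?_⟩))
    exact (Subgroup.mul_mem_cancel_left _ (hSR ⟨k, rfl⟩)).1 hd
  · refine Or.inr (le_antisymm hRD fun d hd => ?_)
    have hR'D : R' = D := hexR R' hR'n hNR' (fun a ha => ha.1) hR'N
    obtain ⟨a, ha, k, rfl⟩ := hd
    obtain ⟨_, h⟩ : (a : A) ∈ R' := hR'D.symm ▸ ha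
    exact mul_mem (hSR ⟨k, rfl⟩) h

end CfsgLib.Char.CoprimeBase
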