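import Mathlib

/-!
# An asymmetric 3-uniform hypergraph on `n ≥ 6` points

The edges are the `n - 2` triples of consecutive points and `{0, 1, 3}`.
-/

set_option autoImplicit false
set_option linter.unusedSectionVars false

namespace CfsgLib.Char.CoprimeBase

/-- The edges: consecutive triples below `n` and `{0, 1, 3}`. -/
def Edge (n : ℕ) (s : Finset ℕ) : Prop :=
  (∃ k, k + 3 ≤ n ∧ s = {k, k + 1, k + 2}) ∨ s = {0, 1, 3}

theorem Edge.cons {n k : ℕ} (h : k + 3 ≤ n) : Edge n {k, k + 1, k + 2} := Or.inl ⟨k, h, rfl⟩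

theorem edge_extra (n : ℕ) : Edge n {0, 1, 3} := Or.inr rfl

theorem cons_ne {i j : ℕ} (h : i ≠ j) :
    ({i, i + 1, i + 2} : Finset ℕ) ≠ {j, j + 1, j + 2} := fun e => by
  rcases Nat.lt_or_ge i j with h1 | h1
  · have h2 := e ▸ (Finset.mem_insert_self i {i + 1, i + 2})
    simp only [Finset.mem_insert, Finset.mem_singleton] at h2
    omega
  · have h2 := e.symm ▸ (Finset.mem_insert_self j {j + 1, j + 2})
    simp only [Finset.mem_insert, Finset.mem_singleton] at h2
    omega

/-- Only the identity preserves the hypergraph. -/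
theorem edge_rigid {n : ℕ} (hn : 6 ≤ n) (σ : Equiv.Perm ℕ) (hσ : ∀ i, n ≤ i → σ i = i)
    (h : ∀ s : Finset ℕ, (∀ i ∈ s, i < n) → (Edge n (s.image σ) ↔ Edge n s)) : ∀ i, σ i = i := by
  have hlt : ∀ i, i < n → σ i < n := fun i hi => by
    by_contra hc
    have := σ.injective (hσ (σ i) (not_lt.1 hc))
    omega
  have hbd : ∀ s, Edge n s → ∀ i ∈ s, i < n := by
    rintro s (⟨k, hk, rfl⟩ | rfl) i hi <;>
      simp only [Finset.mem_insert, Finset.mem_singleton] at hi <;> omega
  -- preimages of the edges at a point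
  have hpre : ∀ x, ∀ t, Edge n t → σ x ∈ t → ∃ s, Edge n s ∧ x ∈ s ∧ s.image σ = t := by
    intro x t ht hxt
    refine ⟨t.image σ.symm, ?_, Finset.mem_image.2 ⟨σ x, hxt, σ.symm_apply_apply x⟩, ?_⟩
    · refine (h _ fun i hi => ?_).1 ?_
      · obtain ⟨j, hj, rfl⟩ := Finset.mem_image.1 hi
        by_contra hc
        have h1 := hσ _ (not_lt.1 hc)
        rw [Equiv.apply_symm_apply] at h1
        have := hbd t ht j hj
        omega
      · rwa [Finset.image_image, Equiv.self_comp_symm, Finset.image_id]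
    · rw [Finset.image_image, Equiv.self_comp_symm, Finset.image_id]
  have hat : ∀ x, n - 2 ≤ x → x < n → ∀ s, Edge n s → x ∈ s →
      s = {n - 4, n - 4 + 1, n - 4 + 2} ∨ s = {n - 3, n - 3 + 1, n - 3 + 2} := by
    rintro x hx1 hx2 s (⟨k, hk, rfl⟩ | rfl) hxs <;>
      simp only [Finset.mem_insert, Finset.mem_singleton] at hxs
    · rcases Nat.lt_or_ge k (n - 3) with h1 | h1
      · left; rw [show k = n - 4 by omega]
      · right; rw [show k = n - 3 by omega]
    · omega
  have hlast : σ (n - 1) = n - 1 := by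
    by_contra hne
    obtain ⟨t1, t2, ht1, ht2, h1, h2, h12⟩ : ∃ t1 t2, Edge n t1 ∧ Edge n t2 ∧ σ (n - 1) ∈ t1 ∧
        σ (n - 1) ∈ t2 ∧ t1 ≠ t2 := by
      have hj := hlt (n - 1) (by omega)
      generalize σ (n - 1) = j at hne hj ⊢
      rcases Nat.eq_zero_or_pos j with rfl | hj0
      · exact ⟨_, _, Edge.cons (k := 0) (by omega), edge_extra n, by simp, by simp, by decide⟩
      · rcases Nat.lt_or_ge j (n - 2) with h1 | h1
        · exact ⟨_, _, Edge.cons (k := j - 1) (by omega), Edge.cons (k := j) (by omega),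
            by simp; omega, by simp, cons_ne (by omega)⟩
        · exact ⟨_, _, Edge.cons (k := n - 4) (by omega), Edge.cons (k := n - 3) (by omega),
            by simp; omega, by simp; omega, cons_ne (by omega)⟩
    obtain ⟨s1, hs1, hx1, e1⟩ := hpre _ t1 ht1 h1
    obtain ⟨s2, hs2, hx2, e2⟩ := hpre _ t2 ht2 h2
    have key : ∀ s, Edge n s → n - 1 ∈ s → s = {n - 3, n - 3 + 1, n - 3 + 2} := by
      intro s hs hx
      refine (hat (n - 1) (by omega) (by omega) s hs hx).resolve_left fun e => ?_
      rw [e] at hx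
      simp only [Finset.mem_insert, Finset.mem_singleton] at hx
      omega
    exact h12 (by rw [← e1, ← e2, key s1 hs1 hx1, key s2 hs2 hx2])
  have hpen : σ (n - 2) = n - 2 := by
    have hmem : σ (n - 2) = n - 2 ∨ σ (n - 2) = n - 3 := by
      have hd1 := (h {n - 3, n - 3 + 1, n - 3 + 2} (hbd _ (Edge.cons (by omega)))).2
        (Edge.cons (by omega))
      have hxin : n - 1 ∈ ({n - 3, n - 3 + 1, n - 3 + 2} : Finset ℕ).image σ :=
        Finset.mem_image.2 ⟨n - 1, by simp; omega, hlast⟩
      have hyin : σ (n - 2) ∈ ({n - 3, n - 3 + 1, n - 3 + 2} : Finset ℕ).image σ :=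
        Finset.mem_image.2 ⟨n - 2, by simp; omega, rfl⟩
      have hne : σ (n - 2) ≠ n - 1 := fun e => by
        have := σ.injective (e.trans hlast.symm)
        omega
      rcases hat (n - 1) (by omega) (by omega) _ hd1 hxin with e | e <;>
        rw [e] at hxin hyin <;>
        simp only [Finset.mem_insert, Finset.mem_singleton] at hxin hyin <;> omega
    refine hmem.resolve_right fun e => ?_
    have e3 : ∀ k, k + 3 ≤ n → n - 5 ≤ k → ∃ s, Edge n s ∧ n - 2 ∈ s ∧
        s.image σ = {k, k + 1, k + 2} := fun k hk hk' =>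
      hpre _ _ (Edge.cons hk) (by rw [e]; simp; omega)
    obtain ⟨s1, hs1, hm1, i1⟩ := e3 (n - 5) (by omega) le_rfl
    obtain ⟨s2, hs2, hm2, i2⟩ := e3 (n - 4) (by omega) (by omega)
    obtain ⟨s3, hs3, hm3, i3⟩ := e3 (n - 3) (by omega) (by omega)
    rcases hat _ le_rfl (by omega) s1 hs1 hm1 with a | a <;>
      rcases hat _ le_rfl (by omega) s2 hs2 hm2 with b | b <;>
      rcases hat _ le_rfl (by omega) s3 hs3 hm3 with c | c <;> subst a <;> subst b <;> subst c <;>
      first
        | exact cons_ne (show n - 5 ≠ n - 4 by omega) (i1.symm.trans i2)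
        | exact cons_ne (show n - 5 ≠ n - 3 by omega) (i1.symm.trans i3)
        | exact cons_ne (show n - 4 ≠ n - 3 by omega) (i2.symm.trans i3)
  have key : ∀ m i, n ≤ i + m → σ i = i := by
    intro m
    induction m with
    | zero => intro i hi; exact hσ i (by omega)
    | succ m ih =>
      intro i hi
      rcases Nat.lt_or_ge i (n - 2) with hi2 | hi2
      swap
      · rcases Nat.lt_or_ge i n with hn' | hn'
        · rcases (show i = n - 2 ∨ i = n - 1 by omega) with rfl | rfl
          · exact hpen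
          · exact hlast
        · exact hσ i hn'
      rcases Nat.lt_or_ge (i + m) n with hm | hm
      swap
      · exact ih i hm
      have hd1 := (h {i, i + 1, i + 2} (hbd _ (Edge.cons (by omega)))).2 (Edge.cons (by omega))
      rw [Finset.image_insert, Finset.image_insert, Finset.image_singleton, ih (i + 1) (by omega),
        ih (i + 2) (by omega)] at hd1
      have hle : σ i ≤ i := by
        by_contra hc
        have := σ.injective (ih (σ i) (by omega))
        omega
      rcases hd1 with ⟨k, hk, e⟩ | e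
      · have a0 := e ▸ (Finset.mem_insert_self (σ i) {i + 1, i + 2})
        have a1 := e ▸ (show i + 1 ∈ ({σ i, i + 1, i + 2} : Finset ℕ) by simp)
        have a2 := e ▸ (show i + 2 ∈ ({σ i, i + 1, i + 2} : Finset ℕ) by simp)
        have b0 := e.symm ▸ (Finset.mem_insert_self k {k + 1, k + 2})
        simp only [Finset.mem_insert, Finset.mem_singleton] at a0 a1 a2 b0
        omega
      · have a1 := e ▸ (show i + 1 ∈ ({σ i, i + 1, i + 2} : Finset ℕ) by simp)
        have a2 := e ▸ (show i + 2 ∈ ({σ i, i + 1, i + 2} : Finset ℕ) by simp)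
        simp only [Finset.mem_insert, Finset.mem_singleton] at a1 a2
        omega
  exact fun i => key n i (by omega)

end CfsgLib.Char.CoprimeBase
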