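import Cfsg.Agent.Lib.Char.OddBase.Field
import Cfsg.Agent.Lib.Char.OddBase.Fixed
import Cfsg.Agent.Lib.Coprime.Primitive

/-!
# Normal abelian prime power subgroups of irreducible solvable linear groups

Such a subgroup has no fixed points, so its prime divides the size of every invariant set avoiding
zero. An involution with many fixed points centralises it when it acts semiregularly.
-/

set_option autoImplicit false
set_option linter.unusedSectionVars false

namespace CfsgLib.Char.CoprimeBase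

open CfsgLib.Char.OddBase

universe u

variable {H M : Type u} [Group H] [Finite H] [AddCommGroup M] [Finite M] [DistribMulAction H M]
  [FaithfulSMul H M]

/-- A non-trivial solvable irreducible group has a normal abelian subgroup of prime power order,
with prime different from the characteristic, without non-zero fixed vector. -/
theorem exists_normal_rGroup [Group.IsSolvable H] [Nontrivial H] (hirr : IsIrr H M) {l : ℕ}
    [Fact l.Prime] (hl : ∀ v : M, l • v = 0) :
    ∃ (r : ℕ) (R : Subgroup H), r.Prime ∧ r ≠ l ∧ r ∣ Nat.card H ∧ R.Normal ∧ R ≠ ⊥ ∧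
      IsPGroup r R ∧ ∀ v : M, (∀ g ∈ R, g • v = v) → v = 0 := by
  obtain ⟨R, ⟨hRn, hR⟩, hmin⟩ := (Set.toFinite {K : Subgroup H | K.Normal ∧ K ≠ ⊥}).exists_minimal
    ⟨⊤, ⟨inferInstance, top_ne_bot⟩⟩
  haveI := hRn
  have hmin' : ∀ K : Subgroup H, K.Normal → K ≤ R → K = ⊥ ∨ K = R := fun K hK hKR =>
    or_iff_not_imp_left.2 fun h => le_antisymm hKR (hmin ⟨hK, h⟩ hKR)
  obtain ⟨r, d, hr, hd, hcard, -, -⟩ := Coprime.exists_minimal_abelian R hR hmin'
  haveI := Fact.mk hr
  have hRp : IsPGroup r R := IsPGroup.of_card hcard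
  refine ⟨r, R, hr, ?_, ?_, hRn, hR, hRp, fun v hv => ?_⟩
  · rintro rfl
    exact hR (hirr.normal_pGroup_eq_bot hl R hRp)
  · exact (dvd_pow_self r hd.ne').trans (hcard ▸ R.card_subgroup_dvd_card)
  · let U : AddSubgroup M :=
      { carrier := {w | ∀ g ∈ R, g • w = w}
        add_mem' := fun {a b} ha hb g hg => by rw [smul_add, ha g hg, hb g hg]
        zero_mem' := fun g _ => smul_zero g
        neg_mem' := fun {a} ha g hg => by rw [smul_neg, ha g hg] }
    rcases hirr.2 U (fun a w hw g hg => by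
      have h1 := hw (a⁻¹ * g * a) (by
        have := hRn.conj_mem g hg a⁻¹
        rwa [inv_inv] at this)
      rw [mul_smul, mul_smul, inv_smul_eq_iff] at h1
      exact h1) with e | e
    · have : v ∈ U := hv
      rw [e, AddSubgroup.mem_bot] at this
      exact this
    · refine absurd ((Subgroup.eq_bot_iff_forall _).2 fun g hg => ?_) hR
      exact FaithfulSMul.eq_of_smul_eq_smul (α := M) fun w => by
        rw [one_smul]
        exact (show w ∈ U from e ▸ AddSubgroup.mem_top w) g hg

/-- The prime divides the size of an invariant set avoiding zero. -/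
theorem dvd_ncard_invariant {r : ℕ} [Fact r.Prime] {R : Subgroup H} (hR : IsPGroup r R)
    (hfix : ∀ v : M, (∀ g ∈ R, g • v = v) → v = 0) (S : Set M) (h0 : (0 : M) ∉ S)
    (hS : ∀ g ∈ R, ∀ v ∈ S, g • v ∈ S) : r ∣ S.ncard := by
  letI : MulAction R S :=
    { smul := fun g v => ⟨(g : H) • (v : M), hS g g.2 v v.2⟩
      one_smul := fun v => Subtype.ext (one_smul H (v : M))
      mul_smul := fun a b v => Subtype.ext (mul_smul (a : H) b (v : M)) }
  have h := hR.card_modEq_card_fixedPoints S
  haveI : IsEmpty (MulAction.fixedPoints R S) := ⟨fun v => h0 (by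
    have : ((v : S) : M) = 0 := hfix _ fun g hg =>
      congrArg Subtype.val (v.2 ⟨g, hg⟩)
    exact this ▸ (v : S).2)⟩
  rw [Nat.card_of_isEmpty (α := MulAction.fixedPoints R S), Nat.card_coe_set_eq] at h
  exact Nat.modEq_zero_iff_dvd.1 h

/-- The prime divides `|M| - 1`. -/
theorem dvd_card_sub_one {r : ℕ} [Fact r.Prime] {R : Subgroup H} (hR : IsPGroup r R)
    (hfix : ∀ v : M, (∀ g ∈ R, g • v = v) → v = 0) : r ∣ Nat.card M - 1 := by
  have h := dvd_ncard_invariant hR hfix {v : M | v ≠ 0} (fun h => h rfl)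
    (fun g _ v hv h => hv ((smul_eq_zero_iff_eq g).1 h))
  rwa [show {v : M | v ≠ 0} = ({0} : Set M)ᶜ from rfl, Set.ncard_compl,
    Set.ncard_singleton] at h

/-- The fixed vectors of a subgroup element, counted modulo the prime of its order. -/
theorem card_fix_modEq {r : ℕ} [Fact r.Prime] (g : H) (hg : IsPGroup r (Subgroup.zpowers g)) :
    Nat.card (fixAdd (V := M) g) ≡ Nat.card M [MOD r] := by
  have h := hg.card_modEq_card_fixedPoints M
  have hc : Nat.card (MulAction.fixedPoints (Subgroup.zpowers g) M) =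
      Nat.card (fixAdd (V := M) g) := by
    refine Nat.card_congr (Equiv.subtypeEquivRight fun v => ?_)
    constructor
    · intro hv
      exact hv ⟨g, Subgroup.mem_zpowers g⟩
    · intro hv c
      exact MulAction.mem_stabilizer_iff.1
        ((Subgroup.zpowers_le.2 (MulAction.mem_stabilizer_iff.2 hv)) c.2)
  rw [← hc]
  exact h.symm

/-- An involution whose fixed subgroup is large centralises a semiregular `R`, so its fixed
subgroup has order `1` modulo the prime of `R`. -/
theorem card_fix_involution_modEq {r : ℕ} [Fact r.Prime] {R : Subgroup H} [R.Normal]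
    (hR : IsPGroup r R) (hfix : ∀ v : M, (∀ g ∈ R, g • v = v) → v = 0)
    (hsemi : ∀ g ∈ R, g ≠ 1 → ∀ v : M, g • v = v → v = 0) {s : H}
    (hbig : Nat.card M < Nat.card (fixAdd (V := M) s) ^ 2) :
    r ∣ Nat.card (fixAdd (V := M) s) - 1 := by
  have hcomm : ∀ ρ ∈ R, ρ * s = s * ρ := by
    intro ρ hρ
    obtain ⟨w, hw1, hw2, hw0⟩ : ∃ w : M, s • w = w ∧ (ρ * s * ρ⁻¹) • w = w ∧ w ≠ 0 := by
      have hc : Nat.card (fixAdd (V := M) (ρ * s * ρ⁻¹)) = Nat.card (fixAdd (V := M) s) := by
        refine Nat.card_congr ((MulAction.toPerm ρ⁻¹).subtypeEquiv fun v => ?_)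
        show (ρ * s * ρ⁻¹) • v = v ↔ s • (ρ⁻¹ • v) = ρ⁻¹ • v
        rw [mul_smul, mul_smul, smul_eq_iff_eq_inv_smul]
      by_contra hne
      push Not at hne
      have hbot : fixAdd (V := M) s ⊓ fixAdd (V := M) (ρ * s * ρ⁻¹) = ⊥ :=
        (AddSubgroup.eq_bot_iff_forall _).2 fun w hw => hne w hw.1 hw.2
      have h := card_mul_card_le_inf (fixAdd (V := M) s) (fixAdd (V := M) (ρ * s * ρ⁻¹))
      rw [hbot, AddSubgroup.card_bot, hc, ← pow_two, mul_one] at h
      omega
    have hmem : ρ * s * ρ⁻¹ * s⁻¹ ∈ R := by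
      rw [show ρ * s * ρ⁻¹ * s⁻¹ = ρ * (s * ρ⁻¹ * s⁻¹) by group]
      exact mul_mem hρ ((inferInstance : R.Normal).conj_mem _ (inv_mem hρ) s)
    have hfw : (ρ * s * ρ⁻¹ * s⁻¹) • w = w := by
      rw [mul_smul, inv_smul_eq_iff.2 hw1.symm, hw2]
    have h1 : ρ * s * ρ⁻¹ * s⁻¹ = 1 := by
      by_contra h
      exact hw0 (hsemi _ hmem h w hfw)
    rw [mul_inv_eq_one, mul_inv_eq_iff_eq_mul] at h1
    exact h1
  have h := dvd_ncard_invariant hR hfix ((fixAdd (V := M) s : Set M) \ {0})
    (fun h => h.2 rfl) (fun g hg v hv => ⟨by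
      show s • g • v = g • v
      rw [← mul_smul, ← hcomm g hg, mul_smul]
      exact congrArg _ hv.1, fun e => hv.2 ((smul_eq_zero_iff_eq g).1 e)⟩)
  rwa [Set.ncard_sdiff_singleton_of_mem (zero_mem (fixAdd (V := M) s)), ← Nat.card_coe_set_eq] at h

/-- The fixed subgroup of an involution in characteristic two has at least the square root. -/
theorem card_le_fix_sq (h2 : ∀ v : M, 2 • v = 0) {s : H} (hs : s * s = 1) :
    Nat.card M ≤ Nat.card (fixAdd (V := M) s) ^ 2 := by
  let f : M →+ M := DistribSMul.toAddMonoidHom M s + AddMonoidHom.id M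
  have hker : f.ker = fixAdd (V := M) s := by
    ext v
    show s • v + v = 0 ↔ s • v = v
    have hn : -v = v := neg_eq_of_add_eq_zero_left (by rw [← two_nsmul]; exact h2 v)
    rw [← eq_neg_iff_add_eq_zero, hn]
  have hrange : f.range ≤ fixAdd (V := M) s := by
    rintro _ ⟨v, rfl⟩
    show s • (s • v + v) = s • v + v
    rw [smul_add, ← mul_smul, hs, one_smul, add_comm]
  rw [← AddSubgroup.card_mul_index f.ker, AddSubgroup.index_ker, hker, pow_two]
  exact Nat.mul_le_mul_left _ (AddSubgroup.card_le_of_le hrange)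

end CfsgLib.Char.CoprimeBase
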