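import Cfsg.Agent.Lib.Char.CoprimeBase.Bits
import Cfsg.Agent.Lib.Char.CoprimeBase.Hyper
import Cfsg.Agent.Lib.Char.CoprimeBase.RLemma

/-!
# Colourings of an elementary abelian group rigid under an irreducible affine group

For an odd prime `p` there is a colouring of `M` by `ZMod p` preserved by no non-trivial element of
`M ⋊ H`, when `H` is solvable, irreducible and of order prime to `p`.
-/

set_option autoImplicit false
set_option linter.unusedSectionVars false

namespace CfsgLib.Char.CoprimeBase

open CfsgLib.Char.OddBase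

universe u

section Coordinates

variable {l d : ℕ}

/-- The `i`-th basis vector. -/
def bas (i : Fin d) : Fin d → ZMod l := Pi.single i 1

theorem bas_apply (i j : Fin d) : (bas i : Fin d → ZMod l) j = if j = i then 1 else 0 :=
  Pi.single_apply i 1 j

variable [Fact l.Prime]

theorem bas_ne_zero (i : Fin d) : (bas i : Fin d → ZMod l) ≠ 0 := fun h => by
  simpa [bas_apply] using congrFun h i

theorem bas_injective : Function.Injective (bas : Fin d → Fin d → ZMod l) := fun i j h => by
  by_contra hne
  simpa [bas_apply, hne] using congrFun h i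

/-- A homomorphism is determined by the images of the basis vectors. -/
theorem hom_ext_bas {B : Type*} [AddCommGroup B] {f g : (Fin d → ZMod l) →+ B}
    (h : ∀ i, f (bas i) = g (bas i)) : f = g := by
  haveI : NeZero l := ⟨(Fact.out : l.Prime).ne_zero⟩
  refine AddMonoidHom.ext fun x => ?_
  have hx : x = ∑ i, (x i).val • (bas i : Fin d → ZMod l) := by
    funext j
    rw [Finset.sum_apply, Finset.sum_eq_single j]
    · rw [Pi.smul_apply, bas_apply, if_pos rfl, nsmul_eq_mul, mul_one, ZMod.natCast_zmod_val]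
    · intro i _ hi
      rw [Pi.smul_apply, bas_apply, if_neg (Ne.symm hi), smul_zero]
    · simp
  rw [hx, map_sum, map_sum]
  exact Finset.sum_congr rfl fun i _ => by rw [map_nsmul, map_nsmul, h i]

theorem eq_id_of_bas {π : (Fin d → ZMod l) →+ (Fin d → ZMod l)} (h : ∀ i, π (bas i) = bas i) :
    ∀ x, π x = x := fun x =>
  DFunLike.congr_fun (hom_ext_bas (f := π) (g := AddMonoidHom.id _) h) x

/-- The sum of the coordinates. -/
def coordSum : (Fin d → ZMod l) →+ ZMod l :=
  AddMonoidHom.mk' (fun x => ∑ i, x i) fun x y => Finset.sum_add_distrib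

theorem coordSum_bas (i : Fin d) : coordSum (bas i : Fin d → ZMod l) = 1 := by
  simp [coordSum, bas_apply]

/-- An affine map preserving the basis fixes `0` if the class of `0` is otherwise on level one. -/
theorem shift_eq_zero (π : (Fin d → ZMod l) →+ (Fin d → ZMod l)) (hπ : Function.Injective π)
    (u : Fin d → ZMod l) (hB : ∀ i, ∃ j, π (bas i) + u = bas j) (hu : u = 0 ∨ coordSum u = 1) :
    u = 0 := by
  refine hu.resolve_right fun hs => ?_
  haveI : NeZero l := ⟨(Fact.out : l.Prime).ne_zero⟩
  have h0 : coordSum.comp π = 0 := by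
    refine hom_ext_bas fun i => ?_
    obtain ⟨j, hj⟩ := hB i
    have h1 := congrArg coordSum hj
    rw [map_add, hs, coordSum_bas] at h1
    simpa using h1
  obtain ⟨x, hx⟩ := (Finite.injective_iff_surjective.1 hπ) (-u)
  have h1 : coordSum (π x) = 0 := DFunLike.congr_fun h0 x
  rw [hx, map_neg, hs] at h1
  exact one_ne_zero (neg_eq_zero.1 h1)

/-- Sums of two distinct basis vectors determine the pair. -/
theorem bas_add_eq {a b c e : Fin d} (hab : a ≠ b) (hce : c ≠ e)
    (h : (bas a + bas b : Fin d → ZMod l) = bas c + bas e) :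
    (a = c ∧ b = e) ∨ (a = e ∧ b = c) := by
  have h1 := congrFun h a
  have h2 := congrFun h b
  simp only [Pi.add_apply, bas_apply, if_neg hab, if_neg hab.symm, if_true, add_zero,
    zero_add] at h1 h2
  have hh1 : a = c ∨ a = e := by
    by_contra hc
    push Not at hc
    rw [if_neg hc.1, if_neg hc.2, add_zero] at h1
    exact one_ne_zero h1
  have hh2 : b = c ∨ b = e := by
    by_contra hc
    push Not at hc
    rw [if_neg hc.1, if_neg hc.2, add_zero] at h2
    exact one_ne_zero h2
  rcases hh1 with rfl | rfl <;> rcases hh2 with rfl | rfl <;> tauto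

/-- An increasing-by-one injection of `Fin d` is the identity. -/
theorem eq_of_succ {σ : Fin d → Fin d}
    (h : ∀ i j : Fin d, (j : ℕ) = i + 1 → (σ j : ℕ) = σ i + 1) : ∀ i, σ i = i := by
  rcases Nat.eq_zero_or_pos d with rfl | hd
  · exact fun i => i.elim0
  have key : ∀ k (hk : k < d), (σ ⟨k, hk⟩ : ℕ) = σ ⟨0, hd⟩ + k := by
    intro k
    induction k with
    | zero => intro _; rfl
    | succ k ih =>
      intro hk
      rw [h ⟨k, by omega⟩ ⟨k + 1, hk⟩ rfl, ih (by omega)]
      rfl
  have h0 := key (d - 1) (by omega)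
  have h1 := (σ ⟨d - 1, by omega⟩).2
  exact fun i => Fin.ext (by have := key i i.2; rw [this]; omega)

/-- A colouring with values in `ZMod p` and trivial affine stabiliser. -/
def HasColour (l d p : ℕ) : Prop :=
  ∃ c : (Fin d → ZMod l) → ZMod p, ∀ π : (Fin d → ZMod l) →+ (Fin d → ZMod l),
    Function.Injective π → ∀ u, (∀ x, c (π x + u) = c x) → (∀ x, π x = x) ∧ u = 0

theorem natCast_inj_lt {p a b : ℕ} (ha : a < p) (hb : b < p) (h : (a : ZMod p) = b) : a = b := by
  rwa [ZMod.natCast_eq_natCast_iff', Nat.mod_eq_of_lt ha, Nat.mod_eq_of_lt hb] at h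

/-- Five colours suffice. -/
theorem hasColour_five (hd : 0 < d) {p : ℕ} (hp : 5 ≤ p) : HasColour l d p := by
  classical
  set e0 : Fin d → ZMod l := bas ⟨0, hd⟩ with he0
  let col : (Fin d → ZMod l) → ℕ := fun x =>
    if x = 0 then 0 else if x = e0 then 4 else if ∃ i, x = bas i then 1
    else if ∃ i j : Fin d, (j : ℕ) = i + 1 ∧ x = bas i + bas j then 2 else 3
  have hlt : ∀ x, col x < p := fun x => by
    simp only [col]; split_ifs <;> omega
  refine ⟨fun x => (col x : ZMod p), fun π hπ u h => ?_⟩
  have hc : ∀ x, col (π x + u) = col x := fun x => natCast_inj_lt (hlt _) (hlt _) (h x)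
  have hu : u = 0 := by
    have h0 := hc 0
    rw [map_zero, zero_add] at h0
    simp only [col] at h0
    split_ifs at h0
    assumption
  have hc' : ∀ x, col (π x) = col x := fun x => by
    have := hc x
    rwa [hu, add_zero] at this
  have hcb : ∀ i : Fin d, ∃ j, π (bas i) = bas j := fun i => by
    have h1 := hc' (bas i)
    simp only [col, if_neg (bas_ne_zero i)] at h1
    by_contra hno
    have hne0 : π (bas i) ≠ 0 := fun e => bas_ne_zero i (hπ (e.trans (map_zero π).symm))
    rw [if_neg hne0, if_neg (fun e : π (bas i) = e0 => hno ⟨_, e⟩), if_neg hno,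
      if_pos (⟨i, rfl⟩ : ∃ i', (bas i : Fin d → ZMod l) = bas i')] at h1
    split_ifs at h1 <;> omega
  have hfirst : π e0 = e0 := by
    have h1 := hc' e0
    simp only [col, he0, if_neg (bas_ne_zero (l := l) (⟨0, hd⟩ : Fin d)), if_true] at h1
    split_ifs at h1
    all_goals first | assumption | omega
  choose σ hσ using hcb
  have hσinj : Function.Injective σ := fun i j e => bas_injective (hπ (by rw [hσ, hσ, e]))
  have key : ∀ k, ∀ i : Fin d, (i : ℕ) ≤ k → σ i = i := by
    intro k
    induction k with
    | zero =>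
      intro i hi
      obtain rfl : i = ⟨0, hd⟩ := Fin.ext (by simpa using hi)
      exact bas_injective ((hσ _).symm.trans hfirst)
    | succ k ih =>
      intro i hi
      rcases Nat.lt_or_ge (i : ℕ) (k + 1) with h1 | h1
      · exact ih i (by omega)
      have hik : (i : ℕ) = k + 1 := by omega
      have hk : k < d := by have := i.2; omega
      set a : Fin d := ⟨k, hk⟩
      have hai : a ≠ i := fun e => by
        have := congrArg Fin.val e
        simp only [a] at this
        omega
      have h2 := hc' (bas a + bas i)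
      rw [map_add, hσ, hσ, ih a le_rfl] at h2
      have hne : ∀ b : Fin d, a ≠ b → (bas a + bas b : Fin d → ZMod l) ≠ 0 ∧
          ∀ c, (bas a + bas b : Fin d → ZMod l) ≠ bas c := by
        intro b hb
        refine ⟨fun e => ?_, fun c e => ?_⟩
        · have := congrFun e a
          simp [bas_apply, hb] at this
        · have e1 := congrFun e a
          have e2 := congrFun e b
          simp [bas_apply, hb, Ne.symm hb] at e1 e2
          exact hb (e1.trans e2.symm)
      have hσi : a ≠ σ i := fun e => hai (hσinj ((ih a le_rfl).trans e))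
      have hcol : ∀ b : Fin d, a ≠ b → col (bas a + bas b) =
          if ∃ i' j : Fin d, (j : ℕ) = i' + 1 ∧ bas a + bas b = (bas i' + bas j : Fin d → ZMod l)
          then 2 else 3 := fun b hb => by
        have n3 : ¬ ∃ c, (bas a + bas b : Fin d → ZMod l) = bas c :=
          fun ⟨c, hc⟩ => (hne b hb).2 c hc
        simp only [col]
        rw [if_neg (hne b hb).1, if_neg (fun e : bas a + bas b = e0 => n3 ⟨_, e⟩), if_neg n3]
      rw [hcol _ hσi, hcol _ hai, if_pos (⟨a, i, hik, rfl⟩ :
          ∃ i' j : Fin d, (j : ℕ) = i' + 1 ∧ bas a + bas i = (bas i' + bas j : Fin d → ZMod l))] at h2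
      split_ifs at h2 with hU
      swap
      · omega
      obtain ⟨b, c, hbc, e⟩ := hU
      rcases bas_add_eq hσi (fun e => by rw [e] at hbc; omega) e with ⟨r1, r2⟩ | ⟨r1, r2⟩
      · refine Fin.ext ?_
        rw [r2, hbc, ← r1, hik]
      · exfalso
        have h3 : (σ i : ℕ) + 1 = k := by
          rw [r2, ← hbc, ← r1]
        have h4 : σ (σ i) = σ i := ih _ (by omega)
        rw [hσinj h4, hik] at h3
        omega
  exact ⟨eq_id_of_bas fun i => by rw [hσ, key i i le_rfl], hu⟩

theorem two_bas_sub_apply (a b j : Fin d) :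
    (2 • bas a - bas b : Fin d → ZMod l) j =
      (if j = a then 2 else 0) - (if j = b then 1 else 0) := by
  rw [Pi.sub_apply, Pi.smul_apply, bas_apply, bas_apply, smul_ite, smul_zero, two_nsmul]
  norm_num

/-- Three colours suffice for `l ≥ 5`. -/
theorem hasColour_three (h2 : l ≠ 2) (h3 : l ≠ 3) : HasColour l d 3 := by
  classical
  have hl := (Fact.out : l.Prime)
  haveI : Fact (1 < l) := ⟨hl.one_lt⟩
  have n2 : (2 : ZMod l) ≠ 0 := fun e => h2 ((Nat.prime_dvd_prime_iff_eq hl Nat.prime_two).1
    ((ZMod.natCast_eq_zero_iff 2 l).1 (by exact_mod_cast e)))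
  have n3 : (3 : ZMod l) ≠ 0 := fun e => h3 ((Nat.prime_dvd_prime_iff_eq hl Nat.prime_three).1
    ((ZMod.natCast_eq_zero_iff 3 l).1 (by exact_mod_cast e)))
  let Ed : (Fin d → ZMod l) → Prop := fun x =>
    ∃ i j : Fin d, (j : ℕ) = i + 1 ∧ x = 2 • bas i - bas j
  let col : (Fin d → ZMod l) → ℕ := fun x =>
    if ∃ i, x = bas i then 1 else if x = 0 ∨ Ed x then 0 else 2
  have hlt : ∀ x, col x < 3 := fun x => by simp only [col]; split_ifs <;> omega
  refine ⟨fun x => (col x : ZMod 3), fun π hπ u h => ?_⟩
  have hc : ∀ x, col (π x + u) = col x := fun x => natCast_inj_lt (hlt _) (hlt _) (h x)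
  have hB : ∀ i, ∃ j, π (bas i) + u = bas j := fun i => by
    have h1 := hc (bas i)
    simp only [col, if_pos (⟨i, rfl⟩ : ∃ i', (bas i : Fin d → ZMod l) = bas i')] at h1
    split_ifs at h1 with a
    all_goals first | exact a | omega
  have hu : u = 0 := by
    refine shift_eq_zero π hπ u hB ?_
    have h0 := hc 0
    have hz : col 0 = 0 := by
      simp only [col]
      rw [if_neg (fun h : ∃ i, (0 : Fin d → ZMod l) = bas i => bas_ne_zero _ h.choose_spec.symm)]
      simp
    rw [map_zero, zero_add, hz] at h0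
    simp only [col] at h0
    split_ifs at h0 with a b
    rcases b with rfl | ⟨i, j, -, rfl⟩
    · exact Or.inl rfl
    · right
      rw [map_sub, map_nsmul, coordSum_bas, coordSum_bas]
      norm_num
  subst hu
  choose σ hσ using hB
  simp only [add_zero] at hσ hc
  have hσinj : Function.Injective σ := fun i j e => bas_injective (hπ (by rw [hσ, hσ, e]))
  have hstep : ∀ i j : Fin d, (j : ℕ) = i + 1 → (σ j : ℕ) = σ i + 1 := by
    intro i j hij
    have hne : i ≠ j := fun e => by rw [e] at hij; omega
    have hedge : Ed (2 • bas i - bas j) := ⟨i, j, hij, rfl⟩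
    have hnb : ∀ a b : Fin d, a ≠ b → ∀ k, (2 • bas a - bas b : Fin d → ZMod l) ≠ bas k := by
      intro a b hab k e
      have e1 := congrFun e a
      simp only [two_bas_sub_apply, bas_apply, if_neg hab, if_true, sub_zero] at e1
      by_cases hk : a = k
      · rw [if_pos hk] at e1
        exact one_ne_zero (α := ZMod l) (by linear_combination e1)
      · rw [if_neg hk] at e1
        exact n2 e1
    have h1 := hc (2 • bas i - bas j)
    rw [map_sub, map_nsmul, hσ, hσ] at h1
    have hz : col (2 • bas i - bas j) = 0 := by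
      simp only [col]
      rw [if_neg (fun ⟨k, hk⟩ => hnb i j hne k hk), if_pos (Or.inr hedge)]
    rw [hz] at h1
    simp only [col] at h1
    rw [if_neg (fun ⟨k, hk⟩ => hnb _ _ (hσinj.ne hne) k hk)] at h1
    split_ifs at h1 with a
    have hn0 : (2 • bas (σ i) - bas (σ j) : Fin d → ZMod l) ≠ 0 := fun e => by
      have e1 := congrFun e (σ i)
      simp only [two_bas_sub_apply, if_neg (hσinj.ne hne), if_true, sub_zero, Pi.zero_apply] at e1
      exact n2 e1
    obtain ⟨k, m, hkm, e⟩ := a.resolve_left hn0
    have e1 := congrFun e (σ i)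
    have e2 := congrFun e (σ j)
    simp only [two_bas_sub_apply, if_neg (hσinj.ne hne),
      if_neg (hσinj.ne hne.symm), if_true, sub_zero, zero_sub] at e1 e2
    have hk : σ i = k := by
      by_contra hk
      rw [if_neg hk] at e1
      by_cases hm : σ i = m
      · rw [if_pos hm] at e1; exact n3 (by linear_combination e1)
      · rw [if_neg hm] at e1; exact n2 (by linear_combination e1)
    have hk' : σ j ≠ k := fun e => hσinj.ne hne (hk.trans e.symm)
    rw [if_neg hk'] at e2
    have hm : σ j = m := by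
      by_contra hm
      rw [if_neg hm] at e2
      exact one_ne_zero (α := ZMod l) (by linear_combination -e2)
    rw [hm, hk, hkm]
  exact ⟨eq_id_of_bas fun i => by rw [hσ, eq_of_succ hstep i], rfl⟩

end Coordinates

section Binary

variable {d : ℕ}

/-- The indicator vector of a set of coordinates. -/
def ind (d : ℕ) (s : Finset ℕ) : Fin d → ZMod 2 := fun i => if (i : ℕ) ∈ s then 1 else 0

theorem ind_injective {s t : Finset ℕ} (hs : ∀ i ∈ s, i < d) (ht : ∀ i ∈ t, i < d)
    (h : ind d s = ind d t) : s = t := by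
  have key : ∀ i, i < d → (i ∈ s ↔ i ∈ t) := fun i hi => by
    have := congrFun h ⟨i, hi⟩
    simp only [ind] at this
    by_cases a : i ∈ s <;> by_cases b : i ∈ t <;> simp_all
  ext i
  exact ⟨fun hi => (key i (hs i hi)).1 hi, fun hi => (key i (ht i hi)).2 hi⟩

theorem ind_eq_sum (s : Finset ℕ) :
    ind d s = ∑ i : Fin d, if (i : ℕ) ∈ s then bas i else 0 := by
  funext j
  rw [Finset.sum_apply, Finset.sum_eq_single j]
  · by_cases h : (j : ℕ) ∈ s <;> simp [ind, h, bas_apply]
  · intro i _ hi
    by_cases h : (i : ℕ) ∈ s <;> simp [h, bas_apply, Ne.symm hi]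
  · simp

/-- Extension of a permutation of `Fin d` to `ℕ`. -/
noncomputable def extPerm (σ : Equiv.Perm (Fin d)) : Equiv.Perm ℕ :=
  Equiv.Perm.viaEmbedding σ Fin.valEmbedding

theorem extPerm_apply (σ : Equiv.Perm (Fin d)) (i : Fin d) : extPerm σ i = σ i :=
  Equiv.Perm.viaEmbedding_apply σ Fin.valEmbedding i

theorem extPerm_of_le (σ : Equiv.Perm (Fin d)) {i : ℕ} (h : d ≤ i) : extPerm σ i = i :=
  Equiv.Perm.viaEmbedding_apply_of_notMem _ _ _ (by rintro ⟨j, rfl⟩; exact absurd j.2 (not_lt.2 h))

theorem map_ind {π : (Fin d → ZMod 2) →+ (Fin d → ZMod 2)} {σ : Equiv.Perm (Fin d)}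
    (hσ : ∀ i, π (bas i) = bas (σ i)) (s : Finset ℕ) :
    π (ind d s) = ind d (s.image (extPerm σ)) := by
  rw [ind_eq_sum, ind_eq_sum, map_sum]
  refine Fintype.sum_equiv σ _ _ fun i => ?_
  have hiff : (σ i : ℕ) ∈ s.image (extPerm σ) ↔ (i : ℕ) ∈ s := by
    rw [← extPerm_apply, (extPerm σ).injective.mem_finset_image]
  by_cases h : (i : ℕ) ∈ s
  · rw [if_pos h, if_pos (hiff.2 h), hσ]
  · rw [if_neg h, if_neg (hiff.not.2 h), map_zero]

/-- A permutation of the basis fixing the indicators of the edges is trivial. -/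
theorem rigid_of_edges (hd : 6 ≤ d) {π : (Fin d → ZMod 2) →+ (Fin d → ZMod 2)}
    {σ : Fin d → Fin d} (hσ : ∀ i, π (bas i) = bas (σ i)) (hσinj : Function.Injective σ)
    (h : ∀ s : Finset ℕ, (∀ i ∈ s, i < d) → (Edge d s ↔
      Edge d (s.image (extPerm (Equiv.ofBijective σ (Finite.injective_iff_bijective.1 hσinj)))))) :
    ∀ x, π x = x := by
  have h1 := edge_rigid hd _ (fun i hi => extPerm_of_le _ hi) fun s hs => (h s hs).symm
  refine eq_id_of_bas fun i => ?_
  have h2 := h1 i
  rw [extPerm_apply] at h2
  rw [hσ]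
  exact congrArg bas (Fin.ext h2)

theorem edge_lt {s : Finset ℕ} (hd : 4 ≤ d) (h : Edge d s) : ∀ i ∈ s, i < d := by
  rcases h with ⟨k, hk, rfl⟩ | rfl <;> intro i hi <;>
    simp only [Finset.mem_insert, Finset.mem_singleton] at hi <;> omega

theorem edge_card {s : Finset ℕ} (h : Edge d s) : s.card = 3 := by
  rcases h with ⟨k, -, rfl⟩ | rfl
  · rw [Finset.card_insert_of_notMem (by simp), Finset.card_insert_of_notMem (by simp),
      Finset.card_singleton]
  · rfl

/-- Three colours suffice in characteristic two and dimension at least six. -/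
theorem hasColour_binary (hd : 6 ≤ d) : HasColour 2 d 3 := by
  classical
  haveI : Fact (Nat.Prime 2) := ⟨Nat.prime_two⟩
  let Ed : (Fin d → ZMod 2) → Prop := fun x => ∃ s, Edge d s ∧ x = ind d s
  let col : (Fin d → ZMod 2) → ℕ := fun x =>
    if ∃ i, x = bas i then 1 else if x = 0 ∨ Ed x then 0 else 2
  have hlt : ∀ x, col x < 3 := fun x => by simp only [col]; split_ifs <;> omega
  have hsum : ∀ s, Edge d s → coordSum (ind d s) = 1 := fun s hs => by
    show ∑ i : Fin d, (if (i : ℕ) ∈ s then (1 : ZMod 2) else 0) = 1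
    rw [Finset.sum_boole]
    have : (Finset.univ.filter fun i : Fin d => (i : ℕ) ∈ s).card = s.card := by
      rw [← Finset.card_map Fin.valEmbedding]
      congr 1
      ext i
      simp only [Finset.mem_map, Finset.mem_filter, Finset.mem_univ, true_and,
        Fin.valEmbedding_apply]
      exact ⟨fun ⟨a, ha, e⟩ => e ▸ ha, fun hi => ⟨⟨i, edge_lt (by omega) hs i hi⟩, hi, rfl⟩⟩
    rw [this, edge_card hs]
    rfl
  have hnb : ∀ s, Edge d s → ∀ i : Fin d, ind d s ≠ bas i := by
    intro s hs i e
    have hsi : s = {(i : ℕ)} := ind_injective (edge_lt (by omega) hs) (by simp) (by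
      rw [e]; funext j; simp [ind, bas_apply, Fin.ext_iff])
    have := edge_card hs
    rw [hsi] at this
    simp at this
  refine ⟨fun x => (col x : ZMod 3), fun π hπ u h => ?_⟩
  have hc : ∀ x, col (π x + u) = col x := fun x => natCast_inj_lt (hlt _) (hlt _) (h x)
  have hB : ∀ i, ∃ j, π (bas i) + u = bas j := fun i => by
    have h1 := hc (bas i)
    simp only [col, if_pos (⟨i, rfl⟩ : ∃ i', (bas i : Fin d → ZMod 2) = bas i')] at h1
    split_ifs at h1 with a
    all_goals first | exact a | omega
  have hu : u = 0 := by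
    refine shift_eq_zero π hπ u hB ?_
    have h0 := hc 0
    have hz : col 0 = 0 := by
      simp only [col]
      rw [if_neg (fun h : ∃ i, (0 : Fin d → ZMod 2) = bas i => bas_ne_zero _ h.choose_spec.symm)]
      simp
    rw [map_zero, zero_add, hz] at h0
    simp only [col] at h0
    split_ifs at h0 with a b
    rcases b with rfl | ⟨s, hs, rfl⟩
    · exact Or.inl rfl
    · exact Or.inr (hsum s hs)
  subst hu
  choose σ hσ using hB
  simp only [add_zero] at hσ hc
  have hσinj : Function.Injective σ := fun i j e => bas_injective (hπ (by rw [hσ, hσ, e]))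
  set σ' := Equiv.ofBijective σ (Finite.injective_iff_bijective.1 hσinj)
  refine ⟨rigid_of_edges hd hσ hσinj fun s hs => ?_, rfl⟩
  have hs' : ∀ i ∈ s.image (extPerm σ'), i < d := by
    intro i hi
    obtain ⟨j, hj, rfl⟩ := Finset.mem_image.1 hi
    have := extPerm_apply σ' ⟨j, hs j hj⟩
    simp only at this
    rw [this]
    exact Fin.isLt _
  have hcard : (s.image (extPerm σ')).card = s.card :=
    Finset.card_image_of_injective _ (extPerm σ').injective
  have h1 := hc (ind d s)
  rw [map_ind (σ := σ') (fun i => hσ i) s] at h1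
  have key : ∀ t : Finset ℕ, (∀ i ∈ t, i < d) → (Edge d t ↔ col (ind d t) = 0 ∧ t.Nonempty) := by
    intro t ht
    constructor
    · intro he
      refine ⟨?_, Finset.card_pos.1 (by rw [edge_card he]; norm_num)⟩
      simp only [col]
      rw [if_neg (fun h => hnb t he _ h.choose_spec), if_pos (Or.inr ⟨t, he, rfl⟩)]
    · rintro ⟨h0, hne⟩
      simp only [col] at h0
      split_ifs at h0 with a b
      rcases b with b | ⟨r, hr, e⟩
      · exfalso
        obtain ⟨i, hi⟩ := hne
        have := congrFun b ⟨i, ht i hi⟩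
        simp [ind, hi] at this
      · rwa [ind_injective ht (edge_lt (by omega) hr) e]
  rw [key s hs, key _ hs', h1, Finset.image_nonempty]

/-- The four dimensional binary colouring. -/
def colFour : List ℕ := [1, 0, 0, 2, 1, 2, 1, 2, 1, 1, 2, 2, 0, 0, 2, 1]

/-- The five dimensional binary colouring. -/
def colFive : List ℕ :=
  [1, 2, 1, 0, 1, 0, 0, 2, 1, 1, 1, 0, 2, 2, 0, 1, 0, 0, 2, 2, 0, 2, 0, 1, 0, 2, 2, 0, 1, 2, 0, 1]

theorem hasColour_table {d : ℕ} (tab : List ℕ) (hlt : (tab.all fun a => decide (a < 3)) = true)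
    (hchk : affCheck (fun v => tab.getD v 0) d (isId d)
      ((List.range (2 ^ d)).filter fun u => Nat.beq (tab.getD u 0) (tab.getD 0 0)) = true) :
    HasColour 2 d 3 := by
  refine ⟨fun x => (tab.getD (toNum x) 0 : ℕ), fun π hπ u h => ?_⟩
  have hb : ∀ v, tab.getD v 0 < 3 := fun v => by
    rw [List.getD_eq_getElem?_getD]
    rcases hv : tab[v]? with _ | a
    · simp
    · exact of_decide_eq_true (List.all_eq_true.1 hlt a (List.mem_of_getElem? hv))
  have hc : ∀ x, tab.getD (toNum (π x + u)) 0 = tab.getD (toNum x) 0 := fun x =>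
    natCast_inj_lt (hb _) (hb _) (h x)
  have hu : toNum u ∈ (List.range (2 ^ d)).filter fun u => Nat.beq (tab.getD u 0) (tab.getD 0 0) := by
    refine List.mem_filter.2 ⟨List.mem_range.2 (toNum_lt u), ?_⟩
    have h0 := hc 0
    rw [map_zero, zero_add, toNum_zero] at h0
    rw [Nat.beq_eq]
    exact h0
  obtain ⟨e1, e2⟩ := affCheck_id hchk π hπ u hu hc
  exact ⟨e2, e1⟩

theorem hasColour_four : HasColour 2 4 3 :=
  hasColour_table colFour (by decide) (by decide +kernel)

theorem hasColour_fiveDim : HasColour 2 5 3 :=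
  hasColour_table colFive (by decide) (by decide +kernel)

end Binary

/-- An elementary abelian group has coordinates. -/
theorem exists_coords {l : ℕ} [Fact l.Prime] {M : Type u} [AddCommGroup M] [Finite M]
    (hl : ∀ v : M, l • v = 0) : ∃ d, Nonempty (M ≃+ (Fin d → ZMod l)) := by
  obtain ⟨hmod⟩ : Nonempty (Module (ZMod l) M) := ⟨AddCommGroup.zmodModule hl⟩
  haveI : Module.Finite (ZMod l) M := Module.Finite.of_finite
  let b : Module.Basis (Fin (Module.finrank (ZMod l) M)) (ZMod l) M := Module.finBasis (ZMod l) M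
  exact ⟨Module.finrank (ZMod l) M, ⟨b.equivFun.toAddEquiv⟩⟩

theorem zmod_two_eq_one : ∀ z : ZMod 2, z ≠ 0 → z = 1 := by decide

/-- In dimension at most three over two elements, an irreducible group of order prime to three is
regular on non-zero vectors. -/
theorem binary_small_regular {H M : Type u} [Group H] [Finite H] [AddCommGroup M] [Finite M]
    [DistribMulAction H M] [FaithfulSMul H M] [Group.IsSolvable H] (hirr : IsIrr H M)
    (hl : ∀ v : M, 2 • v = 0) (h3 : ¬ 3 ∣ Nat.card H)
    (hM : Nat.card M = 4 ∨ Nat.card M = 8) :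
    ∀ v : M, v ≠ 0 → ∀ h : H, h • v = v → h = 1 := by
  classical
  haveI := hirr.1
  haveI : Fact (Nat.Prime 2) := ⟨Nat.prime_two⟩
  obtain ⟨v₀, hv₀⟩ := exists_ne (0 : M)
  haveI : Nontrivial H := by
    by_contra hc
    rw [not_nontrivial_iff_subsingleton] at hc
    haveI := hc
    rcases hirr.2 (AddSubgroup.zmultiples v₀) (fun a w hw => by
      rwa [Subsingleton.elim a 1, one_smul]) with e | e
    · exact hv₀ (AddSubgroup.zmultiples_eq_bot.1 e)
    · have h1 : Nat.card (AddSubgroup.zmultiples v₀) = Nat.card M := by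
        rw [e, AddSubgroup.card_top]
      rw [Nat.card_zmultiples, addOrderOf_eq_prime (hl v₀) hv₀] at h1
      omega
  obtain ⟨r, R, hr, hr2, hrH, hRn, hR, hRp, hfix⟩ := exists_normal_rGroup hirr hl
  haveI := Fact.mk hr
  haveI := hRn
  have hd := dvd_card_sub_one hRp hfix
  rcases hM with hM | hM
  · rw [hM] at hd
    norm_num at hd
    exact absurd ((Nat.prime_dvd_prime_iff_eq hr Nat.prime_three).1 hd ▸ hrH) h3
  · have hr7 : r = 7 := by
      rw [hM] at hd
      norm_num at hd
      exact (Nat.prime_dvd_prime_iff_eq hr (by norm_num)).1 hd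
    subst hr7
    have hpow : ∀ {q : ℕ} [Fact q.Prime] (g : H), IsPGroup q (Subgroup.zpowers g) → g ≠ 1 →
        ∃ k, k < 3 ∧ Nat.card (fixAdd (V := M) g) = 2 ^ k ∧ 2 ^ k ≡ 8 [MOD q] := by
      intro q _ g hg hg1
      obtain ⟨k, hk, he⟩ := (Nat.dvd_prime_pow Nat.prime_two).1
        (show Nat.card (fixAdd (V := M) g) ∣ 2 ^ 3 by
          rw [show (2 : ℕ) ^ 3 = Nat.card M by rw [hM]; norm_num]
          exact (fixAdd (V := M) g).card_addSubgroup_dvd_card)
      have hm := card_fix_modEq (M := M) g hg
      rw [he, hM] at hm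
      refine ⟨k, lt_of_le_of_ne hk fun e => hg1 ?_, he, hm⟩
      refine FaithfulSMul.eq_of_smul_eq_smul (α := M) fun w => ?_
      have htop : fixAdd (V := M) g = ⊤ :=
        AddSubgroup.eq_top_of_card_eq _ (by rw [he, e, hM]; norm_num)
      rw [one_smul]
      exact (show w ∈ fixAdd (V := M) g by rw [htop]; trivial)
    have hsemi : ∀ g ∈ R, g ≠ 1 → ∀ v : M, g • v = v → v = 0 := by
      intro g hg hg1 v hv
      obtain ⟨k, hk, he, hm⟩ := hpow g (hRp.to_le (Subgroup.zpowers_le.2 hg)) hg1
      interval_cases k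
      · have hbot : fixAdd (V := M) g = ⊥ := AddSubgroup.card_eq_one.1 (by rw [he]; norm_num)
        have : v ∈ fixAdd (V := M) g := hv
        rwa [hbot, AddSubgroup.mem_bot] at this
      · exact absurd hm (by decide)
      · exact absurd hm (by decide)
    intro v hv h hhv
    by_contra hh1
    obtain ⟨q, hq, hqd⟩ := Nat.exists_prime_and_dvd (show orderOf h ≠ 1 by
      rwa [Ne, orderOf_eq_one_iff])
    haveI := Fact.mk hq
    set g := h ^ (orderOf h / q) with hg
    have hgo : orderOf g = q := by
      rw [hg, orderOf_pow_orderOf_div (orderOf_pos h).ne' hqd]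
    have hg1 : g ≠ 1 := fun e => by rw [e, orderOf_one] at hgo; exact hq.ne_one hgo.symm
    have hgv : g • v = v := by
      rw [hg]
      exact MulAction.mem_stabilizer_iff.1 (pow_mem (MulAction.mem_stabilizer_iff.2 hhv) _)
    have hgp : IsPGroup q (Subgroup.zpowers g) :=
      IsPGroup.of_card (n := 1) (by rw [Nat.card_zpowers, hgo, pow_one])
    obtain ⟨k, hk, he, hm⟩ := hpow g hgp hg1
    have hk0 : k ≠ 0 := fun e => hv (by
      have hbot : fixAdd (V := M) g = ⊥ := AddSubgroup.card_eq_one.1 (by rw [he, e, pow_zero])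
      have : v ∈ fixAdd (V := M) g := hgv
      rwa [hbot, AddSubgroup.mem_bot] at this)
    by_cases hq2 : q = 2
    · subst hq2
      have hgg : g * g = 1 := by
        rw [← pow_two, ← hgo, pow_orderOf_eq_one]
      have hbig := card_le_fix_sq (M := M) hl hgg
      rw [he, hM] at hbig
      have hk2 : k = 2 := by
        interval_cases k <;> first | rfl | omega
      have h7 := card_fix_involution_modEq hRp hfix hsemi (s := g) (by rw [he, hk2, hM]; norm_num)
      rw [he, hk2] at h7
      norm_num at h7
    · have hq3 : q ≠ 3 := fun e => h3 (e ▸ hqd.trans (orderOf_dvd_natCard h))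
      have hd6 := (Nat.modEq_iff_dvd' (by
        calc 2 ^ k ≤ 2 ^ 3 := Nat.pow_le_pow_right two_pos hk.le
          _ = 8 := by norm_num)).1 hm
      interval_cases k
      · exact hk0 rfl
      · norm_num at hd6
        rcases hq.dvd_mul.1 (show q ∣ 2 * 3 from hd6) with e | e
        · exact hq2 ((Nat.prime_dvd_prime_iff_eq hq Nat.prime_two).1 e)
        · exact hq3 ((Nat.prime_dvd_prime_iff_eq hq Nat.prime_three).1 e)
      · norm_num at hd6
        exact hq2 ((Nat.prime_dvd_prime_iff_eq hq Nat.prime_two).1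
          (hq.dvd_of_dvd_pow (show q ∣ 2 ^ 2 from hd6)))

/-- A colouring of the module rigid under the affine group. -/
theorem exists_affine_colour {p l : ℕ} (hp : p.Prime) (hp2 : p ≠ 2) [Fact l.Prime] (hlp : l ≠ p)
    {H M : Type u} [Group H] [Finite H] [AddCommGroup M] [Finite M] [DistribMulAction H M]
    [FaithfulSMul H M] [Group.IsSolvable H] (hirr : IsIrr H M) (hl : ∀ v : M, l • v = 0)
    (hpH : ¬ p ∣ Nat.card H) :
    ∃ c : M → ZMod p, ∀ (h : H) (u : M), (∀ m, c (h • m + u) = c m) → h = 1 ∧ u = 0 := by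
  classical
  haveI := hirr.1
  obtain ⟨d, ⟨e⟩⟩ := exists_coords hl
  have hcard : Nat.card M = l ^ d := by
    rw [Nat.card_congr e.toEquiv]
    simp [Nat.card_fun, Nat.card_zmod]
  have hd : 0 < d := Nat.pos_of_ne_zero fun h0 => by
    subst h0
    rw [pow_zero] at hcard
    exact absurd hcard (Finite.one_lt_card (α := M)).ne'
  have hfin : HasColour l d p → ∃ c : M → ZMod p, ∀ (h : H) (u : M),
      (∀ m, c (h • m + u) = c m) → h = 1 ∧ u = 0 := by
    rintro ⟨c, hc⟩
    refine ⟨c ∘ e, fun h u hpres => ?_⟩
    let π : (Fin d → ZMod l) →+ (Fin d → ZMod l) :=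
      (e.toAddMonoidHom.comp (DistribSMul.toAddMonoidHom M h)).comp e.symm.toAddMonoidHom
    have hπ : Function.Injective π := fun a b hab =>
      e.symm.injective (MulAction.injective h (e.injective hab))
    obtain ⟨h1, h2⟩ := hc π hπ (e u) fun x => by
      have := hpres (e.symm x)
      simp only [Function.comp_apply, map_add, AddEquiv.apply_symm_apply] at this
      exact this
    refine ⟨FaithfulSMul.eq_of_smul_eq_smul (α := M) fun m => ?_,
      e.injective (h2.trans (map_zero e).symm)⟩
    rw [one_smul]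
    refine e.injective ?_
    have := h1 (e m)
    simp only [π, AddMonoidHom.comp_apply] at this
    simpa using this
  by_cases hp5 : 5 ≤ p
  · exact hfin (hasColour_five hd hp5)
  have hp3 : p = 3 := by
    have := hp.two_le
    interval_cases p <;> first | rfl | exact absurd rfl hp2 | norm_num at hp
  subst hp3
  by_cases hl2 : l = 2
  swap
  · exact hfin (hasColour_three hl2 hlp)
  subst hl2
  by_cases hd6 : 6 ≤ d
  · exact hfin (hasColour_binary hd6)
  push Not at hd6
  interval_cases d
  · refine hfin ⟨fun x => if x = 0 then 0 else 1, fun π hπ u h => ?_⟩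
    have h0 := h 0
    simp only [map_zero, zero_add, if_true] at h0
    have hu : u = 0 := by
      by_contra hu
      rw [if_neg hu] at h0
      exact absurd h0 (by decide)
    refine ⟨eq_id_of_bas fun i => ?_, hu⟩
    have hsurj : ∀ (i : Fin 1) (x : Fin 1 → ZMod 2), x ≠ 0 → x = bas i := by
      intro i x hx
      funext j
      obtain rfl := Subsingleton.elim i j
      have hxi : x i ≠ 0 := fun e => hx (funext fun k => by rw [Subsingleton.elim k i]; exact e)
      rw [bas_apply, if_pos rfl]
      exact zmod_two_eq_one _ hxi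
    exact hsurj i _ fun h => bas_ne_zero i (hπ (h.trans (map_zero π).symm))
  all_goals first
    | exact hfin hasColour_four
    | exact hfin hasColour_fiveDim
    | (obtain ⟨v, hv⟩ := exists_ne (0 : M)
       have hreg := binary_small_regular hirr hl hpH (by rw [hcard]; norm_num) v hv
       refine ⟨fun m => if m = 0 then 0 else if m = v then 1 else 2, fun h u hpres => ?_⟩
       have h0 := hpres 0
       simp only [smul_zero, zero_add, if_true] at h0
       have hu : u = 0 := by
         by_contra hu
         rw [if_neg hu] at h0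
         split_ifs at h0 <;> exact absurd h0 (by decide)
       refine ⟨hreg h ?_, hu⟩
       have h1 := hpres v
       simp only [hu, add_zero, if_neg hv, if_true,
         if_neg (fun e : h • v = 0 => hv ((smul_eq_zero_iff_eq h).1 e))] at h1
       by_contra hne
       rw [if_neg hne] at h1
       exact absurd h1 (by decide))

end CfsgLib.Char.CoprimeBase
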