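import Mathlib

/-!
# Binary vectors coded as natural numbers, and a backtracking check for affine rigidity
-/

set_option autoImplicit false
set_option linter.unusedSectionVars false

namespace CfsgLib.Char.CoprimeBase

/-- The binary vectors of length `n`. -/
abbrev Bv (n : ℕ) : Type := Fin n → ZMod 2

variable {n : ℕ}

/-- A truth value as an element of `ZMod 2`. -/
def bit01 (b : Bool) : ZMod 2 := if b then 1 else 0

theorem bit01_xor (a b : Bool) : bit01 (a ^^ b) = bit01 a + bit01 b := by
  cases a <;> cases b <;> decide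

theorem bit01_and (a b : Bool) : bit01 (a && b) = bit01 a * bit01 b := by
  cases a <;> cases b <;> decide

/-- The vector of a number. -/
def toVec (n v : ℕ) : Bv n := fun i => bit01 (v.testBit i)

theorem toVec_zero : toVec n 0 = 0 := funext fun i => by simp [toVec, bit01]

theorem toVec_xor (v w : ℕ) : toVec n (v ^^^ w) = toVec n v + toVec n w := funext fun i => by
  simp [toVec, Nat.testBit_xor, bit01_xor]

theorem toVec_injOn {v w : ℕ} (hv : v < 2 ^ n) (hw : w < 2 ^ n) (h : toVec n v = toVec n w) :
    v = w := by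
  refine Nat.eq_of_testBit_eq fun i => ?_
  by_cases hi : i < n
  · have h1 := congrFun h ⟨i, hi⟩
    simp only [toVec, bit01] at h1
    revert h1
    cases v.testBit i <;> cases w.testBit i <;> decide
  · have hle : 2 ^ n ≤ 2 ^ i := Nat.pow_le_pow_right two_pos (by omega)
    rw [Nat.testBit_lt_two_pow (hv.trans_le hle), Nat.testBit_lt_two_pow (hw.trans_le hle)]

theorem toVec_bijective : Function.Bijective fun v : Fin (2 ^ n) => toVec n v := by
  have hinj : Function.Injective fun v : Fin (2 ^ n) => toVec n v :=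
    fun v w h => Fin.ext (toVec_injOn v.2 w.2 h)
  exact (Fintype.bijective_iff_injective_and_card _).2 ⟨hinj, by simp⟩

/-- The number of a vector. -/
noncomputable def toNum (x : Bv n) : ℕ := ((Equiv.ofBijective _ toVec_bijective).symm x : Fin (2 ^ n))

theorem toNum_lt (x : Bv n) : toNum x < 2 ^ n :=
  ((Equiv.ofBijective _ toVec_bijective).symm x : Fin (2 ^ n)).2

theorem toVec_toNum (x : Bv n) : toVec n (toNum x) = x :=
  (Equiv.ofBijective _ toVec_bijective).apply_symm_apply x

theorem toNum_toVec {v : ℕ} (hv : v < 2 ^ n) : toNum (toVec n v) = v :=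
  toVec_injOn (toNum_lt _) hv (toVec_toNum _)

theorem toNum_injective : Function.Injective (toNum : Bv n → ℕ) := fun x y h => by
  rw [← toVec_toNum x, ← toVec_toNum y, h]

theorem toNum_zero : toNum (0 : Bv n) = 0 := by
  rw [← toVec_zero, toNum_toVec (Nat.two_pow_pos n)]

theorem toNum_add (x y : Bv n) : toNum (x + y) = toNum x ^^^ toNum y := by
  conv_lhs => rw [← toVec_toNum x, ← toVec_toNum y, ← toVec_xor]
  exact toNum_toVec (Nat.xor_lt_two_pow (toNum_lt x) (toNum_lt y))

theorem two_pow_xor {i v : ℕ} (hv : v < 2 ^ i) : 2 ^ i ^^^ v = 2 ^ i + v := by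
  refine Nat.eq_of_testBit_eq fun j => ?_
  rw [Nat.testBit_xor]
  rcases lt_trichotomy j i with h | h | h
  · rw [Nat.testBit_two_pow_add_gt h, Nat.testBit_two_pow]
    simp [Nat.ne_of_gt h]
  · subst h
    rw [Nat.testBit_two_pow_add_eq, Nat.testBit_lt_two_pow hv, Nat.testBit_two_pow_self]
    rfl
  · have h1 : v < 2 ^ j := hv.trans (Nat.pow_lt_pow_right one_lt_two h)
    have h2 : 2 ^ i + v < 2 ^ j := by
      calc 2 ^ i + v < 2 ^ i + 2 ^ i := by omega
        _ = 2 ^ (i + 1) := by ring
        _ ≤ 2 ^ j := Nat.pow_le_pow_right two_pos h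
    rw [Nat.testBit_lt_two_pow h1, Nat.testBit_lt_two_pow h2, Nat.testBit_two_pow]
    simp [Nat.ne_of_lt h]

/-- One step of the search: the images of the next basis vector compatible with the labels. -/
def affStep (L : ℕ → ℕ) (M u b : ℕ) (img : List ℕ) : List (List ℕ) :=
  ((List.range M).filter fun t => !(img.contains t) &&
    (List.range b).all fun v => Nat.beq (L ((img.getD v 0 ^^^ t) ^^^ u)) (L (b + v))).map
      fun t => img ++ img.map fun x => x ^^^ t

/-- The tables of the first `i` basis vectors' span compatible with the labels. -/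
def affLeaves (L : ℕ → ℕ) (M u : ℕ) : ℕ → List (List ℕ)
  | 0 => [[0]]
  | i + 1 => (affLeaves L M u i).flatMap (affStep L M u (2 ^ i))

/-- All label preserving affine maps pass the test `good`. -/
def affCheck (L : ℕ → ℕ) (n : ℕ) (good : ℕ → List ℕ → Bool) (shifts : List ℕ) : Bool :=
  shifts.all fun u => (affLeaves L (2 ^ n) u n).all (good u)

theorem range_map_split (f : ℕ → ℕ) (i : ℕ) :
    (List.range (2 ^ (i + 1))).map f =
      (List.range (2 ^ i)).map f ++ (List.range (2 ^ i)).map fun v => f (2 ^ i + v) := by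
  rw [pow_succ, mul_two, List.range_add, List.map_append, List.map_map]
  rfl

theorem getD_range_map {α : Type*} (f : ℕ → α) (d : α) {v m : ℕ} (hv : v < m) :
    ((List.range m).map f).getD v d = f v := by
  simp [List.getD, List.getElem?_map, List.getElem?_range hv]

theorem affLeaves_mem (L : ℕ → ℕ) (π : Bv n →+ Bv n) (hπ : Function.Injective π) (u : ℕ)
    (hL : ∀ v < 2 ^ n, L (toNum (π (toVec n v)) ^^^ u) = L v) :
    ∀ i ≤ n, (List.range (2 ^ i)).map (fun v => toNum (π (toVec n v))) ∈
      affLeaves L (2 ^ n) u i := by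
  intro i
  induction i with
  | zero => intro _; simp [affLeaves, toVec_zero, toNum_zero]
  | succ i ih =>
    intro hi
    have hlt : 2 ^ i < 2 ^ n := Nat.pow_lt_pow_right one_lt_two hi
    have hlt2 : ∀ v < 2 ^ i, 2 ^ i + v < 2 ^ n := fun v hv => by
      calc 2 ^ i + v < 2 ^ i + 2 ^ i := by omega
        _ = 2 ^ (i + 1) := by ring
        _ ≤ 2 ^ n := Nat.pow_le_pow_right two_pos hi
    have hnext : ∀ v < 2 ^ i, toNum (π (toVec n (2 ^ i + v))) =
        toNum (π (toVec n v)) ^^^ toNum (π (toVec n (2 ^ i))) := fun v hv => by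
      rw [← two_pow_xor hv, toVec_xor, map_add, toNum_add, Nat.xor_comm]
    rw [affLeaves, List.mem_flatMap]
    refine ⟨_, ih (by omega), ?_⟩
    rw [affStep, List.mem_map]
    refine ⟨toNum (π (toVec n (2 ^ i))), ?_, ?_⟩
    · rw [List.mem_filter, Bool.and_eq_true]
      refine ⟨List.mem_range.2 (toNum_lt _), ?_, ?_⟩
      · rw [Bool.not_eq_true', List.contains_eq_mem, decide_eq_false_iff_not, List.mem_map]
        rintro ⟨v, hv, e⟩
        rw [List.mem_range] at hv
        have := toVec_injOn (hv.trans hlt) hlt (hπ (toNum_injective e))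
        omega
      · rw [List.all_eq_true]
        intro v hv
        rw [List.mem_range] at hv
        rw [getD_range_map (fun v => toNum (π (toVec n v))) 0 hv, ← hnext v hv, Nat.beq_eq]
        exact hL _ (hlt2 v hv)
    · rw [range_map_split, List.map_map]
      congr 1
      refine List.map_congr_left fun v hv => ?_
      rw [List.mem_range] at hv
      exact (hnext v hv).symm

/-- A label preserving affine map passes a successful check. -/
theorem affCheck_sound {L : ℕ → ℕ} {good : ℕ → List ℕ → Bool} {shifts : List ℕ}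
    (h : affCheck L n good shifts = true) (π : Bv n →+ Bv n) (hπ : Function.Injective π) (u : Bv n)
    (hu : toNum u ∈ shifts) (hL : ∀ x : Bv n, L (toNum (π x + u)) = L (toNum x)) :
    good (toNum u) ((List.range (2 ^ n)).map fun v => toNum (π (toVec n v))) = true := by
  rw [affCheck, List.all_eq_true] at h
  have h1 := List.all_eq_true.1 (h _ hu)
  refine h1 _ (affLeaves_mem L π hπ (toNum u) (fun v hv => ?_) n le_rfl)
  rw [← toNum_add, hL, toNum_toVec hv]

/-- The test "identity, no shift". -/
def isId (n : ℕ) (u : ℕ) (img : List ℕ) : Bool :=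
  Nat.beq u 0 && img == List.range (2 ^ n)

/-- With the test `isId` the affine map is the identity. -/
theorem affCheck_id {L : ℕ → ℕ} {shifts : List ℕ} (h : affCheck L n (isId n) shifts = true)
    (π : Bv n →+ Bv n) (hπ : Function.Injective π) (u : Bv n) (hu : toNum u ∈ shifts)
    (hL : ∀ x : Bv n, L (toNum (π x + u)) = L (toNum x)) : u = 0 ∧ ∀ x, π x = x := by
  have h1 := affCheck_sound h π hπ u hu hL
  rw [isId, Bool.and_eq_true, Nat.beq_eq, beq_iff_eq] at h1
  refine ⟨toNum_injective (by rw [h1.1, toNum_zero]), fun x => toNum_injective ?_⟩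
  have h2 := getD_range_map (fun v => toNum (π (toVec n v))) 0 (toNum_lt x)
  rw [h1.2, toVec_toNum] at h2
  rw [← h2]
  simpa using getD_range_map id 0 (toNum_lt x)

end CfsgLib.Char.CoprimeBase
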