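import Cfsg.Agent.Lib.Char.CoprimeBase.Quot

/-!
# A pair for an absolutely irreducible normal subgroup of Heisenberg type
-/

set_option autoImplicit false
set_option linter.unusedSectionVars false
set_option linter.style.haveILetI false

namespace CfsgLib.Char.CoprimeBase

open CfsgLib.Char.OddBase

universe u

variable {K V : Type u} [Field K] [AddCommGroup V] [Module K V] [Finite V] [Nontrivial V]

/-- There is an element with three classes of fourth powers unless the field has three, five or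
nine elements. -/
theorem exists_sep3 [Finite K] (h2 : (2 : K) ≠ 0) (h : Nat.card K ≠ 3 ∧ Nat.card K ≠ 5 ∧ Nat.card K ≠ 9) :
    ∃ t : K, Sep3 t := by
  obtain ⟨g, hg⟩ := IsCyclic.exists_ofOrder_eq_natCard (α := Kˣ)
  rw [Nat.card_units] at hg
  have hQ : 2 ≤ Nat.card K := Finite.one_lt_card
  have hne : Nat.card K ≠ 2 := fun e => h2 (by
    haveI := Fintype.ofFinite K
    have := FiniteField.cast_card_eq_zero K
    rw [← Nat.card_eq_fintype_card, e] at this
    exact_mod_cast this)
  have key : ∀ k, 0 < k → (g : K) ^ k = 1 → Nat.card K - 1 ∣ k := fun k _ e => by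
    rw [← hg]
    exact orderOf_dvd_of_pow_eq_one (Units.ext (by rw [Units.val_pow_eq_pow_val, e, Units.val_one]))
  refine ⟨g, g.ne_zero, fun e => ?_, fun e => ?_⟩
  · have h1 := key 4 (by norm_num) e
    have h3 := Nat.le_of_dvd (by norm_num) h1
    obtain ⟨q, hq⟩ : ∃ q, Nat.card K = q + 1 := ⟨Nat.card K - 1, by omega⟩
    rw [hq, Nat.add_sub_cancel] at h1 h3
    interval_cases q <;> first | omega | simp_all
  · have h1 := key 8 (by norm_num) e
    have h3 := Nat.le_of_dvd (by norm_num) h1
    obtain ⟨q, hq⟩ : ∃ q, Nat.card K = q + 1 := ⟨Nat.card K - 1, by omega⟩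
    rw [hq, Nat.add_sub_cancel] at h1 h3
    interval_cases q <;> first | omega | simp_all

/-- The data of the case analysis. -/
structure HeisData (p : ℕ) (G D : Subgroup (V ≃ₗ[K] V)) (l : ℕ) : Prop where
  airr : AIrr D l
  prime : l.Prime
  nonscal : ∃ d ∈ D, d ∉ scalars K V
  solvable : Group.IsSolvable G
  coprime : ¬ p ∣ Nat.card G
  normal : ∀ g ∈ G, ∀ d ∈ D, g * d * g⁻¹ ∈ D
  chief : Nat.card K = 3 → ∀ R : Subgroup (V ≃ₗ[K] V), R ≤ D → scalars K V ≤ R →
      (∀ g ∈ G, ∀ d ∈ R, g * d * g⁻¹ ∈ R) → R = scalars K V ∨ R = D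

variable {p : ℕ} [hp : Fact p.Prime] [CharP K p] {G D : Subgroup (V ≃ₗ[K] V)} {l : ℕ}

theorem HeisData.exists_root (hd : HeisData p G D l) :
    (∃ ζ : Kˣ, orderOf ζ = l) ∧ (l : K) ≠ 0 := by
  haveI := Fact.mk hd.prime
  obtain ⟨d, hdD, hds⟩ := hd.nonscal
  obtain ⟨e, heD, hne⟩ : ∃ e ∈ D, cmt d e ≠ 1 := by
    by_contra hall
    push Not at hall
    exact hds (hd.airr.heis.sep d hdD fun e he =>
      ((cmt_eq_one_iff hd.airr.heis hdD he).1 (hall e he)).eq)
  have hpow := hd.airr.cmt_pow hdD heD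
  refine ⟨⟨cmt d e, orderOf_eq_prime hpow hne⟩, fun h0 => hne ?_⟩
  have hlp : l = p := ((Nat.prime_dvd_prime_iff_eq hp.out hd.prime).1
    ((CharP.cast_eq_zero_iff K p l).1 h0)).symm
  rw [hlp] at hpow
  refine Units.ext (sub_eq_zero.1 (pow_eq_zero_iff (n := p) hp.out.ne_zero |>.1 ?_))
  rw [sub_pow_char, Units.val_one, one_pow, ← Units.val_pow_eq_pow_val, hpow, Units.val_one, sub_self]

section Line

variable (m : Mono D 2) (hA : AIrr D 2) (hline : m.IsLine)

include hA hline

theorem paramData_line :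
    ParamData m (uOf : Bv (m.n + m.n) → Bv m.n) sOf (fun _ => 1) (fun _ _ => 0) where
  u_add := uOf_add
  s_add := sOf_add
  τ_mem _ := one_mem _
  τ_zero _ _ := rfl
  τ_mul _ _ z _ := by rw [sgnK_zero, one_smul]; rfl
  inj _ _ _ hu hs _ := idx_ext hu hs
  cover u0 s0 t ht := by
    obtain ⟨c, hc⟩ := hline (t m.x) (m.T_mapsTo ht m.x_mem)
    refine ⟨mkIdx u0 s0, c, uOf_mk _ _, sOf_mk _ _, fun z hz => ?_⟩
    obtain ⟨k, rfl⟩ := hline z hz
    rw [LinearEquiv.map_smul, hc, smul_smul, LinearEquiv.coe_one, id_eq, smul_smul, mul_comm]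

theorem cmt_lineE (a b : Bv (m.n + m.n)) :
    cmt (m.lineE b) (m.lineE a) = sgnU K (commZ a b) := by
  refine cmt_eq hA.heis (m.stdE_mem hA (one_mem _) _ _) (m.stdE_mem hA (one_mem _) _ _) ?_
  refine LinearEquiv.ext fun v => ?_
  obtain ⟨z, rfl⟩ := (m.coords hA hline).surjective v
  rw [scal_mul_apply, LinearEquiv.mul_apply, LinearEquiv.mul_apply, m.lineE_coords hA hline,
    m.lineE_coords hA hline, m.lineE_coords hA hline, m.lineE_coords hA hline, sgnU_val,
    ← LinearEquiv.map_smul, ← act_comm]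

end Line

theorem cmt_conj {D : Subgroup (V ≃ₗ[K] V)} (hD : Heis D) {g d e : V ≃ₗ[K] V} (hd : d ∈ D)
    (he : e ∈ D) (hgd : g * d * g⁻¹ ∈ D) (hge : g * e * g⁻¹ ∈ D) :
    cmt (g * d * g⁻¹) (g * e * g⁻¹) = cmt d e := by
  refine cmt_eq hD hgd hge ?_
  rw [show g * e * g⁻¹ * (g * d * g⁻¹) = g * (e * d) * g⁻¹ by group, cmt_spec hD hd he,
    ← mul_assoc g, scal_comm _ g]
  group

theorem cmt_scal_mul {D : Subgroup (V ≃ₗ[K] V)} (hD : Heis D) (c c' : Kˣ) {d e : V ≃ₗ[K] V}
    (hd : d ∈ D) (he : e ∈ D) : cmt (scal c * d) (scal c' * e) = cmt d e := by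
  rw [cmt_mul_left hD (hD.scal_mem c) hd (mul_mem (hD.scal_mem c') he),
    cmt_scal_left hD c (mul_mem (hD.scal_mem c') he), one_mul,
    cmt_mul_right hD hd (hD.scal_mem c') he, cmt_symm hD (hD.scal_mem c') hd,
    cmt_scal_left hD c' hd, inv_one, one_mul]

theorem scalars_le {D : Subgroup (V ≃ₗ[K] V)} (hD : Heis D) : scalars K V ≤ D := by
  rintro _ ⟨c, rfl⟩
  exact hD.scal_mem c

theorem count_line {n : ℕ} (hn : n = 2) :
    Nat.card (Bv (n + n)) = 16 ∧ ({a : Bv (n + n) | qSq a = 0} \ {0}).ncard = 9 := by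
  subst hn
  refine ⟨by simp, ?_⟩
  classical
  rw [Set.ncard_eq_toFinset_card']
  decide +kernel

theorem count_line_three {n : ℕ} (hn : n = 3) :
    Nat.card (Bv (n + n)) = 64 ∧ ({a : Bv (n + n) | qSq a = 0} \ {0}).ncard = 35 := by
  subst hn
  refine ⟨by simp, ?_⟩
  classical
  rw [Set.ncard_eq_toFinset_card']
  decide +kernel

/-- The middle factor of a plane. -/
noncomputable def planeT {m : Mono D l} (P : m.Plane) (k : Bv 2) : V ≃ₗ[K] V :=
  (if k 0 = 0 then 1 else P.t1) * (if k 1 = 0 then 1 else P.t2)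

/-- The sign of a product of middle factors. -/
def planeSign (a b : Bv 2) : ZMod 2 := a 1 * b 0 + a 0 * b 0 + a 1 * b 1

theorem count_plane {n : ℕ} (hn : n = 2) :
    Nat.card (Bv n × Bv n × Bv 2) = 64 ∧
      ({a : Bv n × Bv n × Bv 2 | dotZ a.2.1 a.1 + planeSign a.2.2 a.2.2 = 0} \ {0}).ncard = 27 := by
  subst hn
  refine ⟨by simp, ?_⟩
  classical
  rw [Set.ncard_eq_toFinset_card']
  decide +kernel

theorem bv_two_cases (k : Bv 2) : k = ![k 0, k 1] := by
  funext i
  fin_cases i <;> rfl

theorem paramData_plane (m : Mono D 2) (P : m.Plane) :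
    ParamData m (fun a : Bv m.n × Bv m.n × Bv 2 => a.1) (fun a => a.2.1)
      (fun a => planeT P a.2.2) (fun a b => planeSign a.2.2 b.2.2) where
  u_add _ _ := rfl
  s_add _ _ := rfl
  τ_mem a := by
    refine mul_mem ?_ ?_ <;> split
    exacts [one_mem _, P.t1_mem, one_mem _, P.t2_mem]
  τ_zero z _ := by simp [planeT]
  τ_mul a b z hz := by
    have h1 := m.T_mapsTo P.t1_mem hz
    have h2 := m.T_mapsTo P.t2_mem hz
    have h12 := m.T_mapsTo P.t1_mem h2
    show planeT P a.2.2 (planeT P b.2.2 z) =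
      sgnK K (planeSign a.2.2 b.2.2) • planeT P (a.2.2 + b.2.2) z
    rcases zmod_two_cases (a.2.2 0) with e1 | e1 <;> rcases zmod_two_cases (a.2.2 1) with e2 | e2 <;>
      rcases zmod_two_cases (b.2.2 0) with e3 | e3 <;> rcases zmod_two_cases (b.2.2 1) with e4 | e4 <;>
      simp [planeT, planeSign, e1, e2, e3, e4, zmod_two_add_self, sgnK_zero, sgnK_one, P.sq1, P.sq2,
        P.anti, hz, h1, h2, h12]
  inj a b c hu hs h := by
    have hx := m.x_ne
    have hk : a.2.2 = b.2.2 := by
      have hmem : (⟨m.x, m.x_mem⟩ : m.U0) ≠ 0 := fun e => hx (congrArg Subtype.val e)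
      have R := P.ops.tblRep hmem one_pos (r := fun _ => (1 : K)) (fun _ _ => one_ne_zero)
        (fun k hk k' hk' _ => by omega)
      let idx : Bv 2 → ℕ := fun k => (if k 0 = 0 then 0 else 1) + (if k 1 = 0 then 0 else 2)
      have hev : ∀ k, (P.ops.ev (idx k) ⟨m.x, m.x_mem⟩ : V) = planeT P k m.x := by
        intro k
        rcases zmod_two_cases (k 0) with e1 | e1 <;> rcases zmod_two_cases (k 1) with e2 | e2 <;>
          simp [idx, e1, e2, planeT, QuatOps.ev, QuatOps.E, Mono.Plane.ops]
      have hidx : ∀ k, idx k < 4 := fun k => by simp only [idx]; split_ifs <;> norm_num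
      have hc : c ^ 2 = 1 ∨ c ^ 2 = -1 := by
        obtain ⟨e, he, -, hE⟩ := P.ops.E_sq' (hidx a.2.2)
        obtain ⟨e', he', -, hE'⟩ := P.ops.E_sq' (hidx b.2.2)
        have hev' : ∀ k z, P.ops.ev (idx k) z = P.ops.E (idx k) z := fun k z => by
          rw [QuatOps.ev, Nat.div_eq_of_lt (hidx k), Nat.mod_eq_of_lt (hidx k), pow_zero, one_smul]
        have h0 : P.ops.E (idx a.2.2) ⟨m.x, m.x_mem⟩ = c • P.ops.E (idx b.2.2) ⟨m.x, m.x_mem⟩ := by
          rw [← hev', ← hev']
          exact Subtype.ext (by rw [Submodule.coe_smul, hev, hev]; exact h)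
        -- compare through the product
        obtain ⟨j, hj, hprod⟩ : ∃ j < 4, ∃ ε : K, (ε = 1 ∨ ε = -1) ∧
            (P.ops.E (idx b.2.2)).comp (P.ops.E (idx a.2.2)) = ε • P.ops.E j := by
          refine ⟨idx b.2.2 ^^^ idx a.2.2, Nat.xor_lt_two_pow (n := 2) (hidx _) (hidx _),
            (-1) ^ qSign (idx b.2.2) (idx a.2.2), neg_one_pow_eq_or K _,
            P.ops.E_mul (hidx _) (hidx _)⟩
        obtain ⟨ε, hε, hprod⟩ := hprod
        have h1 := congrArg (P.ops.E (idx b.2.2)) h0
        rw [map_smul, ← LinearMap.comp_apply, ← LinearMap.comp_apply, hE', hprod,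
          LinearMap.smul_apply, LinearMap.smul_apply, LinearMap.id_apply, smul_smul] at h1
        obtain ⟨e'', he'', -, hE''⟩ := P.ops.E_sq' hj
        have h2 := congrArg (P.ops.E j) h1
        rw [map_smul, map_smul, ← LinearMap.comp_apply, hE'', LinearMap.smul_apply,
          LinearMap.id_apply, smul_smul] at h2
        have h3 := congrArg (fun v => (c * e') • v) h1
        simp only [smul_smul] at h3
        have h4 : (c * e') • P.ops.E j (⟨m.x, m.x_mem⟩ : m.U0) =
            (ε * e'') • (⟨m.x, m.x_mem⟩ : m.U0) := h2.symm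
        have h5 : (c * e' * (c * e')) • (⟨m.x, m.x_mem⟩ : m.U0) =
            (ε * (ε * e'')) • (⟨m.x, m.x_mem⟩ : m.U0) := by
          rw [← h3, mul_comm (c * e') ε, mul_smul, h4, smul_smul]
        have h6 := smul_left_injective K hmem h5
        have he2 : e' * e' = 1 := by rcases he' with r | r <;> rw [r] <;> ring
        have hε2 : ε * ε = 1 := by rcases hε with r | r <;> rw [r] <;> ring
        have h7 : c ^ 2 = e'' := by linear_combination h6 - c * c * he2 + e'' * hε2
        rcases he'' with r | r <;> rw [r] at h7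
        · exact Or.inl h7
        · exact Or.inr h7
      have hc2 : c ^ 2 = 1 := hc.resolve_right fun e => P.nonsq ⟨c, by rw [← e, pow_two]⟩
      have hidx4 : ∀ k, idx k + 4 < 8 := fun k => by have := hidx k; omega
      have heq : idx a.2.2 % 4 = idx b.2.2 % 4 := by
        rcases sq_eq_one_iff.1 hc2 with r | r
        · rw [(R.sep _ (lt_trans (hidx a.2.2) (by decide)) _ (lt_trans (hidx b.2.2) (by decide)) 0 one_pos 0 one_pos
            (by simp only [one_smul]; exact Subtype.ext (by rw [hev, hev, h, r, one_smul]))).2]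
        · have h8 := (R.sep _ (lt_trans (hidx a.2.2) (by decide)) _ (hidx4 b.2.2) 0 one_pos 0 one_pos
            (by
              simp only [one_smul]
              refine Subtype.ext ?_
              rw [hev, h, r, neg_one_smul, ← hev, QuatOps.ev, QuatOps.ev,
                Nat.div_eq_of_lt (hidx b.2.2), show (idx b.2.2 + 4) / 4 = 1 by have := hidx b.2.2; omega,
                show (idx b.2.2 + 4) % 4 = idx b.2.2 % 4 by omega]
              simp)).2
          rw [h8, Nat.add_mod_right]
      rw [Nat.mod_eq_of_lt (hidx _), Nat.mod_eq_of_lt (hidx _)] at heq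
      rw [bv_two_cases a.2.2, bv_two_cases b.2.2]
      simp only [idx] at heq
      rcases zmod_two_cases (a.2.2 0) with e1 | e1 <;> rcases zmod_two_cases (a.2.2 1) with e2 | e2 <;>
        rcases zmod_two_cases (b.2.2 0) with e3 | e3 <;> rcases zmod_two_cases (b.2.2 1) with e4 | e4 <;>
        simp [e1, e2, e3, e4] at heq ⊢
    exact Prod.ext hu (Prod.ext hs hk)
  cover u0 s0 t ht := by
    obtain ⟨c, h | h | h | h⟩ := P.cases t ht
    · exact ⟨(u0, s0, ![0, 0]), c, rfl, rfl, fun z hz => by rw [h z hz]; simp [planeT]⟩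
    · exact ⟨(u0, s0, ![1, 0]), c, rfl, rfl, fun z hz => by rw [h z hz]; simp [planeT]⟩
    · exact ⟨(u0, s0, ![0, 1]), c, rfl, rfl, fun z hz => by rw [h z hz]; simp [planeT]⟩
    · exact ⟨(u0, s0, ![1, 1]), c, rfl, rfl, fun z hz => by rw [h z hz]; simp [planeT]⟩

theorem nonsq_three (hQ : Nat.card K = 3) : ¬ IsSquare (-1 : K) := by
  haveI : Finite K := Nat.finite_of_card_ne_zero (by omega)
  have := Fintype.ofFinite K
  rw [FiniteField.isSquare_neg_one_iff, ← Nat.card_eq_fintype_card, hQ]
  decide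

theorem char_three (hQ : Nat.card K = 3) : p = 3 := by
  haveI : Finite K := Nat.finite_of_card_ne_zero (by omega)
  haveI := card_field_eq_three hQ
  exact CharP.eq K ‹CharP K p› (card_field_eq_three hQ)

/-- Three elements, dimension two: impossible. -/
theorem plane_two_false [Finite K] (h2 : (2 : K) ≠ 0) (hQ : Nat.card K = 3) (hd : HeisData p G D 2)
    (m : Mono D 2) (P : m.Plane) (hn : m.n = 2) : False := by
  have := hd.solvable
  obtain ⟨hcard, hsing⟩ := count_plane hn
  have hpd := paramData_plane m P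
  have h2M : ∀ a : Bv m.n × Bv m.n × Bv 2, a + a = 0 := fun a =>
    Prod.ext (bv_add_self _) (Prod.ext (bv_add_self _) (bv_add_self _))
  obtain ⟨r, R, hr, hr2, hrp, -, -, -, -, h1, h3⟩ :=
    (hpd.param hd.airr h2).exists_prime_data (hD := hd.normal) hd.coprime (scalars_le hd.airr.heis)
      (by rw [hcard]; norm_num) h2M (hd.chief hQ)
  rw [hcard] at h1
  have e : (hpd.param hd.airr h2).sing = {a | dotZ a.2.1 a.1 + planeSign a.2.2 a.2.2 = 0} :=
    Set.ext fun a => hpd.sing_iff hd.airr h2 (nonsq_three hQ) h2M a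
  rw [e, hsing, show (27 : ℕ) = 3 ^ 3 by norm_num] at h3
  exact hrp (((Nat.prime_dvd_prime_iff_eq hr Nat.prime_three).1 (hr.dvd_of_dvd_pow h3)).trans
    (char_three (K := K) (p := p) hQ).symm)

theorem line_two_false [Finite K] (h2 : (2 : K) ≠ 0) (hQ : Nat.card K = 3) (hd : HeisData p G D 2)
    (m : Mono D 2) (hline : m.IsLine) (hn : m.n = 2) : False := by
  have := hd.solvable
  obtain ⟨hcard, hsing⟩ := count_line hn
  have hpd := paramData_line m hd.airr hline
  obtain ⟨r, R, hr, hr2, hrp, -, -, -, -, h1, h3⟩ :=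
    (hpd.param hd.airr h2).exists_prime_data (hD := hd.normal) hd.coprime (scalars_le hd.airr.heis)
      (by rw [hcard]; norm_num) bv_add_self (hd.chief hQ)
  have e : (hpd.param hd.airr h2).sing = {a | qSq a = 0} :=
    Set.ext fun a => (hpd.sing_iff hd.airr h2 (nonsq_three hQ) bv_add_self a).trans (by
      show dotZ (sOf a) (uOf a) + (0 : ZMod 2) = 0 ↔ qSq a = 0
      rw [add_zero]; rfl)
  rw [e, hsing, show (9 : ℕ) = 3 ^ 2 by norm_num] at h3
  exact hrp (((Nat.prime_dvd_prime_iff_eq hr Nat.prime_three).1 (hr.dvd_of_dvd_pow h3)).trans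
    (char_three (K := K) (p := p) hQ).symm)

/-- Three elements, dimension three: no element induces an involution fixing sixteen indices. -/
theorem line_three_no_invol [Finite K] (h2 : (2 : K) ≠ 0) (hQ : Nat.card K = 3)
    (hd : HeisData p G D 2) (m : Mono D 2) (hline : m.IsLine) (hn : m.n = 3) {g : V ≃ₗ[K] V}
    (hg : g ∈ G) {π : Bv (m.n + m.n) → Bv (m.n + m.n)} {χ : Bv (m.n + m.n) → K}
    (hπ : ∀ a v, g (m.lineE a v) = χ a • m.lineE (π a) (g v))
    (hfix : Nat.card {a // π a = a} = 16) : False := by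
  classical
  have := hd.solvable
  obtain ⟨hcard, hsing⟩ := count_line_three hn
  have hpd := paramData_line m hd.airr hline
  set P := hpd.param hd.airr h2 with hP
  have hPe : ∀ a, P.e a = m.lineE a := fun a => rfl
  have hsingeq : P.sing = {a | qSq a = 0} :=
    Set.ext fun a => (hpd.sing_iff hd.airr h2 (nonsq_three hQ) bv_add_self a).trans (by
      show dotZ (sOf a) (uOf a) + (0 : ZMod 2) = 0 ↔ qSq a = 0
      rw [add_zero]; rfl)
  obtain ⟨r, R, hr, hr2, hrp, hRn, -, hRp, hRfix, h1, h3⟩ :=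
    P.exists_prime_data (hD := hd.normal) hd.coprime (scalars_le hd.airr.heis)
      (by rw [hcard]; norm_num) bv_add_self (hd.chief hQ)
  rw [hcard] at h1
  rw [hsingeq, hsing] at h3
  have hr7 : r = 7 := (Nat.prime_dvd_prime_iff_eq hr (by norm_num)).1
    (show r ∣ 7 from (Nat.dvd_gcd h1 h3).trans (by decide))
  haveI := Fact.mk hr
  -- the element
  set s : P.image hd.normal := ⟨_, P.mem_image ⟨g, hg⟩⟩ with hs
  have hact : ∀ a, s • a = π a := by
    intro a
    rw [hs, Param.image_smul]
    obtain ⟨c, hc⟩ := P.act1_spec (hD := hd.normal) ⟨g, hg⟩ a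
    have hχ : χ a ≠ 0 := fun e => by
      obtain ⟨v, hv⟩ := exists_ne (0 : V)
      obtain ⟨v', hv'⟩ := (m.lineE a).surjective (g⁻¹ v)
      have h4 := hπ a v'
      rw [hv', e, zero_smul, show g (g⁻¹ v) = v from LinearEquiv.apply_symm_apply g v] at h4
      exact hv h4
    refine P.index_unique hc (c' := Units.mk0 _ hχ) (LinearEquiv.ext fun v => ?_)
    rw [hPe, hPe, LinearEquiv.mul_apply, LinearEquiv.mul_apply, hπ, scal_mul_apply, Units.val_mk0,
      show g (g⁻¹ v) = v from LinearEquiv.apply_symm_apply g v]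
  have hfs : Nat.card (fixAdd (V := Bv (m.n + m.n)) s) = 16 := by
    rw [← hfix]
    refine Nat.card_congr (Equiv.subtypeEquivRight fun a => ?_)
    show s • a = a ↔ π a = a
    rw [hact]
  -- semiregularity
  have hcomm : ∀ (h : P.image hd.normal) (a b : Bv (m.n + m.n)),
      commZ (h • a) (h • b) = commZ a b := by
    intro h a b
    obtain ⟨_, x, rfl⟩ := h
    obtain ⟨c, hc⟩ := P.act1_spec (hD := hd.normal) x a
    obtain ⟨c', hc'⟩ := P.act1_spec (hD := hd.normal) x b
    have h4 := cmt_conj hd.airr.heis (P.mem b) (P.mem a) (hd.normal _ x.2 _ (P.mem b))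
      (hd.normal _ x.2 _ (P.mem a))
    rw [hc, hc', cmt_scal_mul hd.airr.heis _ _ (P.mem _) (P.mem _)] at h4
    simp only [hPe, cmt_lineE m hd.airr hline] at h4
    exact sgnK_injective h2 (by rw [← sgnU_val, ← sgnU_val]; exact congrArg Units.val h4)
  have hsemi : ∀ σ ∈ R, σ ≠ 1 → ∀ v : Bv (m.n + m.n), σ • v = v → v = 0 := by
    intro σ hσ hσ1
    have hσp : IsPGroup r (Subgroup.zpowers σ) :=
      hRp.to_le ((Subgroup.zpowers_le).2 hσ)
    set W := fixAdd (V := Bv (m.n + m.n)) σ with hW
    have hmod := card_fix_modEq (M := Bv (m.n + m.n)) σ hσp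
    rw [hcard, hr7] at hmod
    have hodd : Odd (orderOf σ) := by
      obtain ⟨k, hk⟩ := (IsPGroup.iff_card.1 hσp)
      rw [Nat.card_zpowers] at hk
      rw [hk, hr7]
      exact Odd.pow (by decide)
    let β : Multiplicative W →* (Multiplicative W →* Kˣ) :=
      { toFun := fun a =>
          { toFun := fun b => sgnU K (commZ (Multiplicative.toAdd a : W).1 (Multiplicative.toAdd b : W).1)
            map_one' := by
              show sgnU K (commZ _ 0) = 1
              rw [commZ_comm, show commZ (0 : Bv (m.n + m.n)) _ = 0 from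
                left_eq_add.1 (by
                  have := commZ_add_left (0 : Bv (m.n + m.n)) 0 (Multiplicative.toAdd a : W).1
                  rwa [add_zero] at this)]
              simp [sgnU]
            map_mul' := fun b c => by
              show sgnU K (commZ _ (_ + _)) = _
              rw [commZ_comm, commZ_add_left, sgnU_add, commZ_comm (n := m.n), commZ_comm (n := m.n)
                (Multiplicative.toAdd c : W).1] }
        map_one' := MonoidHom.ext fun b => by
          show sgnU K (commZ 0 _) = 1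
          rw [show commZ (0 : Bv (m.n + m.n)) _ = 0 from
            left_eq_add.1 (by
              have := commZ_add_left (0 : Bv (m.n + m.n)) 0 (Multiplicative.toAdd b : W).1
              rwa [add_zero] at this)]
          simp [sgnU]
        map_mul' := fun a b => MonoidHom.ext fun c => by
          show sgnU K (commZ (_ + _) _) = _
          rw [commZ_add_left, sgnU_add]
          rfl }
    obtain ⟨t, ht⟩ := exists_sq_of_alternating β (fun a => by
        show sgnU K (commZ _ _) = 1
        rw [commZ, zmod_two_add_self]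
        simp [sgnU])
      ((injective_iff_map_eq_one β).2 fun a ha => by
        refine Multiplicative.toAdd.injective (Subtype.ext (commZ_nondeg fun b => ?_))
        set w : Bv (m.n + m.n) := (Multiplicative.toAdd a : W).1 with hw
        have hwfix : ∀ k : ℕ, σ ^ k • w = w := fun k => by
          induction k with
          | zero => rw [pow_zero, one_smul]
          | succ k ih => rw [pow_succ, mul_smul, show σ • w = w from (Multiplicative.toAdd a : W).2, ih]
        set S := ∑ i ∈ Finset.range (orderOf σ), σ ^ i • b with hS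
        have hSW : S ∈ W := by
          show σ • S = S
          rw [hS, Finset.smul_sum]
          set F : ℕ → Bv (m.n + m.n) := fun i => σ ^ i • b with hF
          have hstep : ∀ i, σ • σ ^ i • b = F (i + 1) := fun i => by
            rw [← mul_smul, ← pow_succ']
          simp only [hstep]
          have h5 := Finset.sum_range_succ' F (orderOf σ)
          have h0 : F (orderOf σ) = F 0 := by simp only [hF, pow_orderOf_eq_one, pow_zero]
          rw [Finset.sum_range_succ, h0] at h5
          exact (add_right_cancel h5).symm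
        have h6 := DFunLike.congr_fun ha (Multiplicative.ofAdd (⟨S, hSW⟩ : W))
        change sgnU K (commZ w S) = 1 at h6
        have h7 : commZ w S = (orderOf σ : ℕ) • commZ w b := by
          let φ : Bv (m.n + m.n) →+ ZMod 2 := AddMonoidHom.mk' (commZ w) fun x y => by
            rw [commZ_comm, commZ_add_left, commZ_comm x, commZ_comm y]
          show φ S = _
          rw [hS, map_sum]
          rw [Finset.sum_congr rfl (g := fun _ => commZ w b) fun i _ => by
            show commZ w (σ ^ i • b) = commZ w b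
            conv_lhs => rw [← hwfix i]
            exact hcomm _ _ _]
          rw [Finset.sum_const, Finset.card_range]
        have h8 : commZ w S = 0 := sgnK_injective h2 (by
          rw [← sgnU_val, h6, Units.val_one, sgnK_zero])
        rw [h7, nsmul_eq_mul, (ZMod.natCast_eq_one_iff_odd).2 hodd, one_mul] at h8
        exact h8)
    rw [Nat.card_congr Multiplicative.toAdd] at ht
    have hdiv : Nat.card W ∣ 2 ^ 6 := by
      have := W.card_addSubgroup_dvd_card
      rwa [hcard] at this
    obtain ⟨i, hi, hWc⟩ := (Nat.dvd_prime_pow Nat.prime_two).1 hdiv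
    intro v hv
    by_contra hv0
    have hWi : i = 6 := by
      have htle : t ≤ 8 := by nlinarith [Nat.pow_le_pow_right two_pos hi]
      have hW2 : 2 ≤ Nat.card W := by
        haveI : Nontrivial W := ⟨⟨⟨v, hv⟩, 0, fun e => hv0 (congrArg Subtype.val e)⟩⟩
        exact Finite.one_lt_card
      rw [← hW, hWc] at hmod
      rw [hWc] at ht hW2
      interval_cases i <;> first
        | rfl
        | (exfalso; revert hmod; decide)
        | (exfalso; norm_num at hW2; done)
        | (exfalso; interval_cases t <;> norm_num at ht)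
    have hWtop : W = ⊤ := AddSubgroup.eq_top_of_card_eq _ (by rw [hWc, hWi, hcard]; norm_num)
    refine hσ1 (FaithfulSMul.eq_of_smul_eq_smul (α := Bv (m.n + m.n)) fun u => ?_)
    rw [one_smul]
    exact (hWtop ▸ AddSubgroup.mem_top u : u ∈ W)
  have h9 := card_fix_involution_modEq hRp hRfix hsemi (s := s) (by rw [hfs, hcard]; norm_num)
  rw [hfs, hr7] at h9
  norm_num at h9

/-- The pair. -/
theorem HeisData.exists_pair [Finite K] (hp2 : p ≠ 2) (hd : HeisData p G D l) :
    ∃ x y : V, x ≠ 0 ∧ ∀ g ∈ G, g x = x → g y = y → g = 1 := by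
  haveI := Fact.mk hd.prime
  have hA := hd.airr
  obtain ⟨⟨ζ, hζ⟩, hlK⟩ := hd.exists_root
  have h2 : (2 : K) ≠ 0 := fun e => hp2 ((Nat.prime_dvd_prime_iff_eq hp.out Nat.prime_two).1
    ((CharP.cast_eq_zero_iff K p 2).1 (by exact_mod_cast e)))
  have := Fintype.ofFinite K
  have hex : ∀ {x y : V}, x ≠ 0 → (∀ g : V ≃ₗ[K] V, (∀ d ∈ D, g * d * g⁻¹ ∈ D) → g x = x →
      g y = y → g = 1) → ∃ x y : V, x ≠ 0 ∧ ∀ g ∈ G, g x = x → g y = y → g = 1 :=
    fun {x y} hx h => ⟨x, y, hx, fun g hg => h g (hd.normal g hg)⟩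
  obtain ⟨m⟩ := hA.exists_mono hd.prime
  rcases hA.line_or_plane m hd.prime hζ hlK (p := p) with hline | ⟨⟨P⟩⟩
  · by_cases hl2 : l = 2
    · subst hl2
      by_cases hr : m.n ≤ 1 ∨ 5 ≤ m.n ∨ (m.n = 4 ∧ IsSquare (-1 : K)) ∨ ∃ t : K, Sep3 t
      · obtain ⟨x, y, hx, h⟩ := line_pair hA m hline (lineRigid_two h2 hr)
        exact hex hx h
      push Not at hr
      obtain ⟨hn1, hn5, hn4, hsep⟩ := hr
      have hQ : Nat.card K = 3 ∨ Nat.card K = 5 ∨ Nat.card K = 9 := by
        by_contra hc
        push Not at hc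
        obtain ⟨t, ht⟩ := exists_sep3 h2 hc
        exact hsep t ht
      rcases (show (m.n = 2 ∨ m.n = 3) ∧ (Nat.card K = 5 ∨ Nat.card K = 9) ∨
          (m.n = 2 ∧ Nat.card K = 3) ∨ (m.n = 3 ∧ Nat.card K = 3) ∨ m.n = 4 by omega)
        with ⟨hn, hQ'⟩ | ⟨hn, hQ'⟩ | ⟨hn, hQ'⟩ | hn
      · obtain ⟨X, Y, hX, h⟩ := model_pair_of_list hQ' hn
        obtain ⟨x, y, hx, h⟩ := model_to_pair m hA hline (fun _ => False)
          ⟨X, Y, hX, fun g π χ hN h1 h2 => Or.inl (h g π χ hN h1 h2)⟩
        exact hex hx fun g hg h1 h2 => (h g hg h1 h2).resolve_right id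
      · exact (line_two_false h2 hQ' hd m hline hn).elim
      · have key : ∃ X Y : ModelSpace K m.n, X ≠ 0 ∧ ∀ g π χ, Normalises g π χ → g X = X → g Y = Y →
            g = 1 ∨ Nat.card {a // π a = a} = 16 := by
          rw [hn]
          obtain ⟨X, Y, hX, h⟩ := model_pair_three_three hQ'
          exact ⟨X, Y, hX, fun g π χ hN h1 h2 => (h g π χ hN h1 h2).imp_right And.right⟩
        obtain ⟨X, Y, hX, h⟩ := key
        obtain ⟨x, y, hx, h⟩ := model_to_pair m hA hline
          (fun f => ∃ (π : Bv (m.n + m.n) → Bv (m.n + m.n)) (χ : Bv (m.n + m.n) → K),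
            Nat.card {a // π a = a} = 16 ∧ ∀ a v, f (m.lineE a v) = χ a • m.lineE (π a) (f v))
          ⟨X, Y, hX, fun g π χ hN h1 h2 =>
            (h g π χ hN h1 h2).imp_right fun h3 f hf => ⟨π, χ, h3, hf⟩⟩
        refine ⟨x, y, hx, fun g hg h1 h3 => (h g (hd.normal g hg) h1 h3).resolve_right ?_⟩
        rintro ⟨π, χ, hfix, hf⟩
        exact line_three_no_invol h2 hQ' hd m hline hn hg hf hfix
      · have hQ' : Nat.card K = 3 := by
          have hns := hn4 hn
          rw [FiniteField.isSquare_neg_one_iff, ← Nat.card_eq_fintype_card] at hns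
          omega
        have key : ∃ X Y : ModelSpace K m.n, X ≠ 0 ∧
            ∀ g π χ, Normalises g π χ → g X = X → g Y = Y → g = 1 := by
          rw [hn]
          exact model_pair_three_four hQ'
        obtain ⟨X, Y, hX, h⟩ := key
        obtain ⟨x, y, hx, h⟩ := model_to_pair m hA hline (fun _ => False)
          ⟨X, Y, hX, fun g π χ hN h1 h2 => Or.inl (h g π χ hN h1 h2)⟩
        exact hex hx fun g hg h1 h2 => (h g hg h1 h2).resolve_right id
    · have hodd : Odd l := hd.prime.odd_of_ne_two hl2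
      obtain ⟨x, y, hx, h⟩ := line_pair hA m hline (rigid_odd hodd (neg_ne_zero.2 one_ne_zero)
        (by rw [hodd.neg_one_pow]; exact fun e => h2 (by linear_combination -e)))
      exact hex hx h
  · obtain rfl := P.l_two
    have hu : (⟨P.t1 m.x, m.T_mapsTo P.t1_mem m.x_mem⟩ : m.U0) ≠ 0 := fun e =>
      m.x_ne (P.t1.map_eq_zero_iff.1 (congrArg Subtype.val e))
    by_cases hr : m.n ≠ 2 ∨ ∃ t : K, Sep3 t
    · obtain ⟨x, y, hx, h⟩ := plane_pair hA m P (planeRigid_all P.ops hu hr)
      exact hex hx h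
    · push Not at hr
      have hQ : Nat.card K = 3 := by
        by_contra hc
        have hns := P.nonsq
        rw [FiniteField.isSquare_neg_one_iff, ← Nat.card_eq_fintype_card] at hns
        obtain ⟨t, ht⟩ := exists_sep3 h2 ⟨hc, by omega, by omega⟩
        exact hr.2 t ht
      exact (plane_two_false h2 hQ hd m P hr.1).elim

end CfsgLib.Char.CoprimeBase
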