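import Cfsg.Agent.Lib.Char.CoprimeBase.AffineColour
import Cfsg.Agent.Lib.Char.OddBase.Perm

/-!
# Colourings with trivial stabiliser for solvable permutation groups of order prime to `p`

For an odd prime `p` a solvable permutation group of order prime to `p` has a colouring by
`ZMod p` that only the identity preserves.
-/

set_option autoImplicit false
set_option linter.unusedSectionVars false
set_option linter.style.haveILetI false

namespace CfsgLib.Char.CoprimeBase

open CfsgLib.Char.OddBase
open scoped Pointwise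

universe u

variable {G Ω : Type u} [Group G] [MulAction G Ω]

/-- A colouring with trivial stabiliser exists. -/
def ColGood (p : ℕ) (G Ω : Type u) [Group G] [MulAction G Ω] : Prop :=
  ∃ c : Ω → ZMod p, ∀ g : G, (∀ x, c (g • x) = c x) → g = 1

theorem not_dvd_of_dvd {p a b : ℕ} (h : ¬ p ∣ b) (hab : a ∣ b) : ¬ p ∣ a :=
  fun hp => h (hp.trans hab)

theorem isSolvable_subgroup {G : Type u} [Group G] [Group.IsSolvable G] (H : Subgroup G) :
    Group.IsSolvable H :=
  Group.isSolvable_of_isSolvable_injective H.subtype_injective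

theorem isSolvable_range {G H : Type u} [Group G] [Group H] [Group.IsSolvable G] (f : G →* H) :
    Group.IsSolvable f.range :=
  Group.isSolvable_of_surjective f.rangeRestrict_surjective

/-- Two pieces. -/
theorem colGood_union {p : ℕ} [FaithfulSMul G Ω] (D : Set Ω)
    (h : ∀ (g : G) (x : Ω), g • x ∈ D ↔ x ∈ D)
    (h1 : ColGood p (restrictHom D h).range D)
    (h2 : ColGood p (restrictHom (G := G) (Dᶜ) fun g x => not_congr (h g x)).range (Dᶜ : Set Ω)) :
    ColGood p G Ω := by
  classical
  obtain ⟨c1, hc1⟩ := h1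
  obtain ⟨c2, hc2⟩ := h2
  set f1 := restrictHom D h
  set f2 := restrictHom (G := G) (Dᶜ) fun g x => not_congr (h g x)
  refine ⟨fun x => if hx : x ∈ D then c1 ⟨x, hx⟩ else c2 ⟨x, hx⟩, fun g hg => ?_⟩
  have e1 : f1 g = 1 := congrArg Subtype.val (hc1 ⟨f1 g, g, rfl⟩ fun x => by
    have := hg (x : Ω)
    simp only [dif_pos x.2, dif_pos ((h g x).2 x.2)] at this
    exact this)
  have e2 : f2 g = 1 := congrArg Subtype.val (hc2 ⟨f2 g, g, rfl⟩ fun x => by
    have := hg (x : Ω)
    simp only [dif_neg (show (x : Ω) ∉ D from x.2),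
      dif_neg (show g • (x : Ω) ∉ D from fun e => x.2 ((h g x).1 e))] at this
    exact this)
  refine FaithfulSMul.eq_of_smul_eq_smul (α := Ω) fun x => ?_
  rw [one_smul]
  by_cases hx : x ∈ D
  · exact congrArg Subtype.val (Equiv.congr_fun e1 ⟨x, hx⟩)
  · exact congrArg Subtype.val (Equiv.congr_fun e2 ⟨x, hx⟩)

/-- Blocks: the colour of a point is the colour in its block plus the colour of the block. -/
theorem colGood_blocks {p : ℕ} [hp : Fact p.Prime] [Finite G] [FaithfulSMul G Ω]
    [MulAction.IsPretransitive G Ω] (hG : ¬ p ∣ Nat.card G) (B : Set Ω) (hB : MulAction.IsBlock G B)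
    (hne : B.Nonempty)
    (h1 : ColGood p (MulAction.toPermHom G (MulAction.orbit G B)).range (MulAction.orbit G B))
    (h2 : ColGood p (restrictHom (G := MulAction.stabilizer G B) B
      (fun g x => smul_set_eq_iff.1 (MulAction.mem_stabilizer_iff.1 g.2) x)).range B) :
    ColGood p G Ω := by
  classical
  set I := MulAction.orbit G B
  set φ := MulAction.toPermHom G I
  set ρ := restrictHom (G := MulAction.stabilizer G B) B
      (fun g x => smul_set_eq_iff.1 (MulAction.mem_stabilizer_iff.1 g.2) x) with hρ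
  obtain ⟨d, hd⟩ := h1
  obtain ⟨c0, hc0⟩ := h2
  obtain ⟨b0, hb0⟩ := hne
  have hrep : ∀ i : I, ∃ g : G, g • B = (i : Set Ω) := fun i => i.2
  choose gs hgs using hrep
  have hcover : ∀ x : Ω, ∃ iy : I × B, gs iy.1 • (iy.2 : Ω) = x := by
    intro x
    obtain ⟨t, rfl⟩ := MulAction.exists_smul_eq G b0 x
    have hmem : t • b0 ∈ gs ⟨t • B, t, rfl⟩ • B := by rw [hgs]; exact Set.smul_mem_smul_set hb0
    obtain ⟨y, hy, e⟩ := hmem
    exact ⟨(_, ⟨y, hy⟩), e⟩
  choose dec hdec using hcover
  have huniq : ∀ (i j : I) (y z : B), gs i • (y : Ω) = gs j • (z : Ω) → i = j ∧ y = z := by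
    intro i j y z e
    have hij : i = j := by
      refine Subtype.ext ?_
      rw [← hgs i, ← hgs j]
      exact hB.smul_eq_smul_of_nonempty ⟨_, Set.smul_mem_smul_set y.2, by
        rw [e]; exact Set.smul_mem_smul_set z.2⟩
    subst hij
    exact ⟨rfl, Subtype.ext (MulAction.injective _ e)⟩
  refine ⟨fun x => c0 (dec x).2 + d (dec x).1, fun a ha => ?_⟩
  have hdec' : ∀ (i : I) (y : B), dec (gs i • (y : Ω)) = (i, y) := fun i y => by
    obtain ⟨e1, e2⟩ := huniq _ _ _ _ (hdec (gs i • (y : Ω)))
    exact Prod.ext e1 e2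
  have hmove : ∀ (i : I), ∃ h : MulAction.stabilizer G B, a * gs i = gs (a • i) * h := by
    intro i
    refine ⟨⟨(gs (a • i))⁻¹ * (a * gs i), ?_⟩, by group⟩
    rw [MulAction.mem_stabilizer_iff, mul_smul, mul_smul, hgs i, inv_smul_eq_iff, hgs]
    rfl
  choose hh hhe using hmove
  have hblock : ∀ (i : I) (y : B), a • gs i • (y : Ω) = gs (a • i) • ((ρ (hh i) y : B) : Ω) := by
    intro i y
    rw [← mul_smul, hhe i, mul_smul]
    rfl
  -- on each block the colour is shifted by a constant
  have hshift : ∀ (i : I) (y : B), c0 (ρ (hh i) y) + d (a • i) = c0 y + d i := by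
    intro i y
    have := ha (gs i • (y : Ω))
    simp only [hblock i y, hdec'] at this
    exact this
  have hzero : ∀ i : I, d (a • i) = d i := by
    intro i
    set δ := d i - d (a • i) with hδ
    have hiter : ∀ (k : ℕ) (y : B), c0 (((ρ (hh i)) ^ k) y) = c0 y + k • δ := by
      intro k
      induction k with
      | zero => intro y; simp
      | succ k ih =>
        intro y
        rw [pow_succ', Equiv.Perm.mul_apply,
          eq_sub_of_add_eq (hshift i (((ρ (hh i)) ^ k) y)), ih y, succ_nsmul, hδ]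
        abel
    have h := hiter (orderOf (hh i)) ⟨b0, hb0⟩
    rw [← map_pow, pow_orderOf_eq_one, map_one, Equiv.Perm.one_apply, left_eq_add,
      nsmul_eq_mul] at h
    rcases mul_eq_zero.1 h with h0 | h0
    · exfalso
      rw [ZMod.natCast_eq_zero_iff] at h0
      exact hG ((h0.trans (orderOf_dvd_natCard (hh i))).trans (Subgroup.card_subgroup_dvd_card _))
    · exact (sub_eq_zero.1 h0).symm
  have hfix : ∀ i : I, a • i = i := fun i =>
    Equiv.congr_fun (congrArg Subtype.val (hd ⟨φ a, a, rfl⟩ fun j => hzero j)) i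
  have hloc : ∀ i : I, ρ (hh i) = 1 := fun i =>
    congrArg Subtype.val (hc0 ⟨ρ (hh i), hh i, rfl⟩ fun y => by
      have := hshift i y
      rw [hfix i] at this
      exact add_right_cancel this)
  refine FaithfulSMul.eq_of_smul_eq_smul (α := Ω) fun x => ?_
  rw [one_smul, ← hdec x, hblock, hloc, hfix, Equiv.Perm.one_apply]

/-- A primitive solvable group. -/
theorem colGood_primitive {p : ℕ} [hp : Fact p.Prime] (hp2 : p ≠ 2) [Finite G] [FaithfulSMul G Ω]
    [Nontrivial Ω] [Group.IsSolvable G] (hG : ¬ p ∣ Nat.card G)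
    (hprim : MulAction.IsPreprimitive G Ω) : ColGood p G Ω := by
  classical
  haveI := hprim.toIsPretransitive
  obtain ⟨ω⟩ := (inferInstance : Nonempty Ω)
  haveI hnt : Nontrivial G := by
    obtain ⟨x, y, hxy⟩ := exists_pair_ne Ω
    obtain ⟨g, rfl⟩ := MulAction.exists_smul_eq G x y
    exact ⟨⟨g, 1, fun e => hxy (by rw [e, one_smul])⟩⟩
  obtain ⟨M, ⟨hMn, hM⟩, hmin⟩ := (Set.toFinite {K : Subgroup G | K.Normal ∧ K ≠ ⊥}).exists_minimal
    ⟨⊤, ⟨inferInstance, top_ne_bot⟩⟩
  haveI := hMn
  have hmin' : ∀ K : Subgroup G, K.Normal → K ≤ M → K = ⊥ ∨ K = M := fun K hK hKM =>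
    or_iff_not_imp_left.2 fun h => le_antisymm hKM (hmin ⟨hK, h⟩ hKM)
  obtain ⟨hMc', l, hl, hMpow⟩ := Coprime.minimal_normal_solvable hM hmin'
  obtain ⟨-, -, -, -, -, -, hMc⟩ := Coprime.exists_minimal_abelian M hM hmin'
  obtain ⟨-, hfaith, hirr⟩ := Coprime.primitive_stabilizer_complement hprim M hM hmin' ω
  obtain ⟨ht, hreg, -⟩ := Coprime.primitive_minimal_normal_regular hprim M hM hmin'
  haveI := Fact.mk hl
  set H := MulAction.stabilizer G ω with hH
  have hcomm : ∀ a b : M, a * b = b * a := fun a b =>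
    Subtype.ext (Subgroup.mem_centralizer_iff.1 (hMc b.2) a a.2)
  letI : CommGroup M := { (inferInstance : Group M) with mul_comm := hcomm }
  have hbij : Function.Bijective (fun m : M => (m : G) • ω) := by
    refine ⟨fun a b hab => ?_, fun x => ?_⟩
    · have : b⁻¹ * a ∈ MulAction.stabilizer M ω := by
        rw [MulAction.mem_stabilizer_iff]
        show ((b : G)⁻¹ * a) • ω = ω
        rw [mul_smul]
        exact inv_smul_eq_iff.2 hab
      rw [hreg ω, Subgroup.mem_bot, inv_mul_eq_one] at this
      exact this.symm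
    · obtain ⟨m, hm⟩ := ht.exists_smul_eq ω x
      exact ⟨m, hm⟩
  let ψ : H →* MulAut M := (MulAut.conjNormal (H := M)).comp H.subtype
  letI instM : DistribMulAction H (Additive M) :=
    { smul := fun h v => Additive.ofMul (ψ h (Additive.toMul v))
      one_smul := fun v => by
        show Additive.ofMul (ψ 1 (Additive.toMul v)) = v
        rw [map_one]; rfl
      mul_smul := fun a b v => by
        show Additive.ofMul (ψ (a * b) (Additive.toMul v)) = _
        rw [map_mul]; rfl
      smul_zero := fun a => by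
        show Additive.ofMul (ψ a 1) = 0
        rw [map_one]; rfl
      smul_add := fun a v w => by
        show Additive.ofMul (ψ a (Additive.toMul v * Additive.toMul w)) = _
        rw [map_mul]; rfl }
  have hact : ∀ (h : H) (m : M),
      ((Additive.toMul (h • Additive.ofMul m) : M) : G) = (h : G) * m * (h : G)⁻¹ := fun h m =>
    MulAut.conjNormal_apply (H := M) (h : G) m
  haveI : FaithfulSMul H (Additive M) := by
    refine ⟨fun {a b} hab => ?_⟩
    have h1 : ((b⁻¹ * a : H) : G) ∈ H ⊓ Subgroup.centralizer (M : Set G) := by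
      refine ⟨(b⁻¹ * a).2, Subgroup.mem_centralizer_iff.2 fun m hm => ?_⟩
      have h2 : (b⁻¹ * a) • Additive.ofMul (⟨m, hm⟩ : M) = Additive.ofMul (⟨m, hm⟩ : M) := by
        rw [mul_smul, hab, inv_smul_smul]
      have h3 := hact (b⁻¹ * a) ⟨m, hm⟩
      rw [h2, toMul_ofMul] at h3
      exact eq_mul_inv_iff_mul_eq.1 h3
    rw [hfaith, Subgroup.mem_bot] at h1
    have h4 : b⁻¹ * a = 1 := Subtype.ext h1
    exact (inv_mul_eq_one.1 h4).symm
  haveI : Nontrivial M := (Subgroup.nontrivial_iff_ne_bot M).2 hM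
  have hIrr : IsIrr H (Additive M) := by
    refine ⟨inferInstance, fun U hU => ?_⟩
    set K : Subgroup G := (AddSubgroup.toSubgroup' U).map M.subtype with hK
    have hKle : K ≤ M := Subgroup.map_subtype_le _
    have hHK : H ≤ Subgroup.normalizer (K : Set G) := by
      have hstep : ∀ h ∈ H, ∀ k ∈ K, h * k * h⁻¹ ∈ K := by
        rintro h hh _ ⟨m, hm, rfl⟩
        exact ⟨_, hU ⟨h, hh⟩ (Additive.ofMul m) hm, hact ⟨h, hh⟩ m⟩
      intro h hh
      rw [Subgroup.mem_normalizer_iff]
      refine fun k => ⟨hstep h hh k, fun hk => ?_⟩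
      have := hstep h⁻¹ (inv_mem hh) _ hk
      rwa [inv_inv, show h⁻¹ * (h * k * h⁻¹) * h = k by group] at this
    rcases hirr K hKle hHK with e | e
    · left
      rw [hK, Subgroup.map_eq_bot_iff_of_injective _ M.subtype_injective] at e
      refine (AddSubgroup.eq_bot_iff_forall _).2 fun v hv => ?_
      have : Additive.toMul v ∈ AddSubgroup.toSubgroup' U := hv
      rw [e, Subgroup.mem_bot] at this
      exact Additive.toMul.injective (this.trans toMul_zero.symm)
    · right
      refine eq_top_iff.2 fun v _ => ?_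
      have : ((Additive.toMul v : M) : G) ∈ K := by rw [e]; exact (Additive.toMul v).2
      obtain ⟨m, hm, he⟩ := this
      have h5 : m = Additive.toMul v := Subtype.ext he
      rw [h5] at hm
      exact hm
  haveI : Finite (Additive M) := Finite.of_equiv M Additive.ofMul
  have hlp : l ≠ p := by
    rintro rfl
    obtain ⟨m, hm⟩ := exists_ne (1 : M)
    have h1 : m ^ l = 1 := Subtype.ext (by simpa using hMpow m m.2)
    exact hG ((orderOf_eq_prime h1 hm) ▸
      (orderOf_dvd_natCard m).trans (Subgroup.card_subgroup_dvd_card M))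
  haveI : Group.IsSolvable H := isSolvable_subgroup H
  obtain ⟨c, hc⟩ := exists_affine_colour hp.out hp2 hlp hIrr
    (fun v => by
      have : (Additive.toMul v) ^ l = 1 := Subtype.ext (by simpa using hMpow _ (Additive.toMul v).2)
      exact Additive.toMul.injective (this.trans toMul_zero.symm))
    (not_dvd_of_dvd hG (Subgroup.card_subgroup_dvd_card H))
  set e := Equiv.ofBijective _ hbij with he
  refine ⟨fun x => c (Additive.ofMul (e.symm x)), fun g hg => ?_⟩
  set m0 := e.symm (g • ω) with hm0
  have hm0e : (m0 : G) • ω = g • ω := e.apply_symm_apply (g • ω)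
  have hmem : (m0 : G)⁻¹ * g ∈ H := by
    rw [MulAction.mem_stabilizer_iff, mul_smul, ← hm0e, inv_smul_smul]
  set h0 : H := ⟨(m0 : G)⁻¹ * g, hmem⟩ with hh0
  have hmap : ∀ n : M, g • (e n) = e (m0 * Additive.toMul (h0 • Additive.ofMul n)) := by
    intro n
    show g • ((n : G) • ω) =
      (((m0 * Additive.toMul (h0 • Additive.ofMul n) : M)) : G) • ω
    rw [Subgroup.coe_mul, hact, ← mul_smul]
    have hh : (h0 : G)⁻¹ • ω = ω := inv_smul_eq_iff.2 (MulAction.mem_stabilizer_iff.1 h0.2).symm
    rw [show g * (n : G) = (m0 : G) * (h0 : G) * (n : G) by rw [hh0]; group]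
    conv_rhs => rw [mul_smul, mul_smul, mul_smul, hh]
    rw [mul_smul, mul_smul]
  obtain ⟨e1, e2⟩ := hc h0 (Additive.ofMul m0) fun v => by
    have := hg (e (Additive.toMul v))
    simp only [hmap, Equiv.symm_apply_apply, ofMul_toMul, ofMul_mul] at this
    rw [add_comm]
    exact this
  have e3 : (h0 : G) = 1 := congrArg Subtype.val e1
  have e4 : m0 = 1 := Additive.ofMul.injective (e2.trans ofMul_one.symm)
  rw [hh0] at e3
  simpa [e4] using e3

/-- A colouring with trivial stabiliser. -/
theorem exists_colour {p : ℕ} [hp : Fact p.Prime] (hp2 : p ≠ 2) :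
    ∀ (n : ℕ) (G Ω : Type u) [Group G] [Finite G] [MulAction G Ω] [Finite Ω] [FaithfulSMul G Ω]
      [Group.IsSolvable G], ¬ p ∣ Nat.card G → Nat.card Ω = n → ColGood p G Ω := by
  classical
  intro n
  induction n using Nat.strong_induction_on with
  | _ n ih =>
  intro G Ω _ _ _ _ _ _ hG hn
  have hsmall : ∀ (H Δ : Type u) [Group H] [Finite H] [MulAction H Δ] [Finite Δ] [FaithfulSMul H Δ]
      [Group.IsSolvable H], ¬ p ∣ Nat.card H → Nat.card Δ < n → ColGood p H Δ :=
    fun H Δ _ _ _ _ _ _ hH hlt => ih _ hlt H Δ hH rfl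
  rcases subsingleton_or_nontrivial Ω with hΩ | hΩ
  · exact ⟨fun _ => 0, fun g _ =>
      FaithfulSMul.eq_of_smul_eq_smul (α := Ω) fun x => Subsingleton.elim _ _⟩
  by_cases htr : MulAction.IsPretransitive G Ω
  · haveI := htr
    by_cases hprim : MulAction.IsPreprimitive G Ω
    · exact colGood_primitive hp2 hG hprim
    · obtain ⟨B, hB, hBt⟩ : ∃ B : Set Ω, MulAction.IsBlock G B ∧ ¬ MulAction.IsTrivialBlock B := by
        by_contra hc
        push Not at hc
        exact hprim { isTrivialBlock_of_isBlock := fun {B} hB => hc B hB }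
      rw [MulAction.IsTrivialBlock, not_or, Set.not_subsingleton_iff] at hBt
      have hne := hBt.1.nonempty
      have hBn : Nat.card B < n := by
        rw [← hn, Nat.card_coe_set_eq, ← Set.ncard_univ]
        exact Set.ncard_lt_ncard (Set.ssubset_univ_iff.2 hBt.2)
      have hIn : Nat.card (MulAction.orbit G B) < n := by
        have h := MulAction.IsBlock.ncard_block_mul_ncard_orbit_eq hB hne
        rw [← Nat.card_coe_set_eq (MulAction.orbit G B), hn] at h
        have h2 : 1 < B.ncard := Set.one_lt_ncard_iff_nontrivial.2 hBt.1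
        rw [← h]
        haveI : Nonempty (MulAction.orbit G B) := ⟨⟨B, MulAction.mem_orbit_self B⟩⟩
        calc Nat.card (MulAction.orbit G B) = 1 * Nat.card (MulAction.orbit G B) := (one_mul _).symm
          _ < B.ncard * Nat.card (MulAction.orbit G B) :=
            Nat.mul_lt_mul_of_pos_right h2 Nat.card_pos
      haveI : Group.IsSolvable (MulAction.stabilizer G B) := isSolvable_subgroup _
      haveI := isSolvable_range (MulAction.toPermHom G (MulAction.orbit G B))
      haveI := isSolvable_range (restrictHom (G := MulAction.stabilizer G B) B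
        (fun g x => smul_set_eq_iff.1 (MulAction.mem_stabilizer_iff.1 g.2) x))
      exact colGood_blocks hG B hB hne
        (hsmall _ _ (not_dvd_of_dvd hG (Subgroup.card_range_dvd _)) hIn)
        (hsmall _ _ (not_dvd_of_dvd hG
          ((Subgroup.card_range_dvd _).trans (Subgroup.card_subgroup_dvd_card _))) hBn)
  · obtain ⟨x⟩ := (inferInstance : Nonempty Ω)
    set D := MulAction.orbit G x with hD
    have hinv : ∀ (g : G) (y : Ω), g • y ∈ D ↔ y ∈ D := fun g y => by
      rw [hD, ← MulAction.orbit_eq_iff, ← MulAction.orbit_eq_iff (b := x), MulAction.orbit_smul]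
    have hDc : Dᶜ.Nonempty := by
      rw [Set.nonempty_compl]
      intro e
      refine htr ⟨fun a b => ?_⟩
      obtain ⟨s, hs⟩ : a ∈ D := e ▸ Set.mem_univ a
      obtain ⟨t, ht⟩ : b ∈ D := e ▸ Set.mem_univ b
      exact ⟨t * s⁻¹, by rw [← hs, ← ht, mul_smul]; simp⟩
    have hsum : Nat.card D + Nat.card (Dᶜ : Set Ω) = Nat.card Ω := by
      rw [← Nat.card_sum]; exact Nat.card_congr (Equiv.Set.sumCompl D)
    have hDne : D.Nonempty := MulAction.nonempty_orbit x
    haveI := hDne.to_subtype
    haveI := hDc.to_subtype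
    have p1 : 0 < Nat.card D := Nat.card_pos
    have p2 : 0 < Nat.card (Dᶜ : Set Ω) := Nat.card_pos
    haveI := isSolvable_range (restrictHom D hinv)
    haveI := isSolvable_range (restrictHom (G := G) (Dᶜ) fun g y => not_congr (hinv g y))
    exact colGood_union D hinv
      (hsmall _ _ (not_dvd_of_dvd hG (Subgroup.card_range_dvd _)) (by omega))
      (hsmall _ _ (not_dvd_of_dvd hG (Subgroup.card_range_dvd _)) (by omega))

end CfsgLib.Char.CoprimeBase
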