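import Cfsg.Agent.Lib.Char.CoprimeBase.Twisted
import Cfsg.Agent.Lib.Char.OddBase.Pairing

/-!
# The commutator pairing of a Heisenberg type group, and stabilisers of vectors
-/

set_option autoImplicit false
set_option linter.unusedSectionVars false
set_option linter.style.haveILetI false

namespace CfsgLib.Char.CoprimeBase

universe u

variable {K V : Type u} [Field K] [AddCommGroup V] [Module K V]

theorem scal_injective [Nontrivial V] : Function.Injective (scal : Kˣ → (V ≃ₗ[K] V)) := by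
  intro a b h
  obtain ⟨v, hv⟩ := exists_ne (0 : V)
  have h1 := LinearEquiv.congr_fun h v
  rw [scal_apply, scal_apply, ← sub_eq_zero, ← sub_smul] at h1
  exact Units.ext (sub_eq_zero.1 ((smul_eq_zero.1 h1).resolve_right hv))

theorem scal_mul_apply (c : Kˣ) (g : V ≃ₗ[K] V) (v : V) : (scal c * g : V ≃ₗ[K] V) v = (c : K) • g v := rfl

open Classical in
/-- The scalar `c` with `e * d = c * (d * e)`. -/
noncomputable def cmt (d e : V ≃ₗ[K] V) : Kˣ :=
  if h : ∃ c : Kˣ, e * d = scal c * (d * e) then h.choose else 1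

variable {D : Subgroup (V ≃ₗ[K] V)} (hD : Heis D)
include hD

theorem cmt_spec {d e : V ≃ₗ[K] V} (hd : d ∈ D) (he : e ∈ D) :
    e * d = scal (cmt d e) * (d * e) := by
  classical
  have h := hD.comm d hd e he
  rw [cmt, dif_pos h]
  exact h.choose_spec

variable [Nontrivial V]

theorem cmt_eq {d e : V ≃ₗ[K] V} {c : Kˣ} (hd : d ∈ D) (he : e ∈ D)
    (h : e * d = scal c * (d * e)) : cmt d e = c :=
  scal_injective (V := V) (mul_right_cancel ((cmt_spec hD hd he).symm.trans h))

theorem cmt_eq_one_iff {d e : V ≃ₗ[K] V} (hd : d ∈ D) (he : e ∈ D) :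
    cmt d e = 1 ↔ Commute e d := by
  constructor
  · intro h
    have := cmt_spec hD hd he
    rwa [h, map_one, one_mul] at this
  · intro h
    exact cmt_eq hD hd he (by rw [map_one, one_mul]; exact h)

theorem cmt_self {d : V ≃ₗ[K] V} (hd : d ∈ D) : cmt d d = 1 :=
  (cmt_eq_one_iff hD hd hd).2 (Commute.refl d)

theorem cmt_mul_left {a b e : V ≃ₗ[K] V} (ha : a ∈ D) (hb : b ∈ D) (he : e ∈ D) :
    cmt (a * b) e = cmt a e * cmt b e := by
  refine cmt_eq hD (mul_mem ha hb) he ?_
  calc e * (a * b) = (e * a) * b := (mul_assoc _ _ _).symm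
    _ = scal (cmt a e) * a * (e * b) := by rw [cmt_spec hD ha he]; group
    _ = scal (cmt a e) * (a * scal (cmt b e)) * (b * e) := by rw [cmt_spec hD hb he]; group
    _ = scal (cmt a e) * scal (cmt b e) * (a * b * e) := by rw [scal_comm]; group
    _ = scal (cmt a e * cmt b e) * (a * b * e) := by rw [map_mul]

theorem cmt_symm {d e : V ≃ₗ[K] V} (hd : d ∈ D) (he : e ∈ D) : cmt e d = (cmt d e)⁻¹ := by
  refine cmt_eq hD he hd ?_
  have h := cmt_spec hD hd he
  calc d * e = scal ((cmt d e)⁻¹) * (scal (cmt d e) * (d * e)) := by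
        rw [← mul_assoc, ← map_mul, inv_mul_cancel, map_one, one_mul]
    _ = scal ((cmt d e)⁻¹) * (e * d) := by rw [← h]

theorem cmt_mul_right {d a b : V ≃ₗ[K] V} (hd : d ∈ D) (ha : a ∈ D) (hb : b ∈ D) :
    cmt d (a * b) = cmt d a * cmt d b := by
  rw [cmt_symm hD (mul_mem ha hb) hd, cmt_mul_left hD ha hb hd, mul_inv, ← cmt_symm hD ha hd,
    ← cmt_symm hD hb hd]

theorem cmt_one_left {e : V ≃ₗ[K] V} (he : e ∈ D) : cmt 1 e = 1 :=
  (cmt_eq_one_iff hD (one_mem D) he).2 (Commute.one_right e)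

theorem cmt_scal_left (c : Kˣ) {e : V ≃ₗ[K] V} (he : e ∈ D) : cmt (scal c) e = 1 :=
  (cmt_eq_one_iff hD (hD.scal_mem c) he).2 (scal_comm c e)

theorem cmt_pow_left {d e : V ≃ₗ[K] V} (hd : d ∈ D) (he : e ∈ D) (k : ℕ) :
    cmt (d ^ k) e = cmt d e ^ k := by
  induction k with
  | zero => rw [pow_zero, pow_zero, cmt_one_left hD he]
  | succ k ih => rw [pow_succ, pow_succ, cmt_mul_left hD (pow_mem hd k) hd he, ih]

theorem cmt_pow_eq_one {d e : V ≃ₗ[K] V} (hd : d ∈ D) (he : e ∈ D) {l : ℕ}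
    (hpow : d ^ l ∈ scalars K V) : cmt d e ^ l = 1 := by
  obtain ⟨c, hc⟩ := hpow
  rw [← cmt_pow_left hD hd he, ← hc, cmt_scal_left hD c he]

/-- A power of a product of two elements. -/
theorem mul_pow_cmt {a b : V ≃ₗ[K] V} (ha : a ∈ D) (hb : b ∈ D) :
    ∀ k : ℕ, (a * b) ^ k = scal (cmt a b ^ (k * (k - 1) / 2)) * (a ^ k * b ^ k) := by
  have hc : ∀ k : ℕ, b ^ k * a = scal (cmt a b ^ k) * (a * b ^ k) := by
    intro k
    rw [← show cmt a (b ^ k) = cmt a b ^ k by
      induction k with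
      | zero => rw [pow_zero, pow_zero, cmt_symm hD (one_mem D) ha, cmt_one_left hD ha, inv_one]
      | succ k ih => rw [pow_succ, pow_succ, cmt_mul_right hD ha (pow_mem hb k) hb, ih]]
    exact cmt_spec hD ha (pow_mem hb k)
  intro k
  induction k with
  | zero => simp
  | succ k ih =>
    rw [pow_succ, ih]
    calc scal (cmt a b ^ (k * (k - 1) / 2)) * (a ^ k * b ^ k) * (a * b)
        = scal (cmt a b ^ (k * (k - 1) / 2)) * a ^ k * (b ^ k * a) * b := by group
      _ = scal (cmt a b ^ (k * (k - 1) / 2)) * (a ^ k * scal (cmt a b ^ k)) * (a * b ^ k) * b := by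
          rw [hc k]; group
      _ = scal (cmt a b ^ (k * (k - 1) / 2)) * scal (cmt a b ^ k) * (a ^ (k + 1) * b ^ (k + 1)) := by
          rw [scal_comm, pow_succ a, pow_succ b]; group
      _ = scal (cmt a b ^ ((k + 1) * (k + 1 - 1) / 2)) * (a ^ (k + 1) * b ^ (k + 1)) := by
          rw [← map_mul, ← pow_add]
          congr 3
          rcases k with _ | k
          · rfl
          · rw [show (k + 1 + 1) * (k + 1 + 1 - 1) = (k + 1) * (k + 1 - 1) + (k + 1) * 2 by
              simp only [Nat.add_sub_cancel]; ring, Nat.add_mul_div_right _ _ two_pos]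

/-- For odd `l` products of elements of exponent `l` have exponent `l`. -/
theorem mul_pow_odd {a b : V ≃ₗ[K] V} (ha : a ∈ D) (hb : b ∈ D) {l : ℕ} (hl : Odd l)
    (hc : cmt a b ^ l = 1) : (a * b) ^ l = a ^ l * b ^ l := by
  rw [mul_pow_cmt hD ha hb l]
  obtain ⟨k, rfl⟩ := hl
  rw [show (2 * k + 1) * (2 * k + 1 - 1) / 2 = (2 * k + 1) * k by
    rw [Nat.add_sub_cancel, show (2 * k + 1) * (2 * k) = (2 * k + 1) * k * 2 by ring,
      Nat.mul_div_cancel _ two_pos], pow_mul, hc, one_pow, map_one, one_mul]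

end CfsgLib.Char.CoprimeBase
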