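import Cfsg.Agent.Lib.Char.CoprimeBase.Main
import Cfsg.Agent.Lib.Coprime.Action
import Cfsg.Agent.Lib.Coprime.PGroupFrattini

/-!
# Coprime solvable groups of automorphisms of arbitrary finite groups have a base of size two

Regular points on `K × K` are counted through the fixed points of all subgroups, which agree with
those on the product of invariant Sylow subgroups.
-/

set_option autoImplicit false
set_option linter.unusedSectionVars false
set_option linter.style.haveILetI false

namespace CfsgLib.Char.CoprimeBase

open CfsgLib.Coprime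
open scoped commutatorElement

universe u v w

section Count

variable {A : Type v} [Group A] [Finite A] {X : Type u} {Y : Type w} [MulAction A X] [MulAction A Y]
  [Finite X] [Finite Y]

/-- Equal numbers of fixed points of all subgroups give equal numbers of points of each
stabiliser. -/
theorem card_stabilizer_eq (h : ∀ B : Subgroup A,
    Nat.card {x : X // ∀ b ∈ B, b • x = x} = Nat.card {y : Y // ∀ b ∈ B, b • y = y}) :
    ∀ B : Subgroup A, Nat.card {x : X // MulAction.stabilizer A x = B} =
      Nat.card {y : Y // MulAction.stabilizer A y = B} := by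
  classical
  haveI : Fintype (Subgroup A) := Fintype.ofFinite _
  haveI := Fintype.ofFinite X
  haveI := Fintype.ofFinite Y
  intro B
  induction B using WellFoundedGT.induction with
  | _ B ih =>
    have key : ∀ (Z : Type (max u v w)) [Fintype Z] (st : Z → Subgroup A),
        (Finset.univ.filter fun z => B ≤ st z).card =
          (Finset.univ.filter fun z => st z = B).card +
            ∑ C ∈ Finset.univ.filter (fun C => B < C), (Finset.univ.filter fun z => st z = C).card := by
      intro Z _ st
      rw [Finset.card_eq_sum_card_fiberwise (f := st) (t := Finset.univ.filter fun C => B ≤ C)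
        (fun z hz => by simpa using hz)]
      have hins : (Finset.univ.filter fun C => B ≤ C) =
          insert B (Finset.univ.filter fun C => B < C) := by
        ext C
        simp only [Finset.mem_filter, Finset.mem_univ, true_and, Finset.mem_insert]
        constructor
        · exact fun hC => (eq_or_lt_of_le hC).imp Eq.symm id
        · rintro (rfl | hC)
          · exact le_rfl
          · exact hC.le
      rw [hins, Finset.sum_insert (by simp)]
      congr 1
      · congr 1
        ext z
        simp only [Finset.mem_filter, Finset.mem_univ, true_and]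
        exact ⟨fun hz => hz.2, fun hz => ⟨hz ▸ le_rfl, hz⟩⟩
      · refine Finset.sum_congr rfl fun C hC => congrArg Finset.card ?_
        ext z
        simp only [Finset.mem_filter, Finset.mem_univ, true_and] at hC ⊢
        exact ⟨fun hz => hz.2, fun hz => ⟨hz ▸ hC.le, hz⟩⟩
    have hX := key (ULift.{max v w} X) (fun z => MulAction.stabilizer A z.down)
    have hY := key (ULift.{max u v} Y) (fun z => MulAction.stabilizer A z.down)
    have conv : ∀ {Z : Type (max u v w)} [Fintype Z] (P : Z → Prop) [DecidablePred P],
        (Finset.univ.filter P).card = Nat.card {z // P z} := fun P _ => by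
      rw [Nat.card_eq_fintype_card, Fintype.card_subtype]
    simp only [conv] at hX hY
    have eX : ∀ P : X → Prop, Nat.card {z : ULift.{max v w} X // P z.down} = Nat.card {x // P x} :=
      fun P => Nat.card_congr (Equiv.ulift.subtypeEquiv fun _ => Iff.rfl)
    have eY : ∀ P : Y → Prop, Nat.card {z : ULift.{max u v} Y // P z.down} = Nat.card {y // P y} :=
      fun P => Nat.card_congr (Equiv.ulift.subtypeEquiv fun _ => Iff.rfl)
    rw [eX (fun x => B ≤ MulAction.stabilizer A x), eX (fun x => MulAction.stabilizer A x = B)] at hX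
    rw [eY (fun x => B ≤ MulAction.stabilizer A x), eY (fun x => MulAction.stabilizer A x = B)] at hY
    have hb : Nat.card {x : X // B ≤ MulAction.stabilizer A x} =
        Nat.card {y : Y // B ≤ MulAction.stabilizer A y} := by
      simpa only [SetLike.le_def, MulAction.mem_stabilizer_iff] using h B
    have hsum : ∑ C ∈ Finset.univ.filter (fun C => B < C),
        Nat.card {z : ULift.{max v w} X // MulAction.stabilizer A z.down = C} =
        ∑ C ∈ Finset.univ.filter (fun C => B < C),
        Nat.card {z : ULift.{max u v} Y // MulAction.stabilizer A z.down = C} := by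
      refine Finset.sum_congr rfl fun C hC => ?_
      rw [eX (fun x => MulAction.stabilizer A x = C), eY (fun x => MulAction.stabilizer A x = C)]
      exact ih C (Finset.mem_filter.1 hC).2
    omega

/-- A regular point on one side gives one on the other. -/
theorem exists_regular_of_card_eq (h : ∀ B : Subgroup A,
    Nat.card {x : X // ∀ b ∈ B, b • x = x} = Nat.card {y : Y // ∀ b ∈ B, b • y = y})
    (hY : ∃ y : Y, MulAction.stabilizer A y = ⊥) : ∃ x : X, MulAction.stabilizer A x = ⊥ := by
  obtain ⟨y, hy⟩ := hY
  haveI : Nonempty {y : Y // MulAction.stabilizer A y = ⊥} := ⟨⟨y, hy⟩⟩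
  have h1 := card_stabilizer_eq h ⊥
  have h2 : 0 < Nat.card {y : Y // MulAction.stabilizer A y = ⊥} := Nat.card_pos
  rw [← h1] at h2
  obtain ⟨⟨x, hx⟩⟩ := (Nat.card_pos_iff.1 h2).1
  exact ⟨x, hx⟩

end Count

section PGroup

variable {A : Type v} [Group A] [Finite A] [Group.IsSolvable A]

/-- A coprime solvable group acting on a `q`-group. -/
theorem exists_pair_pGroup {Q : Type u} [Group Q] [Finite Q] {q : ℕ} [hq : Fact q.Prime]
    (hQ : IsPGroup q Q) (hA : ¬ q ∣ Nat.card A) (σ : A →* MulAut Q) :
    ∃ x y : Q, ∀ a : A, σ a x = x → σ a y = y → σ a = 1 := by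
  classical
  have hcomm : commutator Q ≤ frattini Q := commutator_le_frattini hQ
  letI : CommGroup (Q ⧸ frattini Q) :=
    { (inferInstance : Group (Q ⧸ frattini Q)) with
      mul_comm := fun a b => by
        induction a using QuotientGroup.induction_on with
        | _ x =>
        induction b using QuotientGroup.induction_on with
        | _ y =>
        refine QuotientGroup.eq.2 (hcomm ?_)
        have e : (x * y)⁻¹ * (y * x) = ⁅y⁻¹, x⁻¹⁆ := by rw [commutatorElement_def]; group
        rw [e]
        exact Subgroup.commutator_mem_commutator (Subgroup.mem_top _) (Subgroup.mem_top _) }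
  have hchar : ∀ f : MulAut Q, frattini Q ≤ (frattini Q).comap f.toMonoidHom := fun f =>
    (Subgroup.Characteristic.fixed (H := frattini Q) inferInstance f).ge
  let bar : MulAut Q → (Q ⧸ frattini Q →* Q ⧸ frattini Q) := fun f =>
    QuotientGroup.map _ _ f.toMonoidHom (hchar f)
  let θ : A →* AddMonoid.End (Additive (Q ⧸ frattini Q)) :=
    { toFun := fun a => MonoidHom.toAdditive (bar (σ a))
      map_one' := by
        refine AddMonoidHom.ext fun z => Additive.toMul.injective ?_
        obtain ⟨x, hx⟩ := QuotientGroup.mk_surjective (Additive.toMul z)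
        show bar (σ 1) (Additive.toMul z) = Additive.toMul z
        rw [← hx, map_one]
        rfl
      map_mul' := fun a b => by
        refine AddMonoidHom.ext fun z => Additive.toMul.injective ?_
        obtain ⟨x, hx⟩ := QuotientGroup.mk_surjective (Additive.toMul z)
        show bar (σ (a * b)) (Additive.toMul z) = bar (σ a) (bar (σ b) (Additive.toMul z))
        rw [← hx, map_mul]
        rfl }
  obtain ⟨x, y, h⟩ := exists_pair_of_hom (p := q) hA
    (fun z => by
      refine Additive.toMul.injective ?_
      rw [toMul_nsmul, toMul_zero]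
      induction (Additive.toMul z) using QuotientGroup.induction_on with
      | _ w => exact (QuotientGroup.eq_one_iff _).2 (pow_mem_frattini hQ w)) θ.toHomUnits
  obtain ⟨x', hx'⟩ := QuotientGroup.mk_surjective (Additive.toMul x)
  obtain ⟨y', hy'⟩ := QuotientGroup.mk_surjective (Additive.toMul y)
  refine ⟨x', y', fun a h1 h2 => ?_⟩
  have htriv := h a
    (by
      refine Additive.toMul.injective ?_
      show bar (σ a) (Additive.toMul x) = Additive.toMul x
      rw [← hx']
      exact congrArg QuotientGroup.mk h1)
    (by
      refine Additive.toMul.injective ?_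
      show bar (σ a) (Additive.toMul y) = Additive.toMul y
      rw [← hy']
      exact congrArg QuotientGroup.mk h2)
  -- a coprime automorphism trivial modulo the Frattini subgroup is trivial
  have hmem : ∀ k : Q, σ a k * k⁻¹ ∈ frattini Q := fun k => by
    have h3 := congrArg Additive.toMul (DFunLike.congr_fun (congrArg Units.val htriv)
      (Additive.ofMul (QuotientGroup.mk k : Q ⧸ frattini Q)))
    change (QuotientGroup.mk (σ a k) : Q ⧸ frattini Q) = QuotientGroup.mk k at h3
    exact (inferInstance : (frattini Q).Normal).mem_comm (QuotientGroup.eq.1 h3.symm)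
  let ι : Q →* Q ⋊[σ] A := SemidirectProduct.inl
  have hι : Function.Injective ι := SemidirectProduct.inl_injective
  haveI : Finite (Q ⋊[σ] A) := Finite.of_equiv _ SemidirectProduct.equivProd.symm
  set Kg := ι.range
  set Ag := Subgroup.zpowers (SemidirectProduct.inr a : Q ⋊[σ] A)
  have hnorm : Ag ≤ Subgroup.normalizer (Kg : Set (Q ⋊[σ] A)) := by
    have : Kg.Normal := by
      rw [show Kg = SemidirectProduct.rightHom.ker from SemidirectProduct.range_inl_eq_ker_rightHom]
      infer_instance
    rw [Subgroup.normalizer_eq_top]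
    exact le_top
  let e : Q ≃* Kg := MonoidHom.ofInjective hι
  have hc := le_centralizer_of_trivial_on_frattini_quotient hnorm (by
      have hdA : Nat.card Ag ∣ Nat.card A := by
        rw [Nat.card_zpowers, orderOf_injective _ SemidirectProduct.inr_injective]
        exact orderOf_dvd_natCard a
      obtain ⟨k, hk⟩ := IsPGroup.iff_card.1 ((hQ.of_equiv e).to_subgroup (frattini Kg))
      rw [hk]
      exact Nat.Coprime.pow_right _ (Nat.coprime_comm.1
        ((Nat.Prime.coprime_iff_not_dvd hq.out).2 fun hd => hA (hd.trans hdA))))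
    (fun b hb k hk => by
      obtain ⟨k, rfl⟩ := hk
      obtain ⟨n, rfl⟩ := Subgroup.mem_zpowers_iff.1 hb
      refine ⟨e (σ (a ^ n) k * k⁻¹),
        frattini_le_comap_frattini_of_surjective (φ := e.toMonoidHom) e.surjective ?_, ?_⟩
      · have hstab : ∀ b ∈ Subgroup.zpowers a, ∀ k, σ b k * k⁻¹ ∈ frattini Q := by
          let S : Subgroup A :=
            { carrier := {b | ∀ k, σ b k * k⁻¹ ∈ frattini Q}
              one_mem' := fun k => by simp
              mul_mem' := fun {b c} hb hc k => by
                have := mul_mem (hb (σ c k)) (hc k)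
                rwa [mul_assoc, inv_mul_cancel_left, ← MulAut.mul_apply, ← map_mul] at this
              inv_mem' := fun {b} hb k => by
                have := inv_mem (hb (σ b⁻¹ k))
                rwa [← MulAut.mul_apply, ← map_mul, mul_inv_cancel, map_one, MulAut.one_apply,
                  mul_inv_rev, inv_inv] at this }
          exact fun b hb => (Subgroup.zpowers_le.2 (show a ∈ S from hmem) hb)
        exact hstab _ (Subgroup.mem_zpowers_iff.2 ⟨n, rfl⟩) k
      · show ι (σ (a ^ n) k * k⁻¹) = _
        rw [map_mul, map_inv, ← map_zpow]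
        refine congrArg (· * (ι k)⁻¹) ?_
        rw [← map_inv]
        exact SemidirectProduct.inl_aut (a ^ n) k)
  refine MulEquiv.ext fun k => hι ?_
  have h5 := Subgroup.mem_centralizer_iff.1 (hc (Subgroup.mem_zpowers _)) (ι k) ⟨k, rfl⟩
  show ι (σ a k) = ι k
  rw [show ι (σ a k) = _ from SemidirectProduct.inl_aut a k]
  rw [← h5, map_inv, mul_inv_cancel_right]

end PGroup

/-- Coprime solvable groups of automorphisms have a base of size two. -/
theorem exists_pair_coprime {A : Type v} {K : Type u} [Group A] [Finite A] [Group K] [Finite K]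
    [MulDistribMulAction A K] [FaithfulSMul A K] (hA : Group.IsSolvable A)
    (hcop : (Nat.card A).Coprime (Nat.card K)) :
    ∃ x y : K, ∀ a : A, a • x = x → a • y = y → a = 1 := by
  classical
  set σ : A →* MulAut K := MulDistribMulAction.toMulAut A K
  let ι : K →* K ⋊[σ] A := SemidirectProduct.inl
  have hι : Function.Injective ι := SemidirectProduct.inl_injective
  haveI : Finite (K ⋊[σ] A) := Finite.of_equiv _ SemidirectProduct.equivProd.symm
  set Kg := ι.range
  have hKn : Kg.Normal := by
    rw [show Kg = SemidirectProduct.rightHom.ker from SemidirectProduct.range_inl_eq_ker_rightHom]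
    infer_instance
  have hKcard : Nat.card Kg = Nat.card K := Nat.card_congr (MonoidHom.ofInjective hι).symm.toEquiv
  have hnorm : ∀ B : Subgroup (K ⋊[σ] A), B ≤ Subgroup.normalizer (Kg : Set (K ⋊[σ] A)) := fun B => by
    haveI := hKn
    rw [Subgroup.normalizer_eq_top]
    exact le_top
  let inrB : Subgroup A → Subgroup (K ⋊[σ] A) := fun B => B.map SemidirectProduct.inr
  have hBcop : ∀ B : Subgroup A, (Nat.card (inrB B)).Coprime (Nat.card Kg) := fun B => by
    rw [hKcard, Subgroup.card_map_of_injective SemidirectProduct.inr_injective]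
    exact hcop.coprime_dvd_left B.card_subgroup_dvd_card
  have hBsolv : ∀ B : Subgroup A, Group.IsSolvable (inrB B) ∨ Group.IsSolvable Kg := fun B => by
    haveI := hA
    haveI : Group.IsSolvable B := Group.isSolvable_of_isSolvable_injective B.subtype_injective
    exact Or.inl (Group.isSolvable_of_surjective
      (f := (B.equivMapOfInjective (SemidirectProduct.inr : A →* K ⋊[σ] A)
        SemidirectProduct.inr_injective).toMonoidHom)
      (B.equivMapOfInjective (SemidirectProduct.inr : A →* K ⋊[σ] A)
        SemidirectProduct.inr_injective).surjective)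
  -- invariant Sylow subgroups
  have hex : ∀ q : (Nat.card K).primeFactors, ∃ P : Subgroup K,
      Nat.card P = (q : ℕ) ^ (Nat.card K).factorization q ∧ (∀ a : A, ∀ x ∈ P, a • x ∈ P) ∧
      ∀ B : Subgroup A, Nat.card {x : P // ∀ b ∈ B, b • (x : K) = x} =
        (q : ℕ) ^ (Nat.card {x : K // ∀ b ∈ B, b • x = x}).factorization q := by
    intro q
    haveI : Fact (q : ℕ).Prime := ⟨Nat.prime_of_mem_primeFactors q.2⟩
    obtain ⟨Pg, hPs, hPn⟩ := exists_invariant_sylow (hnorm (inrB ⊤)) (hBcop ⊤) (hBsolv ⊤) (q : ℕ)
    have hPmap : (Pg.comap ι).map ι = Pg := Subgroup.map_comap_eq_self hPs.1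
    refine ⟨Pg.comap ι, ?_, ?_, ?_⟩
    · rw [← Subgroup.card_map_of_injective (K := Pg.comap ι) hι, hPmap, hPs.2, hKcard]
    · intro a x hx
      show ι (σ a x) ∈ Pg
      rw [show ι (σ a x) = _ from SemidirectProduct.inl_aut a x, map_inv]
      exact conj_mem_of_le_normalizer hPn ⟨a, trivial, rfl⟩ hx
    intro B
    let F : Subgroup K :=
      { carrier := {x | ∀ b ∈ B, b • x = x}
        one_mem' := fun b _ => smul_one b
        mul_mem' := fun {x y} hx hy b hb => by rw [smul_mul', hx b hb, hy b hb]
        inv_mem' := fun {x} hx b hb => by rw [smul_inv', hx b hb] }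
    have hFP : Nat.card {x : (Pg.comap ι : Subgroup K) // ∀ b ∈ B, b • (x : K) = x} =
        Nat.card (Pg.comap ι ⊓ F : Subgroup K) :=
      Nat.card_congr
        { toFun := fun x => ⟨x.1.1, x.1.2, x.2⟩
          invFun := fun x => ⟨⟨x.1, x.2.1⟩, x.2.2⟩
          left_inv := fun x => rfl
          right_inv := fun x => rfl }
    rw [hFP, show Nat.card {x : K // ∀ b ∈ B, b • x = x} = Nat.card F from rfl]
    have hPp : IsPGroup (q : ℕ) (Pg.comap ι ⊓ F : Subgroup K) :=
      ((hPs.isPGroup).comap_of_injective ι hι).to_le inf_le_left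
    obtain ⟨j, hj⟩ := IsPGroup.iff_card.1 hPp
    have hjle : j ≤ (Nat.card F).factorization q :=
      (Nat.prime_of_mem_primeFactors q.2).pow_dvd_iff_le_factorization Nat.card_pos.ne' |>.1
        (hj ▸ Subgroup.card_dvd_of_le inf_le_right)
    refine le_antisymm (hj ▸ Nat.pow_le_pow_right (Nat.prime_of_mem_primeFactors q.2).pos hjle) ?_
    -- a Sylow subgroup of the fixed group is conjugate into `P` by a fixed element
    set R : Sylow (q : ℕ) F := default
    set U := ((R : Subgroup F).map F.subtype).map ι with hU
    have hUcard : Nat.card U = (q : ℕ) ^ (Nat.card F).factorization q := by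
      rw [hU, Subgroup.card_map_of_injective hι, Subgroup.card_map_of_injective F.subtype_injective,
        R.card_eq_multiplicity]
    have hfixed : ∀ z ∈ U, z ∈ Subgroup.centralizer (inrB B : Set (K ⋊[σ] A)) := by
      rintro _ ⟨k, ⟨k, -, rfl⟩, rfl⟩
      refine Subgroup.mem_centralizer_iff.2 ?_
      rintro _ ⟨b, hb, rfl⟩
      have h1 : ι (σ b (k : K)) = SemidirectProduct.inr b * ι (k : K) * SemidirectProduct.inr b⁻¹ :=
        SemidirectProduct.inl_aut b (k : K)
      rw [show σ b (k : K) = k from k.2 b hb, map_inv, eq_mul_inv_iff_mul_eq] at h1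
      exact h1.symm
    have hUB : inrB B ≤ Subgroup.normalizer (U : Set (K ⋊[σ] A)) := by
      intro b hb
      refine Subgroup.mem_normalizer_iff.2 fun z => ?_
      constructor
      · intro hz
        rw [(Subgroup.mem_centralizer_iff.1 (hfixed z hz) b hb), mul_inv_cancel_right]
        exact hz
      · intro hz
        have h1 := Subgroup.mem_centralizer_iff.1 (hfixed _ hz) b hb
        have h2 : b * z = z * b := by
          have := congrArg (fun t => b⁻¹ * t * b) h1
          simp only [← mul_assoc, inv_mul_cancel, one_mul, inv_mul_cancel_right] at this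
          exact this
        rwa [h2, mul_inv_cancel_right] at hz
    obtain ⟨P', hP', hUP', hP'n⟩ := le_invariant_sylow (hnorm (inrB B)) (hBcop B) (hBsolv B)
      (U := U) (fun z hz => by obtain ⟨k, -, rfl⟩ := hz; exact ⟨k, rfl⟩)
      (IsPGroup.of_card hUcard) hUB
    obtain ⟨c, hc, hcP⟩ := invariant_sylow_conj (hnorm (inrB B)) (hBcop B) (hBsolv B) hP' hPs hP'n
      ((Subgroup.map_mono (le_top : B ≤ ⊤)).trans hPn)
    rw [← hUcard, ← card_conjBy c U, ← Subgroup.card_map_of_injective (K := Pg.comap ι ⊓ F) hι]
    refine Subgroup.card_le_of_le ?_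
    intro z hz
    have hzP : z ∈ Pg := hcP ▸ Subgroup.map_mono hUP' hz
    obtain ⟨u, hu, rfl⟩ := hz
    obtain ⟨hcK, hcc⟩ := hc
    obtain ⟨k, hk⟩ : (MulAut.conj c).toMonoidHom u ∈ Kg := hPs.1 hzP
    refine ⟨k, ⟨by show ι k ∈ Pg; rw [hk]; exact hzP, fun b hb => hι ?_⟩, hk⟩
    have h1 : ι (σ b k) = SemidirectProduct.inr b * ι k * SemidirectProduct.inr b⁻¹ :=
      SemidirectProduct.inl_aut b k
    show ι (σ b k) = ι k
    have h2 : (MulAut.conj c).toMonoidHom u ∈ Subgroup.centralizer (inrB B : Set (K ⋊[σ] A)) :=
      mul_mem (mul_mem hcc (hfixed u hu)) (inv_mem hcc)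
    rw [h1, hk, Subgroup.mem_centralizer_iff.1 h2 _ ⟨b, hb, rfl⟩, map_inv, mul_inv_cancel_right]
  choose P hPcard hPinv hPfix using hex
  letI act : ∀ q, MulDistribMulAction A (P q) := fun q =>
    { smul := fun a x => ⟨a • (x : K), hPinv q a x x.2⟩
      one_smul := fun x => Subtype.ext (one_smul A (x : K))
      mul_smul := fun a b x => Subtype.ext (mul_smul a b (x : K))
      smul_one := fun a => Subtype.ext (smul_one a)
      smul_mul := fun a x y => Subtype.ext (smul_mul' a (x : K) y) }
  have hcoe : ∀ q (a : A) (x : P q), ((a • x : P q) : K) = a • (x : K) := fun q a x => rfl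
  -- fixed points agree
  have hprod : ∀ B : Subgroup A,
      Nat.card {x : K // ∀ b ∈ B, b • x = x} =
        Nat.card {f : ∀ q, P q // ∀ b ∈ B, b • f = f} := by
    intro B
    have h1 : Nat.card {f : ∀ q, P q // ∀ b ∈ B, b • f = f} =
        ∏ q, Nat.card {x : P q // ∀ b ∈ B, b • (x : K) = x} := by
      rw [← Nat.card_pi]
      refine Nat.card_congr
        { toFun := fun f q => ⟨f.1 q, fun b hb => congrArg Subtype.val (congrFun (f.2 b hb) q)⟩
          invFun := fun g => ⟨fun q => (g q).1, fun b hb => funext fun q => Subtype.ext ((g q).2 b hb)⟩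
          left_inv := fun f => rfl
          right_inv := fun g => rfl }
    rw [h1, Finset.prod_congr rfl fun q _ => hPfix q B,
      Finset.prod_coe_sort (Nat.card K).primeFactors
        (fun q => q ^ (Nat.card {x : K // ∀ b ∈ B, b • x = x}).factorization q)]
    set m := Nat.card {x : K // ∀ b ∈ B, b • x = x} with hm
    have hmdvd : m ∣ Nat.card K := by
      let F : Subgroup K :=
        { carrier := {x | ∀ b ∈ B, b • x = x}
          one_mem' := fun b _ => smul_one b
          mul_mem' := fun {x y} hx hy b hb => by rw [smul_mul', hx b hb, hy b hb]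
          inv_mem' := fun {x} hx b hb => by rw [smul_inv', hx b hb] }
      exact F.card_subgroup_dvd_card
    have hm0 : m ≠ 0 := fun e => Nat.card_pos.ne' (Nat.eq_zero_of_zero_dvd (e ▸ hmdvd))
    conv_lhs => rw [← Nat.prod_factorization_pow_eq_self hm0]
    refine Finsupp.prod_of_support_subset _ ?_ _ fun _ _ => pow_zero _
    rw [Nat.support_factorization]
    exact Nat.primeFactors_mono hmdvd Nat.card_pos.ne'
  -- pairs on the pieces
  have hpair : ∀ q : (Nat.card K).primeFactors, ∃ x y : P q, ∀ a : A, a • x = x → a • y = y →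
      ∀ z : P q, a • z = z := by
    intro q
    haveI := hA
    have hqp := Nat.prime_of_mem_primeFactors q.2
    haveI : Fact (q : ℕ).Prime := ⟨hqp⟩
    obtain ⟨x, y, h⟩ := exists_pair_pGroup (IsPGroup.of_card (hPcard q))
      (fun hd => hqp.ne_one ((Nat.Coprime.eq_one_of_dvd (Nat.Coprime.coprime_dvd_left hd hcop))
        (Nat.dvd_of_mem_primeFactors q.2))) (MulDistribMulAction.toMulAut A (P q))
    exact ⟨x, y, fun a h1 h2 z => DFunLike.congr_fun (h a h1 h2) z⟩
  choose X Y hXY using hpair
  obtain ⟨⟨x, y⟩, hxy⟩ := exists_regular_of_card_eq (A := A) (X := K × K)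
    (Y := (∀ q, P q) × (∀ q, P q)) (fun B => by
      have e : ∀ (Z : Type u) [MulAction A Z],
          Nat.card {z : Z × Z // ∀ b ∈ B, b • z = z} =
            Nat.card {z : Z // ∀ b ∈ B, b • z = z} * Nat.card {z : Z // ∀ b ∈ B, b • z = z} := by
        intro Z _
        rw [← Nat.card_prod]
        exact Nat.card_congr
          { toFun := fun z => (⟨z.1.1, fun b hb => congrArg Prod.fst (z.2 b hb)⟩,
              ⟨z.1.2, fun b hb => congrArg Prod.snd (z.2 b hb)⟩)
            invFun := fun z => ⟨(z.1.1, z.2.1), fun b hb => Prod.ext (z.1.2 b hb) (z.2.2 b hb)⟩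
            left_inv := fun z => rfl
            right_inv := fun z => rfl }
      rw [e, e, hprod B])
    ⟨(X, Y), (Subgroup.eq_bot_iff_forall _).2 fun a ha => by
      have hX : a • X = X := congrArg Prod.fst ha
      have hY : a • Y = Y := congrArg Prod.snd ha
      have htriv : ∀ q (z : P q), a • z = z := fun q => hXY q a (congrFun hX q) (congrFun hY q)
      -- the fixed group of `a` is everything
      have hcard := hprod (Subgroup.zpowers a)
      have hall : ∀ f : (∀ q, P q), ∀ b ∈ Subgroup.zpowers a, b • f = f := fun f =>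
        fun b hb => (Subgroup.zpowers_le.2 (MulAction.mem_stabilizer_iff.2
          (funext fun q => htriv q (f q)) : a ∈ MulAction.stabilizer A f) hb : b ∈ _)
      rw [Nat.card_congr (Equiv.subtypeUnivEquiv hall), Nat.card_pi,
        Finset.prod_congr rfl fun q _ => hPcard q,
        Finset.prod_coe_sort (Nat.card K).primeFactors
          (fun q => q ^ (Nat.card K).factorization q)] at hcard
      have hK : ∏ q ∈ (Nat.card K).primeFactors, q ^ (Nat.card K).factorization q = Nat.card K := by
        rw [← Nat.support_factorization]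
        exact Nat.prod_factorization_pow_eq_self Nat.card_pos.ne'
      rw [hK] at hcard
      refine FaithfulSMul.eq_of_smul_eq_smul (α := K) fun k => ?_
      rw [one_smul]
      obtain ⟨⟨k', hk'⟩, hkk⟩ := ((Subtype.val_injective
        (p := fun x : K => ∀ b ∈ Subgroup.zpowers a, b • x = x)).bijective_of_nat_card_le
          hcard.ge).2 k
      rw [← hkk]
      exact hk' a (Subgroup.mem_zpowers a)⟩
  refine ⟨x, y, fun a h1 h2 => ?_⟩
  have : a ∈ MulAction.stabilizer A (x, y) := Prod.ext h1 h2
  rwa [hxy, Subgroup.mem_bot] at this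

end CfsgLib.Char.CoprimeBase
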