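import Cfsg.Agent.Lib.Char.CoprimeBase.RigidSmall

/-!
# The monomial model in index two and the invariant symmetric form

An element normalising the model carries the form to a multiple of a translate of it, so it moves the
labels of two fixed vectors by an affine map.
-/

set_option autoImplicit false
set_option linter.unusedSectionVars false
set_option linter.style.haveILetI false

namespace CfsgLib.Char.CoprimeBase

universe u

variable {K : Type u} [Field K] {n : ℕ}

/-- The sign of an element of `ZMod 2`. -/
def sgnK (K : Type u) [Field K] (z : ZMod 2) : K := if z = 0 then 1 else -1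

theorem sgnK_zero : sgnK K 0 = 1 := if_pos rfl

theorem sgnK_one : sgnK K 1 = -1 := if_neg one_ne_zero

theorem sgnK_add (a b : ZMod 2) : sgnK K (a + b) = sgnK K a * sgnK K b := by
  rcases zmod_two_cases a with rfl | rfl <;> rcases zmod_two_cases b with rfl | rfl <;>
    simp [sgnK_zero, sgnK_one, zmod_two_add_self]

theorem sgnK_mul_self (a : ZMod 2) : sgnK K a * sgnK K a = 1 := by
  rw [← sgnK_add, zmod_two_add_self, sgnK_zero]

theorem sgnK_ne_zero (a : ZMod 2) : sgnK K a ≠ 0 := fun h => by
  simpa [h] using sgnK_mul_self (K := K) a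

theorem sgnK_injective (h2 : (2 : K) ≠ 0) : Function.Injective (sgnK K) := fun a b h => by
  rcases zmod_two_cases a with rfl | rfl <;> rcases zmod_two_cases b with rfl | rfl <;>
    first | rfl | (exfalso; simp only [sgnK_zero, sgnK_one] at h; exact h2 (by
      first | linear_combination h | linear_combination -h))

/-- The translation part of an index. -/
def uOf (a : Bv (n + n)) : Bv n := fun i => a (Fin.castAdd n i)

/-- The character part of an index. -/
def sOf (a : Bv (n + n)) : Bv n := fun i => a (Fin.natAdd n i)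

/-- An index from its parts. -/
def mkIdx (u s : Bv n) : Bv (n + n) := Fin.append u s

theorem uOf_mk (u s : Bv n) : uOf (mkIdx u s) = u := funext fun i => Fin.append_left u s i

theorem sOf_mk (u s : Bv n) : sOf (mkIdx u s) = s := funext fun i => Fin.append_right u s i

theorem idx_ext {a b : Bv (n + n)} (hu : uOf a = uOf b) (hs : sOf a = sOf b) : a = b := by
  funext i
  induction i using Fin.addCases with
  | left i => exact congrFun hu i
  | right i => exact congrFun hs i

theorem uOf_add (a b : Bv (n + n)) : uOf (a + b) = uOf a + uOf b := rfl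

theorem sOf_add (a b : Bv (n + n)) : sOf (a + b) = sOf a + sOf b := rfl

/-- The dot product. -/
def dotZ (s v : Bv n) : ZMod 2 := ∑ i, s i * v i

theorem dotZ_add_left (s t v : Bv n) : dotZ (s + t) v = dotZ s v + dotZ t v := by
  simp only [dotZ, Pi.add_apply, add_mul, Finset.sum_add_distrib]

theorem dotZ_add_right (s v w : Bv n) : dotZ s (v + w) = dotZ s v + dotZ s w := by
  simp only [dotZ, Pi.add_apply, mul_add, Finset.sum_add_distrib]

theorem dotZ_comm (s v : Bv n) : dotZ s v = dotZ v s := by simp only [dotZ, mul_comm]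

theorem dotZ_single (s : Bv n) (i : Fin n) : dotZ s (Pi.single i 1) = s i := by
  simp [dotZ, Pi.single_apply]

theorem dotZ_zero (s : Bv n) : dotZ s 0 = 0 := by simp [dotZ]

theorem eq_zero_of_dotZ {s : Bv n} (h : ∀ v, dotZ s v = 0) : s = 0 :=
  funext fun i => by rw [← dotZ_single s i, h]; rfl

/-- The commutator pairing of indices. -/
def commZ (a b : Bv (n + n)) : ZMod 2 := dotZ (sOf a) (uOf b) + dotZ (sOf b) (uOf a)

theorem commZ_add_left (a b c : Bv (n + n)) : commZ (a + b) c = commZ a c + commZ b c := by
  simp only [commZ, uOf_add, sOf_add, dotZ_add_left, dotZ_add_right]; abel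

theorem commZ_comm (a b : Bv (n + n)) : commZ a b = commZ b a := add_comm _ _

theorem commZ_nondeg {a : Bv (n + n)} (h : ∀ b, commZ a b = 0) : a = 0 := by
  refine idx_ext ?_ ?_
  · refine eq_zero_of_dotZ fun v => ?_
    have h1 := h (mkIdx 0 v)
    rw [commZ, uOf_mk, sOf_mk, dotZ_zero, zero_add, dotZ_comm] at h1
    exact h1
  · refine eq_zero_of_dotZ fun v => ?_
    have h1 := h (mkIdx v 0)
    rw [commZ, uOf_mk, sOf_mk, dotZ_comm 0, dotZ_zero, add_zero] at h1
    exact h1

/-- Every homomorphism to `ZMod 2` is the pairing with an index. -/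
theorem exists_commZ (θ : Bv (n + n) → ZMod 2) (hθ : ∀ a b, θ (a + b) = θ a + θ b) :
    ∃ d, ∀ a, θ a = commZ d a := by
  classical
  let f : Bv (n + n) → (Bv (n + n) →+ ZMod 2) := fun d =>
    AddMonoidHom.mk' (commZ d) fun a b => by
      rw [commZ_comm, commZ_add_left, commZ_comm a, commZ_comm b]
  have hf : Function.Injective f := fun d e h => by
    refine (sub_eq_zero.1 (commZ_nondeg fun b => ?_))
    have h1 : commZ d b = commZ e b := DFunLike.congr_fun h b
    have h2 := commZ_add_left (d - e) e b
    rw [sub_add_cancel, h1] at h2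
    exact right_eq_add.1 h2
  let g : (Bv (n + n) →+ ZMod 2) → Bv (n + n) := fun φ i => φ (Pi.single i 1)
  have hg : Function.Injective g := fun φ ψ h => by
    refine AddMonoidHom.functions_ext _ φ ψ fun i z => ?_
    rcases zmod_two_cases z with rfl | rfl
    · simp
    · exact congrFun h i
  haveI : Finite (Bv (n + n) →+ ZMod 2) := Finite.of_injective g hg
  obtain ⟨d, hd⟩ := (hf.bijective_of_nat_card_le (Nat.card_le_card_of_injective g hg)).2
    (AddMonoidHom.mk' θ hθ)
  exact ⟨d, fun a => (DFunLike.congr_fun hd a).symm⟩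

/-- The space of the model. -/
abbrev ModelSpace (K : Type u) (n : ℕ) : Type u := Bv n → K

/-- The element of the model with given index. -/
def act (a : Bv (n + n)) (z : ModelSpace K n) : ModelSpace K n :=
  fun v => sgnK K (dotZ (sOf a) (v + uOf a)) * z (v + uOf a)

/-- The sign of the square. -/
def qSq (a : Bv (n + n)) : ZMod 2 := dotZ (sOf a) (uOf a)

theorem act_smul (a : Bv (n + n)) (c : K) (z : ModelSpace K n) : act a (c • z) = c • act a z :=
  funext fun v => by simp only [act, Pi.smul_apply, smul_eq_mul]; ring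

theorem act_add (a : Bv (n + n)) (z z' : ModelSpace K n) :
    act a (z + z') = act a z + act a z' :=
  funext fun v => by simp only [act, Pi.add_apply]; ring

theorem act_zero_idx (z : ModelSpace K n) : act 0 z = z :=
  funext fun v => by
    have h1 : uOf (0 : Bv (n + n)) = 0 := rfl
    have h2 : sOf (0 : Bv (n + n)) = 0 := rfl
    rw [act, h1, h2, add_zero, dotZ_comm, dotZ_zero, sgnK_zero, one_mul]

theorem act_act (a b : Bv (n + n)) (z : ModelSpace K n) :
    act a (act b z) = sgnK K (dotZ (sOf a) (uOf b)) • act (a + b) z := by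
  funext v
  simp only [act, Pi.smul_apply, smul_eq_mul, uOf_add, sOf_add, dotZ_add_left, dotZ_add_right,
    sgnK_add, add_assoc]
  linear_combination (sgnK K (dotZ (sOf a) v) * sgnK K (dotZ (sOf a) (uOf a)) *
    sgnK K (dotZ (sOf b) v) * sgnK K (dotZ (sOf b) (uOf a)) * sgnK K (dotZ (sOf b) (uOf b)) *
    z (v + (uOf a + uOf b))) * (-(sgnK_mul_self (K := K) (dotZ (sOf a) (uOf b))))

theorem act_comm (a b : Bv (n + n)) (z : ModelSpace K n) :
    act a (act b z) = sgnK K (commZ a b) • act b (act a z) := by
  rw [act_act, act_act, smul_smul, add_comm b a, commZ, sgnK_add, mul_assoc,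
    sgnK_mul_self, mul_one]

theorem act_sq (a : Bv (n + n)) (z : ModelSpace K n) : act a (act a z) = sgnK K (qSq a) • z := by
  rw [act_act, bv_add_self, act_zero_idx]; rfl

theorem act_injective (a : Bv (n + n)) : Function.Injective (act a : ModelSpace K n → _) :=
  fun z z' h => by
    have := congrArg (act a) h
    rw [act_sq, act_sq] at this
    exact smul_right_injective _ (sgnK_ne_zero (qSq a)) this

/-- Indices with proportional elements are equal. -/
theorem act_eq_smul (h2 : (2 : K) ≠ 0) {a b : Bv (n + n)} {c : K}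
    (h : ∀ z : ModelSpace K n, act a z = c • act b z) : a = b := by
  classical
  have hu : uOf a = uOf b := by
    by_contra hne
    have h1 := congrFun (h (Pi.single 0 1)) (uOf a)
    simp only [act, bv_add_self, Pi.smul_apply, smul_eq_mul, Pi.single_eq_same, mul_one] at h1
    rw [Pi.single_eq_of_ne (fun e => hne (by
      calc uOf a = uOf a + uOf b + uOf b := by rw [add_assoc, bv_add_self, add_zero]
        _ = uOf b := by rw [e, zero_add])), mul_zero, mul_zero] at h1
    exact sgnK_ne_zero _ h1
  refine idx_ext hu (funext fun i => ?_)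
  have h0 := congrFun (h (fun _ => 1)) (uOf a)
  have h1 := congrFun (h (fun _ => 1)) (uOf a + Pi.single i 1)
  simp only [act, hu, bv_add_self, dotZ_zero, sgnK_zero, Pi.smul_apply, smul_eq_mul, mul_one]
    at h0
  simp only [act, hu, Pi.smul_apply, smul_eq_mul, mul_one, ← h0, one_mul,
    show uOf b + Pi.single i 1 + uOf b = Pi.single i 1 by
      rw [add_comm (uOf b), add_assoc, bv_add_self, add_zero], dotZ_single] at h1
  exact sgnK_injective h2 h1

/-- An endomorphism commuting with the model is a scalar. -/
theorem model_schur (h2 : (2 : K) ≠ 0) (f : ModelSpace K n →ₗ[K] ModelSpace K n)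
    (hf : ∀ a z, f (act a z) = act a (f z)) : ∃ c : K, ∀ z, f z = c • z := by
  classical
  refine ⟨f (Pi.single 0 1) 0, ?_⟩
  have hdiag : ∀ v, v ≠ 0 → f (Pi.single 0 1) v = 0 := by
    intro v hv
    obtain ⟨i, hi⟩ : ∃ i, v i = 1 := by
      by_contra hall
      push Not at hall
      exact hv (funext fun i => (zmod_two_cases (v i)).resolve_right (hall i))
    have hfix : act (mkIdx 0 (Pi.single i 1)) (Pi.single 0 1 : ModelSpace K n) = Pi.single 0 1 := by
      funext w
      simp only [act, uOf_mk, sOf_mk, add_zero]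
      by_cases hw : w = 0
      · subst hw; rw [dotZ_zero, sgnK_zero, one_mul]
      · rw [Pi.single_eq_of_ne hw, mul_zero]
    have h1 := congrFun (hf (mkIdx 0 (Pi.single i 1)) (Pi.single 0 1)) v
    rw [hfix] at h1
    simp only [act, uOf_mk, sOf_mk, add_zero, dotZ_comm _ v, dotZ_single, hi, sgnK_one] at h1
    have h3 : (2 : K) * f (Pi.single 0 1) v = 0 := by linear_combination h1
    exact (mul_eq_zero.1 h3).resolve_left h2
  have hbase : f (Pi.single 0 1) = f (Pi.single 0 1) 0 • (Pi.single 0 1 : ModelSpace K n) := by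
    funext v
    by_cases hv : v = 0
    · subst hv; simp
    · rw [hdiag v hv]; simp [hv]
  have hsingle : ∀ w, f (Pi.single w 1) = f (Pi.single 0 1) 0 • (Pi.single w 1 : ModelSpace K n) := by
    intro w
    have e : act (mkIdx w 0) (Pi.single 0 1 : ModelSpace K n) = Pi.single w 1 := by
      funext v
      simp only [act, uOf_mk, sOf_mk, dotZ_comm 0, dotZ_zero, sgnK_zero, one_mul]
      by_cases hv : v = w
      · subst hv; rw [bv_add_self]; simp
      · rw [Pi.single_eq_of_ne hv, Pi.single_eq_of_ne]
        intro e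
        exact hv (by
          calc v = v + w + w := by rw [add_assoc, bv_add_self, add_zero]
            _ = w := by rw [e, zero_add])
    have h1 := hf (mkIdx w 0) (Pi.single 0 1)
    rw [e, hbase, act_smul, e] at h1
    exact h1
  generalize f (Pi.single 0 1) 0 = c at hsingle ⊢
  intro z
  have hz : z = ∑ w, z w • (Pi.single w 1 : ModelSpace K n) := by
    funext v
    simp [Finset.sum_apply, Pi.single_apply]
  conv_lhs => rw [hz]
  conv_rhs => rw [hz]
  simp only [map_sum, map_smul, hsingle, Finset.smul_sum]
  exact Finset.sum_congr rfl fun w _ => smul_comm _ _ _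

/-- An element normalising the model, with the induced map and multipliers. -/
structure Normalises (g : ModelSpace K n ≃ₗ[K] ModelSpace K n) (π : Bv (n + n) → Bv (n + n))
    (χ : Bv (n + n) → K) : Prop where
  conj : ∀ a z, g (act a z) = χ a • act (π a) (g z)

variable {g : ModelSpace K n ≃ₗ[K] ModelSpace K n} {π : Bv (n + n) → Bv (n + n)}
  {χ : Bv (n + n) → K}

theorem Normalises.χ_ne (h : Normalises g π χ) (a : Bv (n + n)) : χ a ≠ 0 := fun e => by
  classical
  have h1 := h.conj a (Pi.single 0 1)
  rw [e, zero_smul, LinearEquiv.map_eq_zero_iff] at h1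
  have h2 := congrFun h1 (uOf a)
  simp [act, bv_add_self, sgnK_ne_zero] at h2

theorem Normalises.mul_eq (h : Normalises g π χ) (a b : Bv (n + n)) (z : ModelSpace K n) :
    (χ a * χ b * sgnK K (dotZ (sOf (π a)) (uOf (π b)))) • act (π a + π b) z =
      (sgnK K (dotZ (sOf a) (uOf b)) * χ (a + b)) • act (π (a + b)) z := by
  obtain ⟨z, rfl⟩ := g.surjective z
  have h1 : g (act a (act b z)) = (χ a * χ b * sgnK K (dotZ (sOf (π a)) (uOf (π b)))) •
      act (π a + π b) (g z) := by
    rw [h.conj, h.conj, act_smul, act_act, smul_smul, smul_smul]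
  rw [← h1, act_act, LinearEquiv.map_smul, h.conj, smul_smul]

theorem Normalises.π_add (h : Normalises g π χ) (h2 : (2 : K) ≠ 0) (a b : Bv (n + n)) :
    π (a + b) = π a + π b := by
  have hc : sgnK K (dotZ (sOf a) (uOf b)) * χ (a + b) ≠ 0 :=
    mul_ne_zero (sgnK_ne_zero _) (h.χ_ne _)
  refine act_eq_smul h2 (c := (sgnK K (dotZ (sOf a) (uOf b)) * χ (a + b))⁻¹ *
    (χ a * χ b * sgnK K (dotZ (sOf (π a)) (uOf (π b))))) fun z => ?_
  rw [mul_smul, h.mul_eq, inv_smul_smul₀ hc]

theorem Normalises.χ_mul (h : Normalises g π χ) (h2 : (2 : K) ≠ 0) (a b : Bv (n + n)) :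
    χ a * χ b * sgnK K (dotZ (sOf (π a)) (uOf (π b))) =
      sgnK K (dotZ (sOf a) (uOf b)) * χ (a + b) := by
  classical
  have h1 := congrFun (h.mul_eq a b (fun _ => 1)) (uOf (π a + π b))
  rw [h.π_add h2] at h1
  simpa [act, bv_add_self, dotZ_zero, sgnK_zero] using h1

theorem Normalises.injective (h : Normalises g π χ) (h2 : (2 : K) ≠ 0) :
    Function.Injective π := by
  intro a b e
  refine act_eq_smul h2 (c := χ a * (χ b)⁻¹) fun z => g.injective ?_
  rw [LinearEquiv.map_smul, h.conj, h.conj, smul_smul, mul_assoc, inv_mul_cancel₀ (h.χ_ne b),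
    mul_one, e]

theorem Normalises.π_zero (h : Normalises g π χ) (h2 : (2 : K) ≠ 0) : π 0 = 0 := by
  have := h.π_add h2 0 0
  rw [add_zero] at this
  exact left_eq_add.1 this

theorem Normalises.χ_sq (h : Normalises g π χ) (h2 : (2 : K) ≠ 0) (a : Bv (n + n)) :
    χ a ^ 2 = sgnK K (qSq a + qSq (π a)) := by
  have h0 : χ 0 = 1 := by
    have := h.χ_mul h2 0 0
    rw [h.π_zero h2, add_zero, show dotZ (sOf (0 : Bv (n + n))) (uOf (0 : Bv (n + n))) = 0 from
      dotZ_zero _, sgnK_zero, one_mul, mul_one] at this
    exact (mul_eq_left₀ (h.χ_ne 0)).1 this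
  have h1 := h.χ_mul h2 a a
  rw [bv_add_self, h0, mul_one] at h1
  rw [sgnK_add]
  show χ a ^ 2 = sgnK K (qSq a) * sgnK K (qSq (π a))
  calc χ a ^ 2 = χ a * χ a * sgnK K (qSq (π a)) * sgnK K (qSq (π a)) := by
        rw [mul_assoc (χ a * χ a), sgnK_mul_self, mul_one, pow_two]
    _ = _ := by rw [show χ a * χ a * sgnK K (qSq (π a)) = sgnK K (qSq a) from h1]

/-- The symmetric form. -/
def bform (z z' : ModelSpace K n) : K := ∑ v, z v * z' v

theorem bform_smul_left (c : K) (z z' : ModelSpace K n) : bform (c • z) z' = c * bform z z' := by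
  simp [bform, Finset.mul_sum, mul_assoc]

theorem bform_smul_right (c : K) (z z' : ModelSpace K n) : bform z (c • z') = c * bform z z' := by
  simp [bform, Finset.mul_sum, mul_left_comm]

theorem bform_comm (z z' : ModelSpace K n) : bform z z' = bform z' z := by
  simp only [bform, mul_comm]

theorem bform_act (a : Bv (n + n)) (z z' : ModelSpace K n) :
    bform (act a z) (act a z') = bform z z' := by
  rw [bform, bform, ← Equiv.sum_comp (Equiv.addRight (uOf a)) (fun v => z v * z' v)]
  refine Finset.sum_congr rfl fun v _ => ?_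
  simp only [act, Equiv.coe_addRight]
  linear_combination (z (v + uOf a) * z' (v + uOf a)) *
    sgnK_mul_self (K := K) (dotZ (sOf a) (v + uOf a))

theorem bform_act_left (a : Bv (n + n)) (z z' : ModelSpace K n) :
    bform (act a z) z' = sgnK K (qSq a) * bform z (act a z') := by
  conv_rhs => rw [← bform_act a z (act a z'), act_sq, bform_smul_right, ← mul_assoc, sgnK_mul_self,
    one_mul]

theorem bform_ext {z z' : ModelSpace K n} (h : ∀ y, bform z y = bform z' y) : z = z' := by
  classical
  funext v
  simpa [bform, Pi.single_apply] using h (Pi.single v 1)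

/-- A normalising element carries the form to a multiple of a translate. -/
theorem Normalises.exists_shift (h : Normalises g π χ) (h2 : (2 : K) ≠ 0) :
    ∃ (d : Bv (n + n)) (c : K), c ≠ 0 ∧
      (∀ z z', bform (g z) (g z') = c * bform (act d z) z') ∧ ∀ a, χ a ^ 2 = sgnK K (commZ d a) := by
  classical
  have hθ : ∀ a b, qSq (a + b) + qSq (π (a + b)) =
      (qSq a + qSq (π a)) + (qSq b + qSq (π b)) := by
    intro a b
    refine sgnK_injective h2 ?_
    rw [← h.χ_sq h2, sgnK_add (K := K) (qSq a + qSq (π a)), ← h.χ_sq h2, ← h.χ_sq h2]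
    have h1 := congrArg (· ^ 2) (h.χ_mul h2 a b)
    simp only [mul_pow, pow_two (sgnK K _), sgnK_mul_self, mul_one, one_mul] at h1
    exact h1.symm
  obtain ⟨d, hd⟩ := exists_commZ (fun a => qSq a + qSq (π a)) hθ
  have hχ : ∀ a, χ a ^ 2 = sgnK K (commZ d a) := fun a => by rw [h.χ_sq h2, hd]
  let F : ModelSpace K n →ₗ[K] ModelSpace K n :=
    { toFun := fun z v => bform (g z) (g (Pi.single v 1))
      map_add' := fun a b => funext fun v => by
        simp [bform, map_add, add_mul, Finset.sum_add_distrib]
      map_smul' := fun c a => funext fun v => by simp [bform_smul_left] }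
  have hF : ∀ z z', bform (g z) (g z') = bform (F z) z' := by
    intro z z'
    have hz : z' = ∑ w, z' w • (Pi.single w 1 : ModelSpace K n) := by
      funext v
      simp [Finset.sum_apply, Pi.single_apply]
    conv_lhs => rw [hz, map_sum]
    simp only [bform, Finset.sum_apply, LinearEquiv.map_smul, Pi.smul_apply, smul_eq_mul,
      Finset.mul_sum]
    rw [Finset.sum_comm]
    refine Finset.sum_congr rfl fun w _ => ?_
    show _ = (∑ v, g z v * g (Pi.single w 1) v) * z' w
    rw [Finset.sum_mul]
    exact Finset.sum_congr rfl fun v _ => by ring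
  have hcomm : ∀ a z, F (act a z) = sgnK K (commZ d a) • act a (F z) := by
    intro a z
    refine bform_ext fun y => ?_
    obtain ⟨y, rfl⟩ : ∃ y', act a y' = y := ⟨sgnK K (qSq a) • act a y, by
      rw [act_smul, act_sq, smul_smul, sgnK_mul_self, one_smul]⟩
    rw [← hF, h.conj, h.conj, bform_smul_left, bform_smul_right, bform_act, bform_smul_left,
      bform_act, ← hF, ← mul_assoc, ← pow_two, hχ]
  let A : ModelSpace K n →ₗ[K] ModelSpace K n :=
    { toFun := act d, map_add' := act_add d, map_smul' := act_smul d }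
  obtain ⟨c, hc⟩ := model_schur h2 (F.comp A) fun a z => by
    show F (act d (act a z)) = act a (F (act d z))
    rw [act_comm, map_smul, hcomm, smul_smul, sgnK_mul_self, one_smul]
  refine ⟨d, c * sgnK K (qSq d), ?_, fun z z' => ?_, hχ⟩
  · refine mul_ne_zero (fun e => ?_) (sgnK_ne_zero _)
    have h1 : ∀ z, F (act d z) = 0 := fun z => (hc z).trans (by rw [e, zero_smul])
    have h4 : ∀ z, bform (g z) (Pi.single 0 1) = 0 := fun z => by
      have h5 := hF z (g.symm (Pi.single 0 1))
      rw [LinearEquiv.apply_symm_apply] at h5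
      rw [h5, show z = act d (sgnK K (qSq d) • act d z) by
        rw [act_smul, act_sq, smul_smul, sgnK_mul_self, one_smul], h1]
      simp [bform]
    have h5 := h4 (g.symm (Pi.single 0 1))
    rw [LinearEquiv.apply_symm_apply] at h5
    simp [bform, Pi.single_apply] at h5
  · rw [hF, mul_assoc, ← bform_smul_left (sgnK K (qSq d)), ← bform_smul_left c,
      show F z = c • (sgnK K (qSq d) • act d z) from ?_]
    rw [← hc, show (F.comp A) (sgnK K (qSq d) • act d z) =
      F (act d (sgnK K (qSq d) • act d z)) from rfl, act_smul, act_sq, smul_smul, sgnK_mul_self,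
      one_smul]

/-- The quadruple of an index. -/
def quad (x y : ModelSpace K n) (a : Bv (n + n)) : Fin 4 → K :=
  ![bform x (act a x), bform x (act a y), bform y (act a x), bform y (act a y)]

/-- Fixing two vectors, the quadruples move by an affine map, up to scalars. -/
theorem Normalises.quad_shift (h : Normalises g π χ) (h2 : (2 : K) ≠ 0) {x y : ModelSpace K n}
    (hx : g x = x) (hy : g y = y) :
    ∃ (u : Bv (n + n)), (∀ a, ∃ c : K, c ≠ 0 ∧ quad x y (π a + u) = c • quad x y a) ∧
      ((∀ a, χ a ^ 2 = 1) → u = 0) := by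
  classical
  obtain ⟨d, c, hc, hB, hχ⟩ := h.exists_shift h2
  refine ⟨π d, fun a => ?_, fun h1 => ?_⟩
  · refine ⟨(χ (a + d))⁻¹ * (c * sgnK K (qSq d) * sgnK K (dotZ (sOf d) (uOf (a + d)))),
      mul_ne_zero (inv_ne_zero (h.χ_ne _)) (mul_ne_zero (mul_ne_zero hc (sgnK_ne_zero _))
        (sgnK_ne_zero _)), ?_⟩
    have hkey : ∀ z z', g z = z → g z' = z' → bform z (act (π a + π d) z') =
        (χ (a + d))⁻¹ * (c * sgnK K (qSq d) * sgnK K (dotZ (sOf d) (uOf (a + d)))) *
          bform z (act a z') := by
      intro z z' hz hz'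
      have h1 := hB z (act (a + d) z')
      rw [h.conj, hz, hz', bform_smul_right, bform_act_left, act_act, bform_smul_right,
        show d + (a + d) = a by rw [add_left_comm, bv_add_self, add_zero]] at h1
      rw [← h.π_add h2]
      rw [mul_assoc, mul_assoc, mul_assoc, eq_comm, inv_mul_eq_iff_eq_mul₀ (h.χ_ne _), h1]
    funext i
    fin_cases i
    · exact hkey x x hx hx
    · exact hkey x y hx hy
    · exact hkey y x hy hx
    · exact hkey y y hy hy
  · have hd : d = 0 := commZ_nondeg fun b => sgnK_injective h2 (by rw [← hχ, h1, sgnK_zero])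
    rw [hd, h.π_zero h2]

/-- An element inducing the identity on indices is a multiple of an element of the model. -/
theorem Normalises.eq_act (h : Normalises g π χ) (h2 : (2 : K) ≠ 0) (hid : ∀ a, π a = a) :
    ∃ (d : Bv (n + n)) (c : K), ∀ z, g z = c • act d z := by
  classical
  have h1 : ∀ a, χ a ^ 2 = 1 := fun a => by rw [h.χ_sq h2, hid, zmod_two_add_self, sgnK_zero]
  let θ : Bv (n + n) → ZMod 2 := fun a => if χ a = 1 then 0 else 1
  have hsg : ∀ a, sgnK K (θ a) = χ a := fun a => by
    by_cases e : χ a = 1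
    · simp [θ, e, sgnK_zero]
    · have e' := (sq_eq_one_iff.1 (h1 a)).resolve_left e
      simp only [θ, if_neg e, sgnK_one, e']
  obtain ⟨d, hd⟩ := exists_commZ θ fun a b => sgnK_injective h2 (by
    rw [sgnK_add, hsg, hsg, hsg]
    have h3 := h.χ_mul h2 a b
    rw [hid, hid, mul_comm] at h3
    exact (mul_left_cancel₀ (sgnK_ne_zero _) h3).symm)
  let A : ModelSpace K n →ₗ[K] ModelSpace K n :=
    { toFun := act d, map_add' := act_add d, map_smul' := act_smul d }
  obtain ⟨c, hc⟩ := model_schur h2 ((g : ModelSpace K n →ₗ[K] ModelSpace K n).comp A) fun a z => by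
    show g (act d (act a z)) = act a (g (act d z))
    rw [act_comm, LinearEquiv.map_smul, h.conj, hid, ← hsg, hd, smul_smul, sgnK_mul_self, one_smul]
  refine ⟨d, c * sgnK K (qSq d), fun z => ?_⟩
  have h3 := hc (sgnK K (qSq d) • act d z)
  change g (act d (sgnK K (qSq d) • act d z)) = _ at h3
  rw [act_smul, act_sq, smul_smul, sgnK_mul_self, one_smul] at h3
  rw [h3, smul_smul]

end CfsgLib.Char.CoprimeBase
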