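import Cfsg.Agent.Lib.Char.CoprimeBase.Coprime
import Cfsg.Agent.Lib.Coprime.Core
import Cfsg.Agent.Lib.Coprime.Hall
import Cfsg.Agent.Lib.PGroup.Basic

/-!
# Three conjugates of a Hall subgroup of a π-solvable group meet in the π-core
-/

set_option autoImplicit false
set_option linter.unusedSectionVars false

namespace CfsgLib.Char.CoprimeBase

open CfsgLib.Coprime Subgroup
open scoped Pointwise

universe u

variable {G : Type u} [Group G] [Finite G]

/-- A π-solvable series. -/
def PiSeries (π : Set ℕ) (G : Type u) [Group G] : Prop :=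
  ∃ (n : ℕ) (N : Fin (n + 1) → Subgroup G), N 0 = ⊥ ∧ N (Fin.last n) = ⊤ ∧ Monotone N ∧
    (∀ i, (N i).Normal) ∧
    ∀ i : Fin n, (∃ p ∈ π, p.Prime ∧ ∃ k : ℕ, (N i.castSucc).relIndex (N i.succ) = p ^ k) ∨
      (∀ q : ℕ, q.Prime → q ∣ (N i.castSucc).relIndex (N i.succ) → q ∉ π)

theorem relIndex_dvd_right (H : Subgroup G) [H.Normal] {L M : Subgroup G} (h : L ≤ M) :
    H.relIndex L ∣ H.relIndex M := by
  rw [← relIndex_subgroupOf h]
  exact relIndex_dvd_index_of_normal _ _

/-- Hall–Higman 1.2.3 for π-solvable groups. -/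
theorem centralizer_piCore_compl_le {π : Set ℕ} (hs : PiSeries π G) (hO : Cfsg.piCore π G = ⊥) :
    centralizer (Cfsg.piCore πᶜ G : Set G) ≤ Cfsg.piCore πᶜ G := by
  obtain ⟨n, N, h0, hn, hmono, hN, hstep⟩ := hs
  set K := Cfsg.piCore πᶜ G
  set C := centralizer (K : Set G)
  haveI hKn : K.Normal := Cfsg.piCore_normal _ _
  haveI hCn : C.Normal := inferInstance
  suffices ∀ i : Fin (n + 1), C ⊓ N i ≤ K by simpa [hn] using this (Fin.last n)
  intro i
  induction i using Fin.induction with
  | zero => simp [h0]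
  | succ i ih =>
    haveI := hN i.succ
    haveI := hN i.castSucc
    set D := C ⊓ N i.succ
    haveI hDn : D.Normal := inferInstance
    have hidx : (K.subgroupOf D).index ∣ (N i.castSucc).relIndex (N i.succ) := by
      show K.relIndex D ∣ _
      refine dvd_trans (?_ : K.relIndex D ∣ (N i.castSucc).relIndex D) ?_
      · rw [← inf_relIndex_right (N i.castSucc) D]
        refine relIndex_dvd_of_le_left D (?_ : N i.castSucc ⊓ D ≤ K)
        exact (le_inf (inf_le_right.trans inf_le_left) inf_le_left).trans ih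
      · haveI := hN i.castSucc
        exact relIndex_dvd_right _ (inf_le_right : D ≤ N i.succ)
    have hDcard : Nat.card D = Nat.card (K.subgroupOf D) * (K.subgroupOf D).index :=
      (card_mul_index _).symm
    have hKD : IsPiNum πᶜ (Nat.card (K.subgroupOf D)) := by
      rw [← Subgroup.card_map_of_injective D.subtype_injective, Subgroup.subgroupOf_map_subtype]
      exact (piCore_isPiNum πᶜ).of_dvd (card_dvd_of_le inf_le_left)
    rcases hstep i with ⟨p, hpπ, hp, k, hk⟩ | hπ'
    · haveI := Fact.mk hp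
      have hcen : K.subgroupOf D ≤ center D := fun x hx => mem_center_iff.2 fun y =>
        Subtype.ext (mem_centralizer_iff.1 y.2.1 x hx).symm
      haveI : (K.subgroupOf D).Normal := inferInstance
      obtain ⟨j, -, hj⟩ := (Nat.dvd_prime_pow hp).1 (hk ▸ hidx)
      have hq : IsPGroup p (D ⧸ K.subgroupOf D) := IsPGroup.of_card (n := j) hj
      haveI : Group.IsNilpotent (D ⧸ K.subgroupOf D) := hq.isNilpotent
      haveI : Group.IsNilpotent D :=
        Subgroup.isNilpotent_of_ker_le_center (QuotientGroup.mk' (K.subgroupOf D))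
          ((QuotientGroup.ker_mk' _).le.trans hcen)
      obtain ⟨P⟩ := (inferInstance : Nonempty (Sylow p D))
      have hPn : (P : Subgroup D).Normal := inferInstance
      haveI := P.characteristic_of_normal hPn
      haveI : ((P : Subgroup D).map D.subtype).Normal := ConjAct.normal_of_characteristic_of_normal
      have hP : (P : Subgroup D) = ⊥ := by
        refine (Subgroup.map_eq_bot_iff_of_injective _ D.subtype_injective).1 (le_bot_iff.1 ?_)
        refine (le_piCore ?_).trans hO.le
        intro q hq' hd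
        obtain ⟨m, hm⟩ := IsPGroup.iff_card.1 (P.2.map D.subtype)
        rw [hm] at hd
        rwa [(Nat.prime_dvd_prime_iff_eq hq' hp).1 (hq'.dvd_of_dvd_pow hd)]
      have hpD : ¬ p ∣ Nat.card D := fun hd => P.ne_bot_of_dvd_card hd hP
      refine le_piCore ?_
      intro q hq' hd
      rcases (Nat.Prime.dvd_mul hq').1 (hDcard ▸ hd) with h | h
      · exact hKD q hq' h
      · intro hqπ
        have := (Nat.prime_dvd_prime_iff_eq hq' hp).1 (hq'.dvd_of_dvd_pow (hk ▸ h.trans hidx))
        exact hpD (this ▸ hd)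
    · refine le_piCore ?_
      intro q hq' hd
      rcases (Nat.Prime.dvd_mul hq').1 (hDcard ▸ hd) with h | h
      · exact hKD q hq' h
      · exact hπ' q hq' (h.trans hidx)

/-- The π-subgroups of a π-solvable group are solvable. -/
theorem isSolvable_of_piSeries {π : Set ℕ} (hs : PiSeries π G) {H : Subgroup G}
    (hH : IsPiNum π (Nat.card H)) : Group.IsSolvable H := by
  obtain ⟨n, N, h0, hn, hmono, hN, hstep⟩ := hs
  suffices ∀ i : Fin (n + 1), Group.IsSolvable ((N i).subgroupOf H) by
    haveI := this (Fin.last n)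
    exact isSolvable_congr ((MulEquiv.subgroupCongr (by rw [hn, top_subgroupOf])).trans topEquiv) this
  intro i
  induction i using Fin.induction with
  | zero =>
    rw [h0, bot_subgroupOf]
    infer_instance
  | succ i ih =>
    haveI := hN i.succ
    haveI := hN i.castSucc
    set A := (N i.castSucc).subgroupOf H
    set B := (N i.succ).subgroupOf H
    haveI : (A.subgroupOf B).Normal := inferInstance
    haveI : Group.IsSolvable (A.subgroupOf B) :=
      isSolvable_congr (subgroupOfEquivOfLe (comap_mono (hmono (Fin.castSucc_le_succ i)))).symm ih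
    have hidx : (A.subgroupOf B).index ∣ (N i.castSucc).relIndex (N i.succ) := by
      show A.relIndex B ∣ _
      rw [show A.relIndex B = (N i.castSucc).relIndex (N i.succ ⊓ H) by
        rw [← relIndex_subgroupOf (inf_le_right : N i.succ ⊓ H ≤ H), inf_subgroupOf_right]]
      exact relIndex_dvd_right _ inf_le_left
    have hidx2 : (A.subgroupOf B).index ∣ Nat.card H :=
      (index_dvd_card _).trans (card_subgroup_dvd_card B)
    haveI : Group.IsSolvable (B ⧸ A.subgroupOf B) := by
      rcases hstep i with ⟨p, -, hp, k, hk⟩ | hπ'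
      · haveI := Fact.mk hp
        obtain ⟨j, -, hj⟩ := (Nat.dvd_prime_pow hp).1 (hk ▸ hidx)
        haveI : Group.IsNilpotent (B ⧸ A.subgroupOf B) := (IsPGroup.of_card (n := j) hj).isNilpotent
        infer_instance
      · have : (A.subgroupOf B).index = 1 := Nat.eq_one_iff_not_exists_prime_dvd.2 fun q hq hd =>
          hπ' q hq (hd.trans hidx) (hH q hq (hd.trans hidx2))
        haveI : Subsingleton (B ⧸ A.subgroupOf B) := (Nat.card_eq_one_iff_unique.1 this).1
        infer_instance
    exact (Group.isSolvable_iff_subgroup_quotient (A.subgroupOf B)).2 ⟨inferInstance, inferInstance⟩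

theorem conj_smul_eq_map (g : G) (H : Subgroup G) :
    MulAut.conj g • H = H.map (MulAut.conj g).toMonoidHom := rfl

/-- The intersection of three conjugates in the case of trivial π-core. -/
theorem exists_triple_of_piCore_eq_bot {π : Set ℕ} (hs : PiSeries π G) {H : Subgroup G}
    (hH : IsPiNum π (Nat.card H)) (hO : Cfsg.piCore π G = ⊥) :
    ∃ x y : G, H ⊓ MulAut.conj x • H ⊓ MulAut.conj y • H = ⊥ := by
  set K := Cfsg.piCore πᶜ G
  have hcop : (Nat.card H).Coprime (Nat.card K) := isPiNum_coprime hH (piCore_isPiNum πᶜ)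
  haveI hKn : K.Normal := Cfsg.piCore_normal _ _
  have hHK : H ⊓ K = ⊥ := Subgroup.eq_bot_of_card_eq _ (Nat.eq_one_of_dvd_coprimes hcop
    (card_dvd_of_le inf_le_left) (card_dvd_of_le inf_le_right))
  letI : MulDistribMulAction H K :=
    MulDistribMulAction.compHom K ((MulAut.conjNormal (H := K)).comp H.subtype)
  have hval : ∀ (h : H) (k : K), ((h • k : K) : G) = h * k * (h : G)⁻¹ := fun h k => rfl
  haveI : FaithfulSMul H K := ⟨fun {a b} hab => by
    have hc : (b : G)⁻¹ * a ∈ centralizer (K : Set G) := mem_centralizer_iff.2 fun k hk => by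
      have h1 := congrArg Subtype.val (hab ⟨k, hk⟩)
      rw [hval, hval] at h1
      have h2 : (b : G)⁻¹ * a * k * ((b : G)⁻¹ * a)⁻¹ = k := by
        calc (b : G)⁻¹ * a * k * ((b : G)⁻¹ * a)⁻¹ = (b : G)⁻¹ * (a * k * (a : G)⁻¹) * b := by group
          _ = k := by rw [h1]; group
      exact (mul_inv_eq_iff_eq_mul.1 h2).symm
    have : (b : G)⁻¹ * a ∈ H ⊓ K :=
      ⟨H.mul_mem (H.inv_mem b.2) a.2, centralizer_piCore_compl_le hs hO hc⟩
    rw [hHK, mem_bot, inv_mul_eq_one] at this
    exact Subtype.ext this.symm⟩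
  obtain ⟨x, y, h⟩ := exists_pair_coprime (isSolvable_of_piSeries hs hH) hcop
  refine ⟨x, y, (eq_bot_iff_forall _).2 ?_⟩
  rintro a ⟨⟨ha, hax⟩, hay⟩
  have key : ∀ k : K, a ∈ MulAut.conj (k : G) • H → (⟨a, ha⟩ : H) • k = k := by
    intro k hk
    rw [conj_smul_eq_map] at hk
    obtain ⟨c, hc, hca⟩ := hk
    change (k : G) * c * (k : G)⁻¹ = a at hca
    refine Subtype.ext ?_
    rw [hval]
    have h1 : a⁻¹ * c ∈ H ⊓ K := by
      refine ⟨H.mul_mem (H.inv_mem ha) hc, ?_⟩
      rw [← hca, show ((k : G) * c * (k : G)⁻¹)⁻¹ * c = (k : G) * (c⁻¹ * (k : G)⁻¹ * c⁻¹⁻¹) by group]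
      exact K.mul_mem k.2 (hKn.conj_mem _ (K.inv_mem k.2) _)
    rw [hHK, mem_bot, inv_mul_eq_one] at h1
    show a * k * a⁻¹ = k
    conv_lhs => arg 1; arg 1; rw [← hca]
    rw [← h1]; group
  exact congrArg Subtype.val (h ⟨a, ha⟩ (key x hax) (key y hay))

/-- Three conjugates of a Hall π-subgroup meet in the π-core. -/
theorem exists_hall_triple {π : Set ℕ} (hs : PiSeries π G) {H : Subgroup G}
    (hH : Cfsg.IsPiHall π H) :
    ∃ x y : G, H ⊓ MulAut.conj x • H ⊓ MulAut.conj y • H = Cfsg.piCore π G := by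
  set O := Cfsg.piCore π G
  haveI hOn : O.Normal := Cfsg.piCore_normal _ _
  have hOH : O ≤ H := by
    rw [← relIndex_eq_one]
    refine Nat.eq_one_iff_not_exists_prime_dvd.2 fun q hq hd => hH.2 q hq ?_ ?_
    · have h1 : IsPiNum π (Nat.card O) := piCore_isPiNum π
      exact h1 q hq (hd.trans (relIndex_dvd_card _ _))
    · exact hd.trans (CfsgLib.PGroup.relIndex_dvd_index_normal_right H O)
  set f := QuotientGroup.mk' O
  have hf : Function.Surjective f := QuotientGroup.mk'_surjective O
  have hs' : PiSeries π (G ⧸ O) := by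
    obtain ⟨n, N, h0, hn, hmono, hN, hstep⟩ := hs
    refine ⟨n, fun i => (N i).map f, by simp [h0], by simp [hn, map_top_of_surjective f hf],
      fun a b hab => map_mono (hmono hab), fun i => (hN i).map f hf, fun i => ?_⟩
    have hd : ((N i.castSucc).map f).relIndex ((N i.succ).map f) ∣
        (N i.castSucc).relIndex (N i.succ) := by
      haveI := hN i.castSucc
      haveI : ((N i.castSucc) ⊔ f.ker).Normal := inferInstance
      rw [relIndex_map_map]
      have h1 : N i.succ ⊔ f.ker = N i.succ ⊔ (N i.castSucc ⊔ f.ker) := by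
        rw [← sup_assoc, sup_eq_left.2 (hmono (Fin.castSucc_le_succ i))]
      rw [h1, relIndex_sup_right]
      exact relIndex_dvd_of_le_left _ le_sup_left
    rcases hstep i with ⟨p, hpπ, hp, k, hk⟩ | h
    · obtain ⟨j, -, hj⟩ := (Nat.dvd_prime_pow hp).1 (hk ▸ hd)
      exact Or.inl ⟨p, hpπ, hp, j, hj⟩
    · exact Or.inr fun q hq hqd => h q hq (hqd.trans hd)
  obtain ⟨x', y', h⟩ := exists_triple_of_piCore_eq_bot (H := H.map f) hs'
    (IsPiNum.of_dvd hH.1 (card_map_dvd_card f H)) (piCore_quotient_eq_bot π)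
  obtain ⟨x, rfl⟩ := hf x'
  obtain ⟨y, rfl⟩ := hf y'
  refine ⟨x, y, le_antisymm (fun a ha => ?_) ?_⟩
  · have key : ∀ z, a ∈ MulAut.conj z • H → f a ∈ MulAut.conj (f z) • H.map f := by
      intro z hz
      rw [conj_smul_eq_map] at hz ⊢
      obtain ⟨c, hc, rfl⟩ := hz
      exact ⟨f c, ⟨c, hc, rfl⟩, by simp⟩
    have : f a ∈ (⊥ : Subgroup (G ⧸ O)) :=
      h ▸ ⟨⟨⟨a, ha.1.1, rfl⟩, key x ha.1.2⟩, key y ha.2⟩
    exact (QuotientGroup.eq_one_iff a).1 this
  · have key : ∀ z : G, O ≤ MulAut.conj z • H := fun z a ha => by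
      rw [conj_smul_eq_map]
      refine ⟨z⁻¹ * a * z⁻¹⁻¹, hOH (hOn.conj_mem a ha z⁻¹), ?_⟩
      simp [mul_assoc]
    exact le_inf (le_inf hOH (key x)) (key y)

end CfsgLib.Char.CoprimeBase
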