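import Cfsg.Agent.Lib.Char.CoprimeBase.Twisted

/-!
# An irreducible subspace of a Heisenberg type group generates the space by its homomorphic images
-/

set_option autoImplicit false
set_option linter.unusedSectionVars false
set_option linter.style.haveILetI false

namespace CfsgLib.Char.CoprimeBase

universe u

variable {K V : Type u} [Field K] [AddCommGroup V] [Module K V]
  {E : Subgroup (V ≃ₗ[K] V)} {U : Submodule K V}

variable (E U) in
/-- The space of `E`-linear maps from `U` to the whole space. -/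
def homE (hU : EInv E U) : Submodule K (U →ₗ[K] V) where
  carrier := {f | ∀ d (hd : d ∈ E) (u : U), f ⟨d u, hU d hd u u.2⟩ = d (f u)}
  add_mem' := fun {f g} hf hg d hd u => by
    simp only [LinearMap.add_apply, hf d hd u, hg d hd u, map_add]
  zero_mem' := fun d hd u => by simp
  smul_mem' := fun c f hf d hd u => by
    simp only [LinearMap.smul_apply, hf d hd u, LinearEquiv.map_smul]

/-- A functional with value one at `a` and zero at `b`. -/
theorem exists_dual_pair {W : Type u} [AddCommGroup W] [Module K W] {a b : W} (ha : a ∉ K ∙ b) :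
    ∃ φ : W →ₗ[K] K, φ a = 1 ∧ φ b = 0 := by
  obtain ⟨φ, hφ, hφb⟩ := Submodule.exists_dual_map_eq_bot_of_notMem ha inferInstance
  refine ⟨(φ a)⁻¹ • φ, by simp [inv_mul_cancel₀ hφ], ?_⟩
  have : φ b ∈ (K ∙ b).map φ := ⟨b, Submodule.mem_span_singleton_self b, rfl⟩
  rw [hφb, Submodule.mem_bot] at this
  simp [this]

/-- A functional with value one at a non-zero vector. -/
theorem exists_dual_one {W : Type u} [AddCommGroup W] [Module K W] {a : W} (ha : a ≠ 0) :
    ∃ φ : W →ₗ[K] K, φ a = 1 := by
  obtain ⟨φ, hφ, -⟩ := exists_dual_pair (K := K) (a := a) (b := 0) (by simpa using ha)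
  exact ⟨φ, hφ⟩

variable [Finite V]

/-- A non-zero `E`-linear map out of an irreducible subspace is injective. -/
theorem homE_injective (hU : EIrr E U) {f : U →ₗ[K] V} (hf : f ∈ homE E U hU.2.1) (hf0 : f ≠ 0) :
    Function.Injective f := by
  rw [← LinearMap.ker_eq_bot]
  let S : Submodule K V := (LinearMap.ker f).map U.subtype
  rcases hU.2.2 S (Submodule.map_subtype_le _ _) (by
    rintro d hd _ ⟨u, hu, rfl⟩
    exact ⟨⟨d u, hU.2.1 d hd u u.2⟩, by
      show f _ = 0
      rw [hf d hd u, show f u = 0 from hu, map_zero], rfl⟩) with e | e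
  · refine (Submodule.eq_bot_iff _).2 fun u hu => Subtype.ext ?_
    have : (u : V) ∈ S := ⟨u, hu, rfl⟩
    rw [e, Submodule.mem_bot] at this
    exact this
  · refine absurd (LinearMap.ext fun u => ?_) hf0
    obtain ⟨w, hw, hwu⟩ : (u : V) ∈ S := by rw [e]; exact u.2
    rw [← show w = u from Subtype.ext hwu]
    exact hw

/-- Two `E`-linear maps with a vanishing combination are dependent accordingly. -/
theorem homE_sum_zero (hE : Heis E) (hU : EIrr E U) {f g : U →ₗ[K] V} (hf : f ∈ homE E U hU.2.1)
    (hg : g ∈ homE E U hU.2.1) {a b : U} (h : f a + g b = 0) (φ : U →ₗ[K] K) :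
    φ a • f + φ b • g = 0 := by
  refine LinearMap.ext fun w => ?_
  obtain ⟨r, hr, hrU⟩ := (exists_spanAlg_eq hE hU).2 (φ.smulRight w)
  have hcomm : ∀ (q : U →ₗ[K] V), q ∈ homE E U hU.2.1 → ∀ c : U, r (q c) = φ c • q w := by
    intro q hq c
    rw [← spanAlg_commute hE q hU.2.1 hq hr c, ← map_smul]
    exact congrArg q (Subtype.ext (hrU c))
  have h1 := congrArg r h
  rw [map_add, map_zero, hcomm f hf a, hcomm g hg b] at h1
  exact h1

/-- Every vector is a sum of images of `U` under `E`-linear maps built from it. -/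
theorem exists_homE_sum (hE : Heis E) (hU : EIrr E U) (v : V) :
    ∃ (n : ℕ) (f : Fin n → (U →ₗ[K] V)) (b : Fin n → U),
      (∀ i, f i ∈ homE E U hU.2.1) ∧ v = ∑ i, f i (b i) ∧
      ∀ W : Submodule K V, EInv E W → v ∈ W → ∀ i u, f i u ∈ W := by
  classical
  haveI : Nontrivial U := (Submodule.nontrivial_iff_ne_bot).2 hU.1
  obtain ⟨u0, hu0⟩ := exists_ne (0 : U)
  obtain ⟨φ0, hφ0⟩ := exists_dual_one (K := K) hu0
  have hlift := (exists_spanAlg_eq hE hU).2
  choose L hL hLU using hlift
  have huniq : ∀ {r s : Module.End K V}, r ∈ spanAlg hE → s ∈ spanAlg hE →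
      (∀ u : U, r u = s u) → r = s := fun hr hs h =>
    spanAlg_ext hE hU.2.1 hU.1 hr hs fun u hu => h ⟨u, hu⟩
  haveI : Module.Finite K U := Module.Finite.of_finite
  let bb := Module.finBasis K U
  have hfun : ∀ w : V, ∃ f : U →ₗ[K] V, f ∈ homE E U hU.2.1 ∧
      ∀ u, f u = L (φ0.smulRight u) w := by
    intro w
    refine ⟨{ toFun := fun u => L (φ0.smulRight u) w
              map_add' := fun x y => ?_
              map_smul' := fun c x => ?_ }, fun d hd u => ?_, fun u => rfl⟩
    · rw [huniq (hL _) (add_mem (hL (φ0.smulRight x)) (hL (φ0.smulRight y))) fun u => by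
        rw [LinearMap.add_apply, hLU, hLU, hLU]; simp]
      rfl
    · rw [huniq (hL _) (Subalgebra.smul_mem _ (hL (φ0.smulRight x)) c) fun u => by
        rw [LinearMap.smul_apply, hLU, hLU]
        simp [smul_smul, mul_comm]]
      rfl
    · show L (φ0.smulRight _) w = d (L (φ0.smulRight u) w)
      rw [huniq (hL _) (mul_mem (mem_spanAlg hE hd) (hL (φ0.smulRight u))) fun v => by
        rw [Module.End.mul_apply, hLU, hLU]
        simp [LinearEquiv.map_smul]]
      rfl
  choose F hF hFval using hfun
  let s : Fin (Module.finrank K U) → Module.End K V := fun i => L ((bb.coord i).smulRight u0)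
  refine ⟨_, fun i => F (s i v), fun i => bb i, fun i => hF _, ?_, fun W hW hv i u => ?_⟩
  · simp only [hFval]
    have hone : (1 : Module.End K V) = ∑ i, L (φ0.smulRight (bb i)) * s i := by
      refine huniq (one_mem _) (sum_mem fun i _ => mul_mem (hL _) (hL _)) fun u => ?_
      rw [LinearMap.sum_apply]
      have h1 : ∀ i, (L (φ0.smulRight (bb i)) * s i) (u : V) = ((bb.coord i u • bb i : U) : V) := by
        intro i
        rw [Module.End.mul_apply, hLU, LinearMap.smulRight_apply, Submodule.coe_smul, map_smul, hLU]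
        simp [hφ0]
      rw [Finset.sum_congr rfl fun i _ => h1 i, ← Submodule.coe_sum, Module.End.one_apply]
      exact congrArg Subtype.val (bb.sum_repr u).symm
    have h2 := LinearMap.congr_fun hone v
    rw [Module.End.one_apply, LinearMap.sum_apply] at h2
    exact h2
  · rw [hFval]
    exact spanAlg_mem_inv hE hW (hL _) _ (spanAlg_mem_inv hE hW (hL _) v hv)

/-- Every irreducible invariant subspace is the image of `U`. -/
theorem exists_homE_range (hE : Heis E) (hU : EIrr E U) {W : Submodule K V} (hW : EIrr E W) :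
    ∃ f ∈ homE E U hU.2.1, Function.Injective f ∧ LinearMap.range f = W := by
  obtain ⟨w, hw, hw0⟩ := (Submodule.ne_bot_iff _).1 hW.1
  obtain ⟨n, f, b, hf, hsum, hmem⟩ := exists_homE_sum hE hU w
  obtain ⟨i, hi⟩ : ∃ i, f i ≠ 0 := by
    by_contra h
    push Not at h
    exact hw0 (by rw [hsum]; exact Finset.sum_eq_zero fun i _ => by rw [h i, LinearMap.zero_apply])
  refine ⟨f i, hf i, homE_injective hU (hf i) hi, ?_⟩
  refine (hW.2.2 _ ?_ ?_).resolve_left ?_
  · rintro _ ⟨u, rfl⟩
    exact hmem W hW.2.1 hw i u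
  · rintro d hd _ ⟨u, rfl⟩
    exact ⟨_, hf i d hd u⟩
  · rw [LinearMap.range_eq_bot]
    exact hi

end CfsgLib.Char.CoprimeBase
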