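import Cfsg.Agent.Lib.Char.CoprimeBase.Primitive
import Cfsg.Agent.Lib.Char.OddBase.Main

/-!
# Two vectors with trivial common stabiliser for coprime solvable linear groups
-/

set_option autoImplicit false
set_option linter.unusedSectionVars false
set_option linter.style.haveILetI false

namespace CfsgLib.Char.CoprimeBase

open CfsgLib.Char.OddBase

universe u v

/-- The theorem for elementary abelian groups, by induction on the order. -/
theorem copBelow_all {p : ℕ} [hp : Fact p.Prime] : ∀ N : ℕ, CopBelow.{u} p N := by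
  intro N
  induction N with
  | zero =>
    intro A V _ _ _ _ _ _ _ _ _ hlt
    exact absurd hlt (Nat.not_lt_zero _)
  | succ N ih =>
    intro A V _ _ _ _ _ _ _ hA hV hlt
    classical
    rcases eq_or_ne p 2 with rfl | hp2
    · exact exists_base_two (by rwa [← Nat.not_even_iff_odd, even_iff_two_dvd])
        fun U hU => exists_invariant_compl hA hV U hU
    have hlin : CopBelow.{u} p (Nat.card V) := by
      intro A' V' _ _ _ _ _ _ _ hA' hV' hlt'
      exact ih A' V' hA' hV' (by omega)
    rcases subsingleton_or_nontrivial V with hsub | hnt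
    · exact ⟨0, 0, fun a _ _ => FaithfulSMul.eq_of_smul_eq_smul (α := V) fun v =>
        Subsingleton.elim _ _⟩
    by_cases hirr : IsIrr A V
    · rcases isEmpty_or_nonempty (System A V) with hs | ⟨⟨s⟩⟩
      · exact base2_primitive hp2 hA hV hirr hs hlin
      · exact base2_system hp2 s hA hV hirr hlin
    · obtain ⟨U, hU, hU0, hU1⟩ : ∃ U : AddSubgroup V, (∀ a : A, ∀ v ∈ U, a • v ∈ U) ∧ U ≠ ⊥ ∧
          U ≠ ⊤ := by
        by_contra hc
        push Not at hc
        exact hirr ⟨hnt, fun U hU => or_iff_not_imp_left.2 fun h0 => hc U hU h0⟩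
      obtain ⟨W, hW, hbot, htop⟩ := exists_invariant_compl hA hV U hU
      have hW1 : W ≠ ⊤ := fun e => hU0 (by rw [e, inf_top_eq] at hbot; exact hbot)
      have hlt' : ∀ S : AddSubgroup V, S ≠ ⊤ → Nat.card S < Nat.card V := fun S hS =>
        lt_of_le_of_ne (Nat.card_le_card_of_injective _ Subtype.val_injective)
          fun e => hS (AddSubgroup.eq_top_of_card_eq _ e)
      have hrec : ∀ (S : AddSubgroup V) (hS : ∀ a : A, ∀ v ∈ S, a • v ∈ S), S ≠ ⊤ →
          Base2 (restrictUnits S hS).range S := by
        intro S hS hS1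
        haveI : Group.IsSolvable (restrictUnits S hS).range := range_solvable _
        exact hlin _ S (not_dvd_of_dvd hA (Subgroup.card_range_dvd _))
          (fun s => Subtype.ext (by simpa using hV (s : V))) (hlt' S hS1)
      exact base2_split U W hU hW hbot htop (hrec U hU hU1) (hrec W hW hW1)

/-- A coprime solvable group of automorphisms of an elementary abelian group, given by a
homomorphism. -/
theorem exists_pair_of_hom {A : Type v} {V : Type u} [Group A] [Finite A] [Group.IsSolvable A]
    [AddCommGroup V] [Finite V] {p : ℕ} [hp : Fact p.Prime] (hA : ¬ p ∣ Nat.card A)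
    (hV : ∀ x : V, p • x = 0) (Θ : A →* (AddMonoid.End V)ˣ) :
    ∃ x y : V, ∀ a : A, (Θ a : AddMonoid.End V) x = x → (Θ a : AddMonoid.End V) y = y →
      Θ a = 1 := by
  haveI : Group.IsSolvable Θ.range := Group.isSolvable_of_surjective Θ.rangeRestrict_surjective
  obtain ⟨x, y, h⟩ := copBelow_all (p := p) (Nat.card V + 1) Θ.range V
    (not_dvd_of_dvd hA (Subgroup.card_range_dvd Θ)) hV (Nat.lt_succ_self _)
  exact ⟨x, y, fun a h1 h2 => congrArg Subtype.val (h ⟨Θ a, a, rfl⟩ h1 h2)⟩

end CfsgLib.Char.CoprimeBase
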