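import Cfsg.Agent.Lib.Char.CoprimeBase.Bits

/-!
# A backtracking check for monomial rigidity of a colouring of a binary space

A colouring is a code `c v = some (k, t)` (class `k`, group value `t`) or `none`. A symmetry is a
linear map `a` with values `τ` in a group given by a table, multiplicative up to a bilinear sign.
-/

set_option autoImplicit false
set_option linter.unusedSectionVars false

namespace CfsgLib.Char.CoprimeBase

variable {n : ℕ}

/-- A finite group given by a table on natural numbers, with a central sign `neg`. -/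
structure Tbl where
  /-- the order -/
  m : ℕ
  /-- the product -/
  mul : ℕ → ℕ → ℕ
  /-- the sign -/
  neg : ℕ

/-- The product with a sign. -/
def Tbl.signed (T : Tbl) (s : Bool) (x : ℕ) : ℕ := if s then T.mul T.neg x else x

/-- Parity of the common bits below `i`. -/
def dotBits (v r : ℕ) : ℕ → Bool
  | 0 => false
  | i + 1 => dotBits v r i ^^ (v.testBit i && r.testBit i)

/-- One entry of the next table. -/
def monNext (T : Tbl) (i : ℕ) (tab : List (ℕ × ℕ)) (t q r v : ℕ) : ℕ × ℕ :=
  ((tab.getD v (0, 0)).1 ^^^ t, T.signed (dotBits v r i) (T.mul (tab.getD v (0, 0)).2 q))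

/-- Equality of codes. -/
def codeEq : Option (ℕ × ℕ) → Option (ℕ × ℕ) → Bool
  | none, none => true
  | some (a, b), some (c, d) => Nat.beq a c && Nat.beq b d
  | _, _ => false

/-- Compatibility of one entry with the colouring. -/
def monOk (T : Tbl) (c : ℕ → Option (ℕ × ℕ)) (w : ℕ) (p : ℕ × ℕ) : Bool :=
  codeEq (c p.1) ((c w).map fun kt => (kt.1, T.mul p.2 kt.2))

/-- One step of the search. -/
def monStep (T : Tbl) (c : ℕ → Option (ℕ × ℕ)) (M i : ℕ) (tab : List (ℕ × ℕ)) :
    List (List (ℕ × ℕ)) :=
  ((List.range M).filter fun t => !((tab.map Prod.fst).contains t)).flatMap fun t =>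
    ((List.range T.m).filter fun q => monOk T c (2 ^ i + 0) (monNext T i tab t q 0 0)).flatMap fun q =>
      ((List.range (2 ^ i)).filter fun r => (List.range (2 ^ i)).all fun v =>
          monOk T c (2 ^ i + v) (monNext T i tab t q r v)).map fun r =>
        tab ++ (List.range (2 ^ i)).map (monNext T i tab t q r)

/-- The compatible tables on the span of the first `i` basis vectors. -/
def monLeaves (T : Tbl) (c : ℕ → Option (ℕ × ℕ)) (M : ℕ) : ℕ → List (List (ℕ × ℕ))
  | 0 => [[(0, 0)]]
  | i + 1 => (monLeaves T c M i).flatMap (monStep T c M i)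

/-- Only the trivial symmetry is compatible. -/
def monCheck (T : Tbl) (c : ℕ → Option (ℕ × ℕ)) (n : ℕ) : Bool :=
  (monLeaves T c (2 ^ n) n).all fun tab => tab == (List.range (2 ^ n)).map fun v => (v, 0)

theorem dotBits_zero (r : ℕ) : ∀ i, dotBits 0 r i = false
  | 0 => rfl
  | i + 1 => by simp [dotBits, dotBits_zero r i]

theorem codeEq_self (a : Option (ℕ × ℕ)) : codeEq a a = true := by
  rcases a with _ | ⟨a, b⟩ <;> simp [codeEq]

theorem dotBits_eq (v r : ℕ) : ∀ i,
    bit01 (dotBits v r i) = ∑ j ∈ Finset.range i, bit01 (v.testBit j) * bit01 (r.testBit j) := by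
  intro i
  induction i with
  | zero => simp [dotBits, bit01]
  | succ i ih => rw [dotBits, bit01_xor, bit01_and, ih, Finset.sum_range_succ]

theorem bit01_inj {a b : Bool} (h : bit01 a = bit01 b) : a = b := by
  revert h; cases a <;> cases b <;> decide

theorem bit01_eq_one (z : ZMod 2) : bit01 (decide (z = 1)) = z := by
  revert z; decide

/-- The coordinates of a number as sums over its bits. -/
theorem toVec_eq_sum (v : ℕ) :
    toVec n v = ∑ j : Fin n, bit01 (v.testBit j) • (Pi.single j (1 : ZMod 2) : Bv n) := by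
  funext i
  simp [Finset.sum_apply, Pi.single_apply, toVec]

theorem toVec_two_pow (j : Fin n) : toVec n (2 ^ (j : ℕ)) = Pi.single j (1 : ZMod 2) := by
  funext i
  simp only [toVec, Nat.testBit_two_pow, Pi.single_apply]
  by_cases h : i = j
  · simp [h, bit01]
  · simp [h, bit01, Fin.val_ne_of_ne (Ne.symm h)]

/-- The symmetries of a colouring are found by the search. -/
theorem monLeaves_mem (T : Tbl) (c : ℕ → Option (ℕ × ℕ)) (a : Bv n →+ Bv n)
    (ha : Function.Injective a) (τ : Bv n → ℕ) (b : Bv n → Bv n → ZMod 2)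
    (hτm : ∀ x, τ x < T.m) (hτ0 : τ 0 = 0) (hb : ∀ x y z, b (x + y) z = b x z + b y z)
    (hτ : ∀ x y, τ (x + y) = T.signed (decide (b x y = 1)) (T.mul (τ x) (τ y)))
    (hc : ∀ x, c (toNum (a x)) = (c (toNum x)).map fun kt => (kt.1, T.mul (τ x) kt.2)) :
    ∀ i ≤ n, (List.range (2 ^ i)).map (fun v => (toNum (a (toVec n v)), τ (toVec n v))) ∈
      monLeaves T c (2 ^ n) i := by
  intro i
  induction i with
  | zero => intro _; simp [monLeaves, toVec_zero, toNum_zero, hτ0]
  | succ i ih =>
    intro hi
    set f : ℕ → ℕ × ℕ := fun v => (toNum (a (toVec n v)), τ (toVec n v)) with hf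
    have hlt : 2 ^ i < 2 ^ n := Nat.pow_lt_pow_right one_lt_two hi
    have hlt2 : ∀ v < 2 ^ i, 2 ^ i + v < 2 ^ n := fun v hv => by
      calc 2 ^ i + v < 2 ^ i + 2 ^ i := by omega
        _ = 2 ^ (i + 1) := by ring
        _ ≤ 2 ^ n := Nat.pow_le_pow_right two_pos hi
    -- the row of signs
    set e : Bv n := toVec n (2 ^ i) with he
    set rv : Bv n := fun j => if (j : ℕ) < i then b (Pi.single j 1) e else 0 with hrv
    set r := toNum rv with hr
    have hrbit : ∀ j : Fin n, bit01 (r.testBit j) = rv j := fun j =>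
      congrFun (toVec_toNum rv) j
    have hrlt : r < 2 ^ i := by
      by_contra hcon
      push Not at hcon
      obtain ⟨j, hj1, hj2⟩ := Nat.exists_ge_and_testBit_of_ge_two_pow hcon
      have hjn : j < n := by
        by_contra hjn
        rw [Nat.testBit_lt_two_pow (lt_of_lt_of_le (toNum_lt rv)
          (Nat.pow_le_pow_right two_pos (by omega)))] at hj2
        exact Bool.noConfusion hj2
      have h1 := hrbit ⟨j, hjn⟩
      simp only [hj2, bit01, hrv, if_true] at h1
      rw [if_neg (by omega)] at h1
      exact one_ne_zero h1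
    have hsum : ∀ (s : Finset (Fin n)) (g : Fin n → Bv n),
        b (∑ j ∈ s, g j) e = ∑ j ∈ s, b (g j) e := fun s g =>
      map_sum (AddMonoidHom.mk' (fun x => b x e) fun x y => hb x y e) g s
    have hdot : ∀ v < 2 ^ i, bit01 (dotBits v r i) = b (toVec n v) e := fun v hv => by
      rw [toVec_eq_sum v, hsum, dotBits_eq]
      have hterm : ∀ j : Fin n, b (bit01 (v.testBit j) • (Pi.single j (1 : ZMod 2) : Bv n)) e =
          bit01 (v.testBit j) * b (Pi.single j 1) e := by
        intro j
        cases v.testBit j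
        · have h0 : b 0 e = 0 := by simpa using (hb 0 0 e).symm
          simp [bit01, h0]
        · simp [bit01]
      rw [Finset.sum_congr rfl fun j _ => hterm j, Finset.sum_fin_eq_sum_range]
      have hi' : i ≤ n := by omega
      rw [← Finset.sum_subset (Finset.range_subset_range.2 hi') (fun j hj hji => ?_)]
      · refine Finset.sum_congr rfl fun j hj => ?_
        rw [Finset.mem_range] at hj
        rw [dif_pos (by omega)]
        refine congrArg _ ((hrbit ⟨j, by omega⟩).trans ?_)
        simp [hrv, hj]
      · rw [Finset.mem_range] at hj hji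
        rw [dif_pos hj, Nat.testBit_lt_two_pow (hv.trans_le (Nat.pow_le_pow_right two_pos (not_lt.1 hji)))]
        simp [bit01]
    have hnext : ∀ v < 2 ^ i,
        monNext T i ((List.range (2 ^ i)).map f) (toNum (a e)) (τ e) r v = f (2 ^ i + v) := by
      intro v hv
      have hv2 : toVec n (2 ^ i + v) = toVec n v + e := by
        rw [← two_pow_xor hv, toVec_xor, add_comm]
      have hd : dotBits v r i = decide (b (toVec n v) e = 1) :=
        bit01_inj (by rw [hdot v hv, bit01_eq_one])
      rw [monNext, getD_range_map f (0, 0) hv, hf]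
      simp only [hv2, map_add, toNum_add, hτ, hd]
    rw [monLeaves, List.mem_flatMap]
    refine ⟨_, ih (by omega), ?_⟩
    rw [monStep, List.mem_flatMap]
    refine ⟨toNum (a e), ?_, ?_⟩
    · rw [List.mem_filter]
      refine ⟨List.mem_range.2 (toNum_lt _), ?_⟩
      rw [Bool.not_eq_true', List.contains_eq_mem, decide_eq_false_iff_not, List.map_map,
        List.mem_map]
      rintro ⟨v, hv, hev⟩
      rw [List.mem_range] at hv
      have := toVec_injOn (hv.trans hlt) hlt (ha (toNum_injective hev))
      omega
    rw [List.mem_flatMap]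
    refine ⟨τ e, List.mem_filter.2 ⟨List.mem_range.2 (hτm e), ?_⟩, ?_⟩
    · have h0 := hnext 0 (Nat.two_pow_pos i)
      rw [monNext, dotBits_zero] at h0
      rw [monNext, dotBits_zero, monOk, h0, hf]
      simp only
      rw [hc, toNum_toVec (hlt2 0 (Nat.two_pow_pos i))]
      exact codeEq_self _
    rw [List.mem_map]
    refine ⟨r, ?_, ?_⟩
    · rw [List.mem_filter]
      refine ⟨List.mem_range.2 hrlt, ?_⟩
      rw [List.all_eq_true]
      intro v hv
      rw [List.mem_range] at hv
      rw [hnext v hv, monOk, hf]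
      simp only
      rw [hc, toNum_toVec (hlt2 v hv)]
      exact codeEq_self _
    · rw [pow_succ, mul_two, List.range_add, List.map_append, List.map_map]
      congr 1
      refine List.map_congr_left fun v hv => ?_
      rw [List.mem_range] at hv
      exact hnext v hv

/-- A colouring passing the check has no non-trivial symmetry. -/
theorem monCheck_sound {T : Tbl} {c : ℕ → Option (ℕ × ℕ)} (h : monCheck T c n = true)
    (a : Bv n →+ Bv n) (ha : Function.Injective a) (τ : Bv n → ℕ) (b : Bv n → Bv n → ZMod 2)
    (hτm : ∀ x, τ x < T.m) (hτ0 : τ 0 = 0) (hb : ∀ x y z, b (x + y) z = b x z + b y z)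
    (hτ : ∀ x y, τ (x + y) = T.signed (decide (b x y = 1)) (T.mul (τ x) (τ y)))
    (hc : ∀ x, c (toNum (a x)) = (c (toNum x)).map fun kt => (kt.1, T.mul (τ x) kt.2)) :
    ∀ x, a x = x ∧ τ x = 0 := by
  intro x
  rw [monCheck, List.all_eq_true] at h
  have h1 := h _ (monLeaves_mem T c a ha τ b hτm hτ0 hb hτ hc n le_rfl)
  rw [beq_iff_eq] at h1
  have h2 := getD_range_map (fun v => (toNum (a (toVec n v)), τ (toVec n v))) (0, 0) (toNum_lt x)
  rw [h1, getD_range_map (fun v => (v, 0)) (0, 0) (toNum_lt x), toVec_toNum, Prod.mk.injEq] at h2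
  exact ⟨toNum_injective h2.1.symm, h2.2.symm⟩

end CfsgLib.Char.CoprimeBase
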