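import Cfsg.Agent.Lib.Char.CoprimeBase.Commutator
import Cfsg.Agent.Lib.Char.CoprimeBase.AffineColour

/-!
# The monomial form of an absolutely irreducible Heisenberg type group

A vector with largest stabiliser, the common fixed space of the stabiliser, and a complementary
elementary abelian group permuting the translates of that space.
-/

set_option autoImplicit false
set_option linter.unusedSectionVars false
set_option linter.style.haveILetI false

namespace CfsgLib.Char.CoprimeBase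

open CfsgLib.Char.OddBase

universe u

variable {K V : Type u} [Field K] [AddCommGroup V] [Module K V]

/-- An absolutely irreducible group of Heisenberg type with elementary quotient and normalised
lifts. -/
structure AIrr (D : Subgroup (V ≃ₗ[K] V)) (l : ℕ) : Prop where
  heis : Heis D
  irr : ∀ U : Submodule K V, EInv D U → U = ⊥ ∨ U = ⊤
  norm : ∀ d ∈ D, ∃ c : Kˣ, (scal c * d) ^ l = 1 ∨ (l = 2 ∧ (scal c * d) ^ 2 = scal (-1))

/-- The stabiliser of a vector in `D`. -/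
def stabD (D : Subgroup (V ≃ₗ[K] V)) (z : V) : Subgroup (V ≃ₗ[K] V) where
  carrier := {d | d ∈ D ∧ d z = z}
  one_mem' := ⟨one_mem D, rfl⟩
  mul_mem' := fun {a b} ha hb => ⟨mul_mem ha.1 hb.1, by rw [LinearEquiv.mul_apply, hb.2, ha.2]⟩
  inv_mem' := fun {a} ha => ⟨inv_mem ha.1, by
    conv_lhs => rw [← ha.2]
    exact LinearEquiv.symm_apply_apply a z⟩

/-- The fixed space of a group of automorphisms. -/
def fixSp (L : Subgroup (V ≃ₗ[K] V)) : Submodule K V where
  carrier := {v | ∀ ℓ ∈ L, ℓ v = v}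
  add_mem' := fun {a b} ha hb ℓ hℓ => by rw [map_add, ha ℓ hℓ, hb ℓ hℓ]
  zero_mem' := fun ℓ _ => map_zero ℓ
  smul_mem' := fun c v hv ℓ hℓ => by rw [LinearEquiv.map_smul, hv ℓ hℓ]

variable [Finite V] [Nontrivial V] {D : Subgroup (V ≃ₗ[K] V)} {l : ℕ}

theorem AIrr.pow_mem (hA : AIrr D l) {d : V ≃ₗ[K] V} (hd : d ∈ D) : d ^ l ∈ scalars K V := by
  obtain ⟨c, hc⟩ := hA.norm d hd
  have h : (scal c * d) ^ l = scal (c ^ l) * d ^ l := by
    rw [(Commute.symm (scal_comm c d)).mul_pow, map_pow]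
  have hsc : scal (c ^ l) * d ^ l ∈ scalars K V := by
    rw [← h]
    rcases hc with h1 | ⟨rfl, h2⟩
    · rw [h1]; exact one_mem _
    · rw [h2]; exact ⟨-1, rfl⟩
  exact (Subgroup.mul_mem_cancel_left _ (⟨c ^ l, rfl⟩ : scal (c ^ l) ∈ scalars K V)).1 hsc

theorem AIrr.cmt_pow (hA : AIrr D l) {d e : V ≃ₗ[K] V} (hd : d ∈ D) (he : e ∈ D) :
    cmt d e ^ l = 1 :=
  cmt_pow_eq_one hA.heis hd he (hA.pow_mem hd)

theorem scal_fix {c : Kˣ} {z : V} (hz : z ≠ 0) (h : (scal c : V ≃ₗ[K] V) z = z) : c = 1 := by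
  rw [scal_apply] at h
  have h1 : ((c : K) - 1) • z = 0 := by rw [sub_smul, one_smul, h, sub_self]
  exact Units.ext (sub_eq_zero.1 ((smul_eq_zero.1 h1).resolve_right hz))

theorem AIrr.stab_commute (hA : AIrr D l) {z : V} (hz : z ≠ 0) {a b : V ≃ₗ[K] V}
    (ha : a ∈ stabD D z) (hb : b ∈ stabD D z) : Commute a b := by
  have h := cmt_spec hA.heis hb.1 ha.1
  have h1 : cmt b a = 1 := by
    refine scal_fix hz ?_
    have h2 := LinearEquiv.congr_fun h z
    rw [LinearEquiv.mul_apply, LinearEquiv.mul_apply, LinearEquiv.mul_apply, hb.2, ha.2, hb.2]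
      at h2
    exact h2.symm
  exact (cmt_eq_one_iff hA.heis hb.1 ha.1).1 h1

theorem AIrr.stab_pow (hA : AIrr D l) {z : V} (hz : z ≠ 0) {a : V ≃ₗ[K] V} (ha : a ∈ stabD D z) :
    a ^ l = 1 := by
  obtain ⟨c, hc⟩ := hA.pow_mem ha.1
  have h1 : c = 1 := scal_fix hz (by rw [hc]; exact (_root_.pow_mem ha l).2)
  rw [← hc, h1, map_one]

/-- A vector with largest stabiliser. -/
theorem exists_max_stab (D : Subgroup (V ≃ₗ[K] V)) :
    ∃ x : V, x ≠ 0 ∧ ∀ z : V, z ≠ 0 → Nat.card (stabD D z) ≤ Nat.card (stabD D x) := by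
  classical
  have := Fintype.ofFinite V
  obtain ⟨v, hv⟩ := exists_ne (0 : V)
  obtain ⟨x, hx, hmax⟩ := Finset.exists_max_image (Finset.univ.filter fun z : V => z ≠ 0)
    (fun z => Nat.card (stabD D z)) ⟨v, by simp [hv]⟩
  exact ⟨x, (Finset.mem_filter.1 hx).2, fun z hz => hmax z (by simp [hz])⟩

/-- The monomial structure. -/
structure Mono (D : Subgroup (V ≃ₗ[K] V)) (l : ℕ) where
  /-- the dimension of the index space -/
  n : ℕ
  /-- a vector with largest stabiliser -/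
  x : V
  x_ne : x ≠ 0
  max : ∀ z ∈ fixSp (stabD D x), z ≠ 0 → stabD D z = stabD D x
  /-- the translations -/
  dW : (Fin n → ZMod l) → (V ≃ₗ[K] V)
  dW_mem : ∀ w, dW w ∈ D
  dW_add : ∀ v w, dW (v + w) = dW v * dW w
  decomp : ∀ d ∈ D, ∃ w t ℓ, t ∈ D ∧ (∀ ℓ' ∈ stabD D x, Commute t ℓ') ∧
    (∀ w', Commute t (dW w')) ∧ ℓ ∈ stabD D x ∧ d = dW w * t * ℓ
  char_inj : ∀ w, (∀ ℓ ∈ stabD D x, Commute (dW w) ℓ) → w = 0
  dual : ∀ ψ : (Fin n → ZMod l) → Kˣ, (∀ v w, ψ (v + w) = ψ v * ψ w) →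
    ∃ ℓ ∈ stabD D x, ∀ w, cmt (dW w) ℓ = ψ w

/-- Classes: the character of `L` given by conjugation, in coordinates. -/
theorem AIrr.exists_cls (hA : AIrr D l) (hl : l.Prime) {x : V} (hx : x ≠ 0) :
    ∃ (n : ℕ) (cls : (V ≃ₗ[K] V) → (Fin n → ZMod l)),
      (∀ d ∈ D, ∀ e ∈ D, cls (d * e) = cls d + cls e) ∧ (∀ w, ∃ d ∈ D, cls d = w) ∧
      (∀ d ∈ D, cls d = 0 ↔ ∀ ℓ ∈ stabD D x, Commute d ℓ) ∧
      l ^ n ≤ Nat.card (stabD D x) := by
  classical
  haveI := Fact.mk hl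
  set L := stabD D x
  letI : CommGroup L := { (inferInstance : Group L) with
    mul_comm := fun a b => Subtype.ext (hA.stab_commute hx a.2 b.2).eq }
  let χ : D → (L →* Kˣ) := fun d =>
    { toFun := fun ℓ => cmt (d : V ≃ₗ[K] V) ℓ
      map_one' := by
        rw [OneMemClass.coe_one, cmt_eq_one_iff hA.heis d.2 (one_mem D)]
        exact Commute.one_left _
      map_mul' := fun a b => cmt_mul_right hA.heis d.2 a.2.1 b.2.1 }
  let Φ : D →* (L →* Kˣ) :=
    { toFun := χ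
      map_one' := MonoidHom.ext fun ℓ => cmt_one_left hA.heis ℓ.2.1
      map_mul' := fun a b => MonoidHom.ext fun ℓ => cmt_mul_left hA.heis a.2 b.2 ℓ.2.1 }
  haveI : Finite Φ.range := Finite.of_surjective _ Φ.rangeRestrict_surjective
  haveI : Finite (Additive Φ.range) := Finite.of_equiv _ Additive.ofMul
  obtain ⟨n, ⟨e⟩⟩ := exists_coords (l := l) (M := Additive Φ.range) (fun v => by
    refine Additive.toMul.injective ?_
    rw [toMul_nsmul, toMul_zero]
    obtain ⟨d, hd⟩ := (Additive.toMul v).2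
    refine Subtype.ext ?_
    rw [SubmonoidClass.coe_pow, ← hd, OneMemClass.coe_one]
    exact MonoidHom.ext fun ℓ => by
      rw [MonoidHom.pow_apply, MonoidHom.one_apply]
      exact hA.cmt_pow d.2 ℓ.2.1)
  let cls : (V ≃ₗ[K] V) → (Fin n → ZMod l) := fun d =>
    if h : d ∈ D then e (Additive.ofMul (Φ.rangeRestrict ⟨d, h⟩)) else 0
  refine ⟨n, cls, fun d hd f hf => ?_, fun w => ?_, fun d hd => ?_, ?_⟩
  · simp only [cls, dif_pos hd, dif_pos hf, dif_pos (mul_mem hd hf)]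
    rw [← map_add, ← ofMul_mul, ← map_mul]
    rfl
  · obtain ⟨d, hd⟩ := Φ.rangeRestrict_surjective (Additive.toMul (e.symm w))
    refine ⟨d, d.2, ?_⟩
    simp only [cls, dif_pos d.2, Subtype.coe_eta, hd, ofMul_toMul, AddEquiv.apply_symm_apply]
  · simp only [cls, dif_pos hd]
    rw [e.map_eq_zero_iff]
    constructor
    · intro h ℓ hℓ
      have h1 : Φ.rangeRestrict ⟨d, hd⟩ = 1 := Additive.ofMul.injective (h.trans ofMul_one.symm)
      have h2 := DFunLike.congr_fun (congrArg Subtype.val h1) ⟨ℓ, hℓ⟩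
      exact ((cmt_eq_one_iff hA.heis hd hℓ.1).1 h2).symm
    · intro h
      rw [← ofMul_one]
      refine congrArg Additive.ofMul (Subtype.ext (MonoidHom.ext fun ℓ => ?_))
      exact (cmt_eq_one_iff hA.heis hd ℓ.2.1).2 (h ℓ ℓ.2).symm
  · haveI : Finite L := inferInstance
    calc l ^ n = Nat.card (Fin n → ZMod l) := by simp [Nat.card_fun, Nat.card_zmod]
      _ = Nat.card Φ.range := by rw [Nat.card_congr e.symm.toEquiv, Nat.card_congr Additive.toMul]
      _ ≤ Nat.card (L →* Kˣ) := Nat.card_le_card_of_injective _ Subtype.val_injective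
      _ ≤ Nat.card L := card_monoidHom_units_le

section Section

variable {x : V} {n : ℕ} (cls : (V ≃ₗ[K] V) → (Fin n → ZMod l))

/-- Elements of `L` commuting with everything whose class lies in `W`. -/
def annih (D : Subgroup (V ≃ₗ[K] V)) (x : V) (cls : (V ≃ₗ[K] V) → (Fin n → ZMod l))
    (W : AddSubgroup (Fin n → ZMod l)) : Set (V ≃ₗ[K] V) :=
  {ℓ | ℓ ∈ stabD D x ∧ ∀ d ∈ D, cls d ∈ W → Commute d ℓ}

variable (hA : AIrr D l) (hx : x ≠ 0)
  (hadd : ∀ d ∈ D, ∀ e ∈ D, cls (d * e) = cls d + cls e) (hsurj : ∀ w, ∃ d ∈ D, cls d = w)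
  (hker : ∀ d ∈ D, cls d = 0 ↔ ∀ ℓ ∈ stabD D x, Commute d ℓ)

include hA hx hadd hsurj hker

theorem cls_one : cls 1 = 0 := by
  rw [hker 1 (one_mem D)]
  exact fun ℓ _ => Commute.one_left ℓ

theorem cls_inv {d : V ≃ₗ[K] V} (hd : d ∈ D) : cls d⁻¹ = -cls d := by
  refine eq_neg_of_add_eq_zero_left ?_
  rw [← hadd _ (inv_mem hd) _ hd, inv_mul_cancel, cls_one cls hA hx hadd hsurj hker]

theorem cmt_of_cls {d e ℓ : V ≃ₗ[K] V} (hd : d ∈ D) (he : e ∈ D) (hℓ : ℓ ∈ stabD D x)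
    (h : cls d = cls e) : cmt d ℓ = cmt e ℓ := by
  have h0 : cls (e⁻¹ * d) = 0 := by
    rw [hadd _ (inv_mem he) _ hd, cls_inv cls hA hx hadd hsurj hker he, h, neg_add_cancel]
  have h1 := (cmt_eq_one_iff hA.heis (mul_mem (inv_mem he) hd) hℓ.1).2
    ((hker _ (mul_mem (inv_mem he) hd)).1 h0 ℓ hℓ).symm
  conv_lhs => rw [show d = e * (e⁻¹ * d) by group]
  rw [cmt_mul_left hA.heis he (mul_mem (inv_mem he) hd) hℓ.1, h1, mul_one]

theorem card_annih_le [Fact l.Prime] (W : AddSubgroup (Fin n → ZMod l)) :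
    (annih D x cls W).ncard ≤ W.index := by
  classical
  choose lift hlift hcl using hsurj
  have hsurj' : ∀ w, ∃ d ∈ D, cls d = w := fun w => ⟨lift w, hlift w, hcl w⟩
  have hc := @cmt_of_cls _ _ _ _ _ _ _ _ _ _ _ cls hA hx hadd hsurj' hker
  let M := Multiplicative ((Fin n → ZMod l) ⧸ W)
  haveI : Finite M := Finite.of_equiv ((Fin n → ZMod l) ⧸ W) Multiplicative.ofAdd
  have hwell : ∀ ℓ ∈ annih D x cls W, ∀ v w : Fin n → ZMod l, -v + w ∈ W →
      cmt (lift v) ℓ = cmt (lift w) ℓ := by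
    intro ℓ hℓ v w hvw
    have h1 : cmt (lift w) ℓ = cmt (lift v * lift (-v + w)) ℓ :=
      hc (hlift _) (mul_mem (hlift _) (hlift _)) hℓ.1
        (by rw [hadd _ (hlift _) _ (hlift _), hcl, hcl, hcl, add_neg_cancel_left])
    rw [h1, cmt_mul_left hA.heis (hlift _) (hlift _) hℓ.1.1,
      (cmt_eq_one_iff hA.heis (hlift (-v + w)) hℓ.1.1).2 (hℓ.2 _ (hlift _) (by rwa [hcl])).symm,
      mul_one]
  let F : annih D x cls W → (M →* Kˣ) := fun ℓ =>
    { toFun := fun q => Quotient.liftOn' (Multiplicative.toAdd q) (fun w => cmt (lift w) (ℓ : V ≃ₗ[K] V))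
        fun v w h => hwell ℓ ℓ.2 v w (QuotientAddGroup.leftRel_apply.1 h)
      map_one' := by
        show cmt (lift 0) (ℓ : V ≃ₗ[K] V) = 1
        rw [cmt_eq_one_iff hA.heis (hlift _) ℓ.2.1.1]
        exact ((hker _ (hlift _)).1 (hcl 0) ℓ ℓ.2.1).symm
      map_mul' := fun q r => by
        obtain ⟨q, rfl⟩ := Multiplicative.ofAdd.surjective q
        obtain ⟨r, rfl⟩ := Multiplicative.ofAdd.surjective r
        obtain ⟨v, rfl⟩ := QuotientAddGroup.mk_surjective q
        obtain ⟨w, rfl⟩ := QuotientAddGroup.mk_surjective r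
        show cmt (lift (v + w)) (ℓ : V ≃ₗ[K] V) = cmt (lift v) _ * cmt (lift w) _
        rw [← cmt_mul_left hA.heis (hlift _) (hlift _) ℓ.2.1.1]
        exact hc (hlift _) (mul_mem (hlift _) (hlift _)) ℓ.2.1
          (by rw [hadd _ (hlift _) _ (hlift _), hcl, hcl, hcl]) }
  have hinj : Function.Injective F := by
    intro a b hab
    refine Subtype.ext (mul_inv_eq_one.1 ?_)
    set t := (a : V ≃ₗ[K] V) * (b : V ≃ₗ[K] V)⁻¹
    have ht : t ∈ stabD D x := mul_mem a.2.1 (inv_mem b.2.1)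
    have hall : ∀ d ∈ D, cmt d t = 1 := by
      intro d hd
      have he : cmt d (a : V ≃ₗ[K] V) = cmt d b := by
        rw [hc hd (hlift (cls d)) a.2.1 (hcl _).symm, hc hd (hlift (cls d)) b.2.1 (hcl _).symm]
        exact DFunLike.congr_fun hab (Multiplicative.ofAdd (QuotientAddGroup.mk (cls d)))
      have hb : cmt d (b : V ≃ₗ[K] V)⁻¹ * cmt d b = 1 := by
        rw [← cmt_mul_right hA.heis hd (inv_mem b.2.1.1) b.2.1.1, inv_mul_cancel,
          cmt_eq_one_iff hA.heis hd (one_mem D)]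
        exact Commute.one_left d
      rw [cmt_mul_right hA.heis hd a.2.1.1 (inv_mem b.2.1.1), he, mul_comm, hb]
    obtain ⟨c, hcs⟩ := hA.heis.sep t ht.1 fun d hd =>
      ((cmt_eq_one_iff hA.heis hd ht.1).1 (hall d hd)).eq.symm
    rw [← hcs, scal_fix (c := c) hx (by rw [hcs]; exact ht.2), map_one]
  calc (annih D x cls W).ncard = Nat.card (annih D x cls W) := (Nat.card_coe_set_eq _).symm
    _ ≤ Nat.card (M →* Kˣ) := Nat.card_le_card_of_injective F hinj
    _ ≤ Nat.card M := card_monoidHom_units_le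
    _ = W.index := rfl

/-- Characters of a section are realised by `L`, and outside its classes `L` separates. -/
theorem exists_dual [Fact l.Prime] (hcard : l ^ n ≤ Nat.card (stabD D x))
    (S : Subgroup (V ≃ₗ[K] V)) (hSD : S ≤ D) (hScomm : ∀ a ∈ S, ∀ b ∈ S, Commute a b)
    (hSinj : ∀ s ∈ S, cls s = 0 → s = 1) :
    (∀ ψ : S →* Kˣ, ∃ ℓ ∈ stabD D x, ∀ (s : V ≃ₗ[K] V) (hs : s ∈ S), cmt s ℓ = ψ ⟨s, hs⟩) ∧
      ∀ d ∈ D, (∀ s ∈ S, cls s ≠ cls d) →
        ∃ ℓ ∈ stabD D x, (∀ s ∈ S, cmt s ℓ = 1) ∧ cmt d ℓ ≠ 1 := by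
  classical
  set L := stabD D x
  letI : CommGroup S := { (inferInstance : Group S) with
    mul_comm := fun a b => Subtype.ext (hScomm a a.2 b b.2).eq }
  let W : AddSubgroup (Fin n → ZMod l) :=
    { carrier := {w | ∃ s ∈ S, cls s = w}
      add_mem' := fun {a b} ⟨s, hs, hsa⟩ ⟨t, ht, htb⟩ =>
        ⟨s * t, mul_mem hs ht, by rw [hadd _ (hSD hs) _ (hSD ht), hsa, htb]⟩
      zero_mem' := ⟨1, one_mem S, cls_one cls hA hx hadd hsurj hker⟩
      neg_mem' := fun {a} ⟨s, hs, hsa⟩ =>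
        ⟨s⁻¹, inv_mem hs, by rw [cls_inv cls hA hx hadd hsurj hker (hSD hs), hsa]⟩ }
  have hWcard : Nat.card W = Nat.card S := by
    refine (Nat.card_eq_of_bijective (fun s : S => (⟨cls s, s, s.2, rfl⟩ : W))
      ⟨fun a b e => ?_, fun w => ?_⟩).symm
    · have h1 : cls ((b : V ≃ₗ[K] V)⁻¹ * a) = 0 := by
        rw [hadd _ (inv_mem (hSD b.2)) _ (hSD a.2), cls_inv cls hA hx hadd hsurj hker (hSD b.2),
          show cls (a : V ≃ₗ[K] V) = cls b from congrArg Subtype.val e, neg_add_cancel]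
      exact Subtype.ext (inv_mul_eq_one.1 (hSinj _ (mul_mem (inv_mem b.2) a.2) h1)).symm
    · obtain ⟨s, hs, hsw⟩ := w.2
      exact ⟨⟨s, hs⟩, Subtype.ext hsw⟩
  let r : L →* (S →* Kˣ) :=
    { toFun := fun ℓ =>
        { toFun := fun s => cmt (s : V ≃ₗ[K] V) ℓ
          map_one' := cmt_one_left hA.heis ℓ.2.1
          map_mul' := fun a b => cmt_mul_left hA.heis (hSD a.2) (hSD b.2) ℓ.2.1 }
      map_one' := MonoidHom.ext fun s => by
        show cmt (s : V ≃ₗ[K] V) 1 = 1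
        rw [cmt_eq_one_iff hA.heis (hSD s.2) (one_mem D)]
        exact Commute.one_left _
      map_mul' := fun a b => MonoidHom.ext fun s =>
        cmt_mul_right hA.heis (hSD s.2) a.2.1 b.2.1 }
  have hkerann : ∀ ℓ : L, ℓ ∈ r.ker ↔ (ℓ : V ≃ₗ[K] V) ∈ annih D x cls W := by
    intro ℓ
    constructor
    · intro h
      refine ⟨ℓ.2, fun d hd ⟨s, hs, hsd⟩ => ?_⟩
      refine ((cmt_eq_one_iff hA.heis hd ℓ.2.1).1 ?_).symm
      rw [cmt_of_cls cls hA hx hadd hsurj hker hd (hSD hs) ℓ.2 hsd.symm]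
      exact DFunLike.congr_fun h ⟨s, hs⟩
    · intro h
      exact MonoidHom.ext fun s => (cmt_eq_one_iff hA.heis (hSD s.2) ℓ.2.1).2
        (h.2 _ (hSD s.2) ⟨s, s.2, rfl⟩).symm
  have hkercard : Nat.card r.ker ≤ W.index := by
    refine le_trans ?_ (card_annih_le cls hA hx hadd hsurj hker W)
    rw [← Nat.card_coe_set_eq]
    exact Nat.card_le_card_of_injective (fun ℓ => ⟨_, (hkerann ℓ).1 ℓ.2⟩)
      fun a b e => Subtype.ext (Subtype.ext (congrArg Subtype.val e :))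
  have hWl : Nat.card W * W.index = l ^ n := by
    rw [AddSubgroup.card_mul_index]
    simp [Nat.card_fun, Nat.card_zmod]
  have hrcard : Nat.card r.range ≤ Nat.card W :=
    (Nat.card_le_card_of_injective _ Subtype.val_injective).trans
      (card_monoidHom_units_le.trans hWcard.ge)
  have hprod : l ^ n ≤ Nat.card r.ker * Nat.card r.range := by
    refine hcard.trans_eq ?_
    rw [← r.ker.card_mul_index, Subgroup.index_ker]
  have hpos : 0 < l ^ n := pow_pos (Fact.out : l.Prime).pos n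
  have hkereq : Nat.card r.ker = W.index := by
    refine le_antisymm hkercard (Nat.le_of_mul_le_mul_left ?_ (show 0 < Nat.card W from Nat.card_pos))
    calc Nat.card W * W.index = l ^ n := hWl
      _ ≤ Nat.card r.ker * Nat.card r.range := hprod
      _ ≤ Nat.card r.ker * Nat.card W := Nat.mul_le_mul_left _ hrcard
      _ = Nat.card W * Nat.card r.ker := mul_comm _ _
  have hWS : Nat.card W ≤ Nat.card r.range := by
    refine Nat.le_of_mul_le_mul_left ?_ (show 0 < Nat.card r.ker from Nat.card_pos)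
    calc Nat.card r.ker * Nat.card W = l ^ n := by rw [hkereq, mul_comm, hWl]
      _ ≤ _ := hprod
  refine ⟨fun ψ => ?_, fun d hd hdS => ?_⟩
  · have htop : r.range = ⊤ := Subgroup.eq_top_of_le_card _
      (card_monoidHom_units_le.trans (hWcard.ge.trans hWS))
    obtain ⟨ℓ, hℓ⟩ : ψ ∈ r.range := by rw [htop]; trivial
    exact ⟨ℓ, ℓ.2, fun s hs => DFunLike.congr_fun hℓ ⟨s, hs⟩⟩
  · by_contra hcon
    push Not at hcon
    let W' : AddSubgroup (Fin n → ZMod l) := W ⊔ AddSubgroup.zmultiples (cls d)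
    have hsub : ∀ ℓ : r.ker, ((ℓ : L) : V ≃ₗ[K] V) ∈ annih D x cls W' := by
      intro ℓ
      refine ⟨(ℓ : L).2, fun e he heW => ?_⟩
      refine ((cmt_eq_one_iff hA.heis he (ℓ : L).2.1).1 ?_).symm
      obtain ⟨w, ⟨s, hs, rfl⟩, _, ⟨k, rfl⟩, hsum⟩ := AddSubgroup.mem_sup.1 heW
      have hs1 : ∀ t ∈ S, cmt t ((ℓ : L) : V ≃ₗ[K] V) = 1 := fun t ht =>
        DFunLike.congr_fun ℓ.2 ⟨t, ht⟩
      have hd1 : cmt d ((ℓ : L) : V ≃ₗ[K] V) = 1 := hcon _ (ℓ : L).2 hs1
      obtain ⟨k', hk'⟩ : ∃ k' : ℕ, k • cls d = k' • cls d :=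
        ⟨((k : ZMod l)).val, by
          funext i
          rw [Pi.smul_apply, Pi.smul_apply, zsmul_eq_mul, nsmul_eq_mul, ZMod.natCast_zmod_val]⟩
      have hcle : cls e = cls (s * d ^ k') := by
        rw [hadd _ (hSD hs) _ (_root_.pow_mem hd _), ← hsum, show (fun x : ℤ => x • cls d) k = k • cls d from rfl, hk']
        congr 1
        clear hk' hsum
        induction k' with
        | zero => rw [zero_nsmul, pow_zero, cls_one cls hA hx hadd hsurj hker]
        | succ k' ih => rw [succ_nsmul, ih, pow_succ, hadd _ (_root_.pow_mem hd _) _ hd]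
      rw [cmt_of_cls cls hA hx hadd hsurj hker he (mul_mem (hSD hs) (_root_.pow_mem hd _))
          (ℓ : L).2 hcle,
        cmt_mul_left hA.heis (hSD hs) (_root_.pow_mem hd _) (ℓ : L).2.1, hs1 s hs,
        cmt_pow_left hA.heis hd (ℓ : L).2.1, hd1, one_pow, one_mul]
    have h1 : Nat.card r.ker ≤ W'.index := by
      refine le_trans ?_ (card_annih_le cls hA hx hadd hsurj hker W')
      rw [← Nat.card_coe_set_eq]
      exact Nat.card_le_card_of_injective (fun ℓ => ⟨_, hsub ℓ⟩)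
        fun a b e => Subtype.ext (Subtype.ext (congrArg Subtype.val e :))
    have hWW' : W < W' := lt_of_le_of_ne le_sup_left fun e => by
      have : cls d ∈ W := e ▸ (AddSubgroup.mem_sup_right (AddSubgroup.mem_zmultiples (cls d)) :
        cls d ∈ W')
      obtain ⟨s, hs, hsd⟩ := this
      exact hdS s hs hsd
    have h2 : Nat.card W < Nat.card W' := by
      refine lt_of_le_of_ne (AddSubgroup.card_le_of_le hWW'.le) fun e => hWW'.ne ?_
      exact AddSubgroup.eq_of_le_of_card_ge hWW'.le e.ge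
    have h3 : Nat.card W' * W'.index = l ^ n := by
      rw [AddSubgroup.card_mul_index]
      simp [Nat.card_fun, Nat.card_zmod]
    rw [hkereq] at h1
    have h4 : Nat.card W * W.index < Nat.card W' * W'.index := by
      refine lt_of_le_of_lt (Nat.mul_le_mul_left _ h1) (Nat.mul_lt_mul_of_pos_right h2 ?_)
      exact Nat.pos_of_ne_zero AddSubgroup.index_ne_zero_of_finite
    omega

end Section

theorem neg_one_of_pow_two {c : Kˣ} (h : c ^ 2 = 1) (h1 : c ≠ 1) : c = -1 := by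
  have h2 : ((c : K) - 1) * ((c : K) + 1) = 0 := by
    have h3 := congrArg Units.val h
    simp only [Units.val_pow_eq_pow_val, Units.val_one] at h3
    linear_combination h3
  refine Units.ext ?_
  rcases mul_eq_zero.1 h2 with h4 | h4
  · exact absurd (Units.ext (sub_eq_zero.1 h4)) h1
  · rw [Units.val_neg, Units.val_one]
    exact eq_neg_of_add_eq_zero_left h4

/-- The monomial structure exists. -/
theorem AIrr.exists_mono (hA : AIrr D l) (hl : l.Prime) : Nonempty (Mono D l) := by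
  classical
  haveI := Fact.mk hl
  obtain ⟨x, hx, hmax⟩ := exists_max_stab D
  set L := stabD D x with hL
  obtain ⟨n, cls, hadd, hsurj, hker, hcard⟩ := hA.exists_cls hl hx
  have hone := cls_one cls hA hx hadd hsurj hker
  have hinv := fun {d : V ≃ₗ[K] V} (hd : d ∈ D) => cls_inv cls hA hx hadd hsurj hker hd
  have hcmt := fun {d e ℓ : V ≃ₗ[K] V} (hd : d ∈ D) (he : e ∈ D) (hℓ : ℓ ∈ stabD D x)
    (h : cls d = cls e) => cmt_of_cls cls hA hx hadd hsurj hker hd he hℓ h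
  have hLcls : ∀ ℓ ∈ L, cls ℓ = 0 := fun ℓ hℓ =>
    (hker ℓ hℓ.1).2 fun ℓ' hℓ' => hA.stab_commute hx hℓ hℓ'
  obtain ⟨S, ⟨hSD, hSc, hSl, hSi⟩, hSmax⟩ := (Set.toFinite {S : Subgroup (V ≃ₗ[K] V) | S ≤ D ∧
      (∀ a ∈ S, ∀ b ∈ S, Commute a b) ∧ (∀ s ∈ S, s ^ l = 1) ∧
      ∀ s ∈ S, cls s = 0 → s = 1}).exists_maximal
    ⟨⊥, bot_le, fun a ha b hb => by rw [Subgroup.mem_bot.1 ha]; exact Commute.one_left b,
      fun s hs => by rw [Subgroup.mem_bot.1 hs, one_pow], fun s hs _ => Subgroup.mem_bot.1 hs⟩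
  obtain ⟨hext, hsep⟩ := exists_dual cls hA hx hadd hsurj hker hcard S hSD hSc hSi
  -- the section is onto
  have honto : ∀ w, ∃ s ∈ S, cls s = w := by
    intro w
    by_contra hcon
    push Not at hcon
    obtain ⟨d0, hd0, hcl0⟩ := hsurj w
    let ψ : S →* Kˣ :=
      { toFun := fun s => (cmt (s : V ≃ₗ[K] V) d0)⁻¹
        map_one' := by rw [OneMemClass.coe_one, cmt_one_left hA.heis hd0, inv_one]
        map_mul' := fun a b => by
          rw [Subgroup.coe_mul, cmt_mul_left hA.heis (hSD a.2) (hSD b.2) hd0, mul_inv] }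
    obtain ⟨ℓ1, hℓ1, hℓ1ψ⟩ := hext ψ
    obtain ⟨c, hc⟩ := hA.norm d0 hd0
    set d1 := scal c * d0 * ℓ1 with hd1
    have hcd0 : scal c * d0 ∈ D := mul_mem (hA.heis.scal_mem c) hd0
    have hd1D : d1 ∈ D := mul_mem hcd0 hℓ1.1
    have hclscal : cls (scal c * d0) = w := by
      rw [hadd _ (hA.heis.scal_mem c) _ hd0,
        (hker _ (hA.heis.scal_mem c)).2 fun ℓ _ => (scal_comm c ℓ).symm, zero_add, hcl0]
    have hcl1 : cls d1 = w := by rw [hadd _ hcd0 _ hℓ1.1, hclscal, hLcls ℓ1 hℓ1, add_zero]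
    have hcs : ∀ s ∈ S, cmt s d1 = 1 := fun s hs => by
      rw [cmt_mul_right hA.heis (hSD hs) hcd0 hℓ1.1,
        cmt_mul_right hA.heis (hSD hs) (hA.heis.scal_mem c) hd0, hℓ1ψ s hs,
        (cmt_eq_one_iff hA.heis (hSD hs) (hA.heis.scal_mem c)).2 (scal_comm c s).symm, one_mul]
      exact mul_inv_cancel _
    obtain ⟨d, hdD, hdcl, hdS, hdl⟩ : ∃ d ∈ D, cls d = w ∧ (∀ s ∈ S, cmt s d = 1) ∧ d ^ l = 1 := by
      have hll : ℓ1 ^ l = 1 := hA.stab_pow hx hℓ1
      by_cases hodd : l = 2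
      · subst hodd
        have hsq : d1 ^ 2 = 1 ∨ d1 ^ 2 = scal (-1) := by
          have hk : cmt (scal c * d0) ℓ1 = 1 ∨ cmt (scal c * d0) ℓ1 = -1 := by
            by_cases h : cmt (scal c * d0) ℓ1 = 1
            · exact Or.inl h
            · exact Or.inr (neg_one_of_pow_two (hA.cmt_pow hcd0 hℓ1.1) h)
          have hp : d1 ^ 2 = scal (cmt (scal c * d0) ℓ1) * ((scal c * d0) ^ 2) := by
            rw [hd1, mul_pow_cmt hA.heis hcd0 hℓ1.1 2, hll, mul_one]
            norm_num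
          rcases hc with h | ⟨-, h⟩ <;> rcases hk with k | k <;> rw [hp, h, k]
          · left; rw [map_one, one_mul]
          · right; rw [mul_one]
          · right; rw [map_one, one_mul]
          · left; rw [← map_mul, neg_mul_neg, one_mul, map_one]
        rcases hsq with h | h
        · exact ⟨d1, hd1D, hcl1, hcs, h⟩
        · obtain ⟨ℓ2, hℓ2, hℓ2S, hℓ2d⟩ := hsep d1 hd1D fun s hs => by rw [hcl1]; exact hcon s hs
          refine ⟨d1 * ℓ2, mul_mem hd1D hℓ2.1, by rw [hadd _ hd1D _ hℓ2.1, hcl1, hLcls ℓ2 hℓ2,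
            add_zero], fun s hs => by
            rw [cmt_mul_right hA.heis (hSD hs) hd1D hℓ2.1, hcs s hs, hℓ2S s hs, one_mul], ?_⟩
          have h2 := neg_one_of_pow_two (hA.cmt_pow hd1D hℓ2.1) hℓ2d
          rw [mul_pow_cmt hA.heis hd1D hℓ2.1 2, h, hA.stab_pow hx hℓ2, mul_one]
          norm_num
          rw [h2, ← map_mul, neg_mul_neg, one_mul, map_one]
      · have hlodd : Odd l := hl.odd_of_ne_two hodd
        refine ⟨d1, hd1D, hcl1, hcs, ?_⟩
        rw [hd1, mul_pow_odd hA.heis hcd0 hℓ1.1 hlodd (hA.cmt_pow hcd0 hℓ1.1), hll, mul_one]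
        exact hc.resolve_right fun h => hodd h.1
    have hdc : ∀ s ∈ S, Commute d s := fun s hs =>
      (cmt_eq_one_iff hA.heis (hSD hs) hdD).1 (hdS s hs)
    let S' : Subgroup (V ≃ₗ[K] V) :=
      { carrier := {g | ∃ s ∈ S, ∃ k : ℤ, g = s * d ^ k}
        one_mem' := ⟨1, one_mem S, 0, by simp⟩
        mul_mem' := by
          rintro _ _ ⟨s, hs, i, rfl⟩ ⟨t, ht, j, rfl⟩
          refine ⟨s * t, mul_mem hs ht, i + j, ?_⟩
          calc s * d ^ i * (t * d ^ j) = s * (d ^ i * t) * d ^ j := by group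
            _ = s * (t * d ^ i) * d ^ j := by rw [((hdc t ht).zpow_left i).eq]
            _ = s * t * d ^ (i + j) := by rw [zpow_add]; group
        inv_mem' := by
          rintro _ ⟨s, hs, i, rfl⟩
          refine ⟨s⁻¹, inv_mem hs, -i, ?_⟩
          rw [mul_inv_rev, ← zpow_neg]
          exact ((hdc _ (inv_mem hs)).zpow_left (-i)).eq }
    have hS'le : S ≤ S' := fun s hs => ⟨s, hs, 0, by simp⟩
    have hdzl : ∀ k : ℤ, (d ^ k) ^ l = 1 := fun k => by
      rw [← zpow_natCast, ← zpow_mul, mul_comm, zpow_mul, zpow_natCast, hdl, one_zpow]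
    have hmem : S' ∈ {S : Subgroup (V ≃ₗ[K] V) | S ≤ D ∧ (∀ a ∈ S, ∀ b ∈ S, Commute a b) ∧
        (∀ s ∈ S, s ^ l = 1) ∧ ∀ s ∈ S, cls s = 0 → s = 1} := by
      refine ⟨?_, ?_, ?_, ?_⟩
      · rintro _ ⟨s, hs, k, rfl⟩
        exact mul_mem (hSD hs) (zpow_mem hdD k)
      · rintro _ ⟨s, hs, i, rfl⟩ _ ⟨t, ht, j, rfl⟩
        exact ((hSc s hs t ht).mul_right ((hdc s hs).symm.zpow_right j)).mul_left
          ((((hdc t ht).zpow_left i)).mul_right ((Commute.refl d).zpow_zpow i j))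
      · rintro _ ⟨s, hs, k, rfl⟩
        rw [((hdc s hs).symm.zpow_right k).mul_pow, hSl s hs, hdzl, one_mul]
      · rintro _ ⟨s, hs, k, rfl⟩ h0
        set j := ((k : ZMod l)).val with hj
        have hzp : d ^ k = d ^ j := by
          rw [← zpow_natCast]
          refine zpow_eq_zpow_iff_modEq.2 ?_
          refine Int.ModEq.of_dvd (Int.natCast_dvd_natCast.2 (orderOf_dvd_of_pow_eq_one hdl)) ?_
          rw [hj, ← ZMod.intCast_eq_intCast_iff, Int.cast_natCast, ZMod.natCast_zmod_val]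
        have hclsp : ∀ i : ℕ, cls (d ^ i) = i • w := by
          intro i
          induction i with
          | zero => rw [pow_zero, hone, zero_nsmul]
          | succ i ih => rw [pow_succ, hadd _ (_root_.pow_mem hdD _) _ hdD, ih, hdcl, succ_nsmul]
        rw [hzp, hadd _ (hSD hs) _ (_root_.pow_mem hdD _), hclsp] at h0
        by_cases hk : (k : ZMod l) = 0
        · rw [hk, ZMod.val_zero] at hj
          rw [hj, zero_nsmul, add_zero] at h0
          rw [hzp, hj, pow_zero, mul_one]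
          exact hSi s hs h0
        · exfalso
          set i := ((k : ZMod l))⁻¹.val
          have hclss : ∀ i : ℕ, cls (s⁻¹ ^ i) = i • -cls s := by
            intro i
            induction i with
            | zero => rw [pow_zero, hone, zero_nsmul]
            | succ i ih =>
              rw [pow_succ, hadd _ (_root_.pow_mem (inv_mem (hSD hs)) _) _ (inv_mem (hSD hs)), ih,
                hinv (hSD hs), succ_nsmul]
          refine hcon (s⁻¹ ^ i) (_root_.pow_mem (inv_mem hs) i) ?_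
          rw [hclss, show -cls s = j • w from neg_eq_of_add_eq_zero_right h0]
          funext m
          rw [Pi.smul_apply, Pi.smul_apply, nsmul_eq_mul, nsmul_eq_mul, hj, ZMod.natCast_zmod_val,
            ZMod.natCast_zmod_val, ← mul_assoc, inv_mul_cancel₀ hk, one_mul]
    have hle : S' ≤ S := hSmax hmem hS'le
    exact hcon d (hle ⟨1, one_mem S, 1, by simp⟩) hdcl
  choose dW hdWS hdWcl using honto
  have huniq : ∀ a ∈ S, ∀ b ∈ S, cls a = cls b → a = b := fun a ha b hb e => by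
    have h1 : cls (b⁻¹ * a) = 0 := by
      rw [hadd _ (inv_mem (hSD hb)) _ (hSD ha), hinv (hSD hb), e, neg_add_cancel]
    exact (inv_mul_eq_one.1 (hSi _ (mul_mem (inv_mem hb) ha) h1)).symm
  have hdWadd : ∀ v w, dW (v + w) = dW v * dW w := fun v w =>
    huniq _ (hdWS _) _ (mul_mem (hdWS v) (hdWS w))
      (by rw [hdWcl, hadd _ (hSD (hdWS v)) _ (hSD (hdWS w)), hdWcl, hdWcl])
  refine ⟨{ n := n, x := x, x_ne := hx, max := ?_, dW := dW, dW_mem := fun w => hSD (hdWS w),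
            dW_add := hdWadd, decomp := ?_, char_inj := ?_, dual := ?_ }⟩
  · intro z hz hz0
    have hle : stabD D x ≤ stabD D z := fun ℓ hℓ => ⟨hℓ.1, hz ℓ hℓ⟩
    exact (Subgroup.eq_of_le_of_card_ge hle (hmax z hz0)).symm
  · intro d hd
    set k := (dW (cls d))⁻¹ * d with hk
    have hkD : k ∈ D := mul_mem (inv_mem (hSD (hdWS _))) hd
    have hkcl : cls k = 0 := by
      rw [hadd _ (inv_mem (hSD (hdWS _))) _ hd, hinv (hSD (hdWS _)), hdWcl, neg_add_cancel]
    let ψ : S →* Kˣ :=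
      { toFun := fun s => (cmt (s : V ≃ₗ[K] V) k)⁻¹
        map_one' := by rw [OneMemClass.coe_one, cmt_one_left hA.heis hkD, inv_one]
        map_mul' := fun a b => by
          rw [Subgroup.coe_mul, cmt_mul_left hA.heis (hSD a.2) (hSD b.2) hkD, mul_inv] }
    obtain ⟨ℓ, hℓ, hℓψ⟩ := hext ψ
    refine ⟨cls d, k * ℓ, ℓ⁻¹, mul_mem hkD hℓ.1, fun ℓ' hℓ' => ?_, fun w' => ?_, inv_mem hℓ, ?_⟩
    · exact ((hker k hkD).1 hkcl ℓ' hℓ').mul_left (hA.stab_commute hx hℓ hℓ')
    · refine (cmt_eq_one_iff hA.heis (hSD (hdWS w')) (mul_mem hkD hℓ.1)).1 ?_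
      rw [cmt_mul_right hA.heis (hSD (hdWS w')) hkD hℓ.1, hℓψ _ (hdWS w')]
      exact mul_inv_cancel _
    · rw [hk]; group
  · intro w hw
    rw [← hdWcl w]
    exact (hker _ (hSD (hdWS w))).2 hw
  · intro ψ hψ
    let ψ' : S →* Kˣ :=
      { toFun := fun s => ψ (cls (s : V ≃ₗ[K] V))
        map_one' := by
          have h := hψ 0 0
          rw [add_zero, left_eq_mul] at h
          rw [OneMemClass.coe_one, hone, h]
        map_mul' := fun a b => by rw [Subgroup.coe_mul, hadd _ (hSD a.2) _ (hSD b.2), hψ] }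
    obtain ⟨ℓ, hℓ, hℓψ⟩ := hext ψ'
    refine ⟨ℓ, hℓ, fun w => ?_⟩
    rw [hℓψ _ (hdWS w)]
    exact congrArg ψ (hdWcl w)

end CfsgLib.Char.CoprimeBase
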