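import Cfsg.Agent.Lib.Char.CoprimeBase.Pairs
import Cfsg.Agent.Lib.Char.CoprimeBase.RLemma
import Cfsg.Agent.Lib.Char.CoprimeBase.Colour

/-!
# The action on `D` modulo scalars in index two, and the exclusion of tiny cases
-/

set_option autoImplicit false
set_option linter.unusedSectionVars false
set_option linter.style.haveILetI false

namespace CfsgLib.Char.CoprimeBase

open CfsgLib.Char.OddBase

universe u

variable {K V : Type u} [Field K] [AddCommGroup V] [Module K V] [Finite V] [Nontrivial V]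
  {D G : Subgroup (V ≃ₗ[K] V)} {M : Type} [AddCommGroup M]

/-- Representatives of `D` modulo scalars indexed by an abelian group. -/
structure Param (D : Subgroup (V ≃ₗ[K] V)) (M : Type) [AddCommGroup M] where
  /-- the representatives -/
  e : M → V ≃ₗ[K] V
  mem : ∀ a, e a ∈ D
  cover : ∀ d ∈ D, ∃ a, ∃ c : Kˣ, d = scal c * e a
  inj : ∀ a b : M, ∀ c : Kˣ, e a = scal c * e b → a = b
  add : ∀ a b : M, ∃ c : Kˣ, e (a + b) = scal c * (e a * e b)

namespace Param

variable (P : Param D M)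

/-- The indices of classes containing an element with trivial square. -/
def sing : Set M := {a | ∃ c : Kˣ, (scal c * P.e a) ^ 2 = 1}

theorem zero_mem_scalars : P.e 0 ∈ scalars K V := by
  obtain ⟨c, hc⟩ := P.add 0 0
  rw [add_zero, ← mul_assoc] at hc
  refine ⟨c⁻¹, ?_⟩
  have h1 : scal c * P.e 0 = 1 := mul_eq_right.1 hc.symm
  rw [map_inv]
  exact inv_eq_of_mul_eq_one_right h1

/-- The index of the conjugate. -/
theorem exists_index (hD : ∀ g ∈ G, ∀ d ∈ D, g * d * g⁻¹ ∈ D) (g : G) (a : M) :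
    ∃ b, ∃ c : Kˣ, (g : V ≃ₗ[K] V) * P.e a * (g : V ≃ₗ[K] V)⁻¹ = scal c * P.e b :=
  P.cover _ (hD g g.2 _ (P.mem a))

variable {hD : ∀ g ∈ G, ∀ d ∈ D, g * d * g⁻¹ ∈ D}

theorem index_unique {x : V ≃ₗ[K] V} {a b : M} {c c' : Kˣ} (h : x = scal c * P.e a)
    (h' : x = scal c' * P.e b) : a = b := by
  refine P.inj a b (c⁻¹ * c') ?_
  rw [map_mul, map_inv, mul_assoc, ← h', h, inv_mul_cancel_left]

/-- The induced endomorphism. -/
noncomputable def act1 (hD : ∀ g ∈ G, ∀ d ∈ D, g * d * g⁻¹ ∈ D) (g : G) : AddMonoid.End M :=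
  AddMonoidHom.mk' (fun a => Classical.choose (P.exists_index hD g a)) fun a b => by
    obtain ⟨c1, h1⟩ := Classical.choose_spec (P.exists_index hD g a)
    obtain ⟨c2, h2⟩ := Classical.choose_spec (P.exists_index hD g b)
    obtain ⟨c3, h3⟩ := Classical.choose_spec (P.exists_index hD g (a + b))
    set x := Classical.choose (P.exists_index hD g a)
    set y := Classical.choose (P.exists_index hD g b)
    obtain ⟨c4, h4⟩ := P.add a b
    obtain ⟨c5, h5⟩ := P.add x y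
    refine P.index_unique h3 (c' := c4 * c1 * c2 * c5⁻¹) ?_
    rw [h4, show (g : V ≃ₗ[K] V) * (scal c4 * (P.e a * P.e b)) * (g : V ≃ₗ[K] V)⁻¹ =
      scal c4 * (((g : V ≃ₗ[K] V) * P.e a * (g : V ≃ₗ[K] V)⁻¹) *
        ((g : V ≃ₗ[K] V) * P.e b * (g : V ≃ₗ[K] V)⁻¹)) by
      rw [← mul_assoc (g : V ≃ₗ[K] V), scal_comm c4 (g : V ≃ₗ[K] V)]; group, h1, h2, h5]
    simp only [map_mul, map_inv]
    rw [show scal c1 * P.e x * (scal c2 * P.e y) = scal c1 * scal c2 * (P.e x * P.e y) by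
      rw [← mul_assoc (scal c1 * P.e x), mul_assoc (scal c1), scal_comm c2 (P.e x)]; group]
    group

theorem act1_spec (g : G) (a : M) :
    ∃ c : Kˣ, (g : V ≃ₗ[K] V) * P.e a * (g : V ≃ₗ[K] V)⁻¹ = scal c * P.e (P.act1 hD g a) :=
  Classical.choose_spec (P.exists_index hD g a)

/-- The action on indices. -/
noncomputable def actHom (hD : ∀ g ∈ G, ∀ d ∈ D, g * d * g⁻¹ ∈ D) : G →* AddMonoid.End M where
  toFun := P.act1 hD
  map_one' := AddMonoidHom.ext fun a => by
    obtain ⟨c, hc⟩ := P.act1_spec (hD := hD) 1 a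
    exact P.index_unique hc (c' := 1) (by simp; rfl)
  map_mul' g h := AddMonoidHom.ext fun a => by
    obtain ⟨c, hc⟩ := P.act1_spec (hD := hD) (g * h) a
    obtain ⟨c1, h1⟩ := P.act1_spec (hD := hD) h a
    obtain ⟨c2, h2⟩ := P.act1_spec (hD := hD) g (P.act1 hD h a)
    refine P.index_unique hc (c' := c1 * c2) ?_
    rw [Subgroup.coe_mul, show (g : V ≃ₗ[K] V) * (h : V ≃ₗ[K] V) * P.e a *
      ((g : V ≃ₗ[K] V) * (h : V ≃ₗ[K] V))⁻¹ = (g : V ≃ₗ[K] V) *
        ((h : V ≃ₗ[K] V) * P.e a * (h : V ≃ₗ[K] V)⁻¹) * (g : V ≃ₗ[K] V)⁻¹ by group, h1,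
      ← mul_assoc (g : V ≃ₗ[K] V), scal_comm c1 (g : V ≃ₗ[K] V), map_mul, mul_assoc, mul_assoc,
      ← mul_assoc (g : V ≃ₗ[K] V), h2, ← mul_assoc]
    rfl

/-- The group induced on indices. -/
noncomputable def image (hD : ∀ g ∈ G, ∀ d ∈ D, g * d * g⁻¹ ∈ D) : Subgroup (AddMonoid.End M)ˣ :=
  (P.actHom hD).toHomUnits.range

theorem mem_image (g : G) : (P.actHom hD).toHomUnits g ∈ P.image hD := ⟨g, rfl⟩

theorem image_smul (g : G) (a : M) :
    (⟨(P.actHom hD).toHomUnits g, P.mem_image g⟩ : P.image hD) • a = P.act1 hD g a := rfl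

theorem sing_invariant (h : P.image hD) {a : M} (ha : a ∈ P.sing) : h • a ∈ P.sing := by
  obtain ⟨_, g, rfl⟩ := h
  obtain ⟨c1, h1⟩ := P.act1_spec (hD := hD) g a
  obtain ⟨c, hc⟩ := ha
  refine ⟨c * c1, ?_⟩
  show (scal (c * c1) * P.e (P.act1 hD g a)) ^ 2 = 1
  rw [map_mul, mul_assoc, ← h1, ← mul_assoc (scal c), ← mul_assoc (scal c),
    ← scal_comm c (g : V ≃ₗ[K] V), mul_assoc (g : V ≃ₗ[K] V), conj_pow, hc, mul_one, mul_inv_cancel]

/-- The group induced on indices is irreducible. -/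
theorem image_irr (hS : scalars K V ≤ D) [Nontrivial M] (h2M : ∀ a : M, a + a = 0)
    (hchief : ∀ R : Subgroup (V ≃ₗ[K] V), R ≤ D → scalars K V ≤ R →
      (∀ g ∈ G, ∀ d ∈ R, g * d * g⁻¹ ∈ R) → R = scalars K V ∨ R = D) :
    IsIrr (P.image hD) M := by
  refine ⟨inferInstance, fun U hU => ?_⟩
  let R : Subgroup (V ≃ₗ[K] V) :=
    { carrier := {d | ∃ a ∈ U, ∃ c : Kˣ, d = scal c * P.e a}
      one_mem' := by
        obtain ⟨c, hc⟩ := P.zero_mem_scalars
        exact ⟨0, zero_mem U, c⁻¹, by rw [← hc, ← map_mul, inv_mul_cancel, map_one]⟩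
      mul_mem' := by
        rintro x y ⟨a, ha, c, rfl⟩ ⟨b, hb, c', rfl⟩
        obtain ⟨c'', h⟩ := P.add a b
        refine ⟨a + b, add_mem ha hb, c * c' * c''⁻¹, ?_⟩
        rw [h, map_mul, map_mul, map_inv, show scal c * P.e a * (scal c' * P.e b) =
          scal c * (P.e a * scal c') * P.e b by group, scal_comm c' (P.e a)]
        group
      inv_mem' := by
        rintro x ⟨a, ha, c, rfl⟩
        obtain ⟨c'', h⟩ := P.add a a
        obtain ⟨c0, hc0⟩ := P.zero_mem_scalars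
        rw [h2M, ← hc0] at h
        refine ⟨a, ha, c⁻¹ * c'' * c0⁻¹, ?_⟩
        refine inv_eq_of_mul_eq_one_right ?_
        rw [map_mul, map_mul, show scal c * P.e a * (scal c⁻¹ * scal c'' * scal c0⁻¹ * P.e a) =
          scal c * (P.e a * (scal c⁻¹ * scal c'' * scal c0⁻¹)) * P.e a by group,
          ← map_mul, ← map_mul, scal_comm _ (P.e a), show scal c * (scal (c⁻¹ * c'' * c0⁻¹) * P.e a) *
          P.e a = scal c * scal (c⁻¹ * c'' * c0⁻¹) * (P.e a * P.e a) by group, ← map_mul,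
          show c * (c⁻¹ * c'' * c0⁻¹) = c0⁻¹ * c'' by rw [mul_comm c0⁻¹]; group, map_mul, mul_assoc,
          ← h, ← map_mul, inv_mul_cancel, map_one] }
  rcases hchief R (by
      rintro x ⟨a, -, c, rfl⟩
      exact mul_mem (hS ⟨c, rfl⟩) (P.mem a))
    (by
      rintro x ⟨c, rfl⟩
      obtain ⟨c0, hc0⟩ := P.zero_mem_scalars
      exact ⟨0, zero_mem U, c * c0⁻¹, by rw [map_mul, mul_assoc, ← hc0, ← map_mul, inv_mul_cancel,
        map_one, mul_one]⟩)
    (by
      rintro g hg x ⟨a, ha, c, rfl⟩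
      obtain ⟨c1, h1⟩ := P.act1_spec (hD := hD) ⟨g, hg⟩ a
      refine ⟨P.act1 hD ⟨g, hg⟩ a, hU ⟨_, P.mem_image ⟨g, hg⟩⟩ a ha, c * c1, ?_⟩
      rw [← mul_assoc g, scal_comm c g, map_mul, mul_assoc (scal c) (scal c1), ← h1]
      group) with e | e
  · refine Or.inl ((AddSubgroup.eq_bot_iff_forall _).2 fun a ha => ?_)
    have h1 : P.e a ∈ R := ⟨a, ha, 1, by simp⟩
    rw [e] at h1
    obtain ⟨c, hc⟩ := h1
    obtain ⟨c0, hc0⟩ := P.zero_mem_scalars
    refine P.inj a 0 (c * c0⁻¹) ?_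
    rw [map_mul, mul_assoc, ← hc0, ← map_mul, inv_mul_cancel, map_one, mul_one, hc]
  · refine Or.inr ((AddSubgroup.eq_top_iff' _).2 fun a => ?_)
    have h1 : P.e a ∈ R := by rw [e]; exact P.mem a
    obtain ⟨b, hb, c, hc⟩ := h1
    rwa [P.inj a b c hc]

/-- A prime dividing both `|M| - 1` and the number of non-zero singular indices, and a normal
subgroup of its power order without fixed points. -/
theorem exists_prime_data {p : ℕ} [Finite M] [Group.IsSolvable G] [Finite G]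
    (hG : ¬ p ∣ Nat.card G) (hS : scalars K V ≤ D) (hM : 2 < Nat.card M) (h2M : ∀ a : M, a + a = 0)
    (hchief : ∀ R : Subgroup (V ≃ₗ[K] V), R ≤ D → scalars K V ≤ R →
      (∀ g ∈ G, ∀ d ∈ R, g * d * g⁻¹ ∈ R) → R = scalars K V ∨ R = D) :
    ∃ (r : ℕ) (R : Subgroup (P.image hD)), r.Prime ∧ r ≠ 2 ∧ r ≠ p ∧ R.Normal ∧ R ≠ ⊥ ∧
      IsPGroup r R ∧ (∀ v : M, (∀ g ∈ R, g • v = v) → v = 0) ∧ r ∣ Nat.card M - 1 ∧
      r ∣ (P.sing \ {0}).ncard := by
  haveI : Nontrivial M := Finite.one_lt_card_iff_nontrivial.1 (by omega)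
  haveI : Fact (Nat.Prime 2) := ⟨Nat.prime_two⟩
  have hirr := P.image_irr (hD := hD) hS h2M hchief
  haveI : Group.IsSolvable (P.image hD) := Group.isSolvable_of_surjective (P.actHom hD).toHomUnits.rangeRestrict_surjective
  haveI : Nontrivial (P.image hD) := by
    by_contra hne
    rw [not_nontrivial_iff_subsingleton] at hne
    obtain ⟨a, ha⟩ := exists_ne (0 : M)
    rcases hirr.2 (AddSubgroup.zmultiples a) (fun h v hv => by
        rw [Subsingleton.elim h 1, one_smul]; exact hv) with e | e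
    · exact ha (by simpa [e] using AddSubgroup.mem_zmultiples a)
    · have hc : Nat.card M ≤ 2 := by
        rw [← AddSubgroup.card_top, ← e, Nat.card_zmultiples]
        exact Nat.le_of_dvd two_pos (addOrderOf_dvd_of_nsmul_eq_zero (by rw [two_nsmul, h2M]))
      omega
  obtain ⟨r, R, hr, hr2, hrH, hRn, hR, hRp, hfix⟩ := exists_normal_rGroup (l := 2) hirr
    fun v => by rw [two_nsmul]; exact h2M v
  haveI := Fact.mk hr
  refine ⟨r, R, hr, hr2, ?_, hRn, hR, hRp, hfix, dvd_card_sub_one hRp hfix,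
    dvd_ncard_invariant hRp hfix _ (fun h => h.2 rfl) fun g _ v hv =>
      ⟨P.sing_invariant g hv.1, fun e => hv.2 ((smul_eq_zero_iff_eq g).1 e)⟩⟩
  rintro rfl
  exact hG (hrH.trans (Subgroup.card_range_dvd _))

end Param

section Build

variable {D : Subgroup (V ≃ₗ[K] V)} (m : Mono D 2) {u s : M → Bv m.n} {τ : M → V ≃ₗ[K] V}
  {ε : M → M → ZMod 2}

/-- Parameters from the monomial structure. -/
structure ParamData (u s : M → Bv m.n) (τ : M → V ≃ₗ[K] V) (ε : M → M → ZMod 2) : Prop where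
  u_add : ∀ a b, u (a + b) = u a + u b
  s_add : ∀ a b, s (a + b) = s a + s b
  τ_mem : ∀ a, τ a ∈ m.T
  τ_zero : ∀ z ∈ m.U0, τ 0 z = z
  τ_mul : ∀ a b, ∀ z ∈ m.U0, τ a (τ b z) = sgnK K (ε a b) • τ (a + b) z
  inj : ∀ a b, ∀ c : K, u a = u b → s a = s b → τ a m.x = c • τ b m.x → a = b
  cover : ∀ u0 s0, ∀ t ∈ m.T, ∃ a, ∃ c : K, u a = u0 ∧ s a = s0 ∧ ∀ z ∈ m.U0, t z = c • τ a z

variable {m} (hA : AIrr D 2) (h : ParamData m u s τ ε)

include hA h

theorem ParamData.apply (a : M) (w : Bv m.n) {z : V} (hz : z ∈ m.U0) :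
    m.stdE (u a) (τ a) (s a) (m.dW w z) = sgnK K (dotZ (s a) w) • m.dW (u a + w) (τ a z) :=
  m.stdE_apply hA (h.τ_mem a) _ _ _ hz

theorem ParamData.apply_apply (a b : M) (w : Bv m.n) {z : V} (hz : z ∈ m.U0) :
    m.stdE (u a) (τ a) (s a) (m.stdE (u b) (τ b) (s b) (m.dW w z)) =
      sgnK K (dotZ (s a) (u b) + ε a b) •
        m.stdE (u (a + b)) (τ (a + b)) (s (a + b)) (m.dW w z) := by
  rw [h.apply hA b w hz, LinearEquiv.map_smul, h.apply hA a _ (m.T_mapsTo (h.τ_mem b) hz),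
    h.τ_mul a b z hz, LinearEquiv.map_smul, h.apply hA _ w hz, h.u_add, h.s_add, dotZ_add_left,
    dotZ_add_right, add_assoc (u a), smul_smul, smul_smul, smul_smul]
  congr 1
  rw [sgnK_add, sgnK_add, sgnK_add]
  ring

/-- The parametrisation. -/
noncomputable def ParamData.param (h2 : (2 : K) ≠ 0) : Param D M where
  e a := m.stdE (u a) (τ a) (s a)
  mem a := m.stdE_mem hA (h.τ_mem a) _ _
  cover d hd := by
    haveI : Fact (Nat.Prime 2) := ⟨Nat.prime_two⟩
    obtain ⟨u0, s0, t, ht, hdw⟩ := m.exists_stdE hA hd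
    obtain ⟨a, c, rfl, rfl, hc⟩ := h.cover u0 s0 t ht
    have hc0 : c ≠ 0 := fun e => m.x_ne (by
      have h1 := hc m.x m.x_mem
      rw [e, zero_smul, LinearEquiv.map_eq_zero_iff] at h1
      exact h1)
    refine ⟨a, Units.mk0 c hc0, m.hom_ext_translates hA fun w z hz => ?_⟩
    rw [scal_mul_apply, h.apply hA a w hz, hdw w z hz, hc z hz, LinearEquiv.map_smul, smul_smul,
      smul_smul, Units.val_mk0, mul_comm]
  inj a b c e := by
    haveI : Fact (Nat.Prime 2) := ⟨Nat.prime_two⟩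
    have hw : ∀ w, sgnK K (dotZ (s a) w) • m.dW (u a + w) (τ a m.x) =
        ((c : K) * sgnK K (dotZ (s b) w)) • m.dW (u b + w) (τ b m.x) := fun w => by
      rw [← h.apply hA a w m.x_mem, mul_smul, ← h.apply hA b w m.x_mem, e, scal_mul_apply]
    have h0 := hw 0
    simp only [dotZ_zero, sgnK_zero, add_zero, one_smul, mul_one] at h0
    rw [← LinearEquiv.map_smul] at h0
    have hne : τ a m.x ≠ 0 := fun e' => m.x_ne ((τ a).map_eq_zero_iff.1 e')
    have hu : u a = u b := m.translate_eq hA (m.T_mapsTo (h.τ_mem a) m.x_mem)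
      (m.U0.smul_mem _ (m.T_mapsTo (h.τ_mem b) m.x_mem)) hne h0
    rw [hu] at h0
    have hτ := (m.dW (u b)).injective h0
    refine h.inj a b c hu (funext fun i => ?_) hτ
    have h1 := hw (Pi.single i 1)
    rw [hu, dotZ_single, dotZ_single, mul_comm, mul_smul,
      ← LinearEquiv.map_smul (m.dW (u b + Pi.single i 1)) (c : K), ← hτ] at h1
    exact sgnK_injective h2
      (smul_left_injective K (fun e' => hne ((m.dW _).map_eq_zero_iff.1 e')) h1)
  add a b := by
    haveI : Fact (Nat.Prime 2) := ⟨Nat.prime_two⟩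
    refine ⟨sgnU K (dotZ (s a) (u b) + ε a b), m.hom_ext_translates hA fun w z hz => ?_⟩
    rw [scal_mul_apply, LinearEquiv.mul_apply, h.apply_apply hA a b w hz, sgnU_val, smul_smul,
      sgnK_mul_self, one_smul]

/-- Singular indices when `-1` is not a square. -/
theorem ParamData.sing_iff (h2 : (2 : K) ≠ 0) (hns : ¬ IsSquare (-1 : K))
    (h2M : ∀ a : M, a + a = 0) (a : M) :
    a ∈ (h.param hA h2).sing ↔ dotZ (s a) (u a) + ε a a = 0 := by
  haveI : Fact (Nat.Prime 2) := ⟨Nat.prime_two⟩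
  have hu0 : u 0 = 0 := by
    have := h.u_add 0 0
    rw [add_zero] at this
    exact left_eq_add.1 this
  have hs0 : s 0 = 0 := by
    have := h.s_add 0 0
    rw [add_zero] at this
    exact left_eq_add.1 this
  have hsq : ∀ c : Kˣ, ∀ w, ∀ z ∈ m.U0, ((scal c * m.stdE (u a) (τ a) (s a)) ^ 2 : V ≃ₗ[K] V)
      (m.dW w z) = ((c : K) ^ 2 * sgnK K (dotZ (s a) (u a) + ε a a)) • m.dW w z := by
    intro c w z hz
    rw [pow_two, LinearEquiv.mul_apply, scal_mul_apply, scal_mul_apply, LinearEquiv.map_smul,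
      h.apply_apply hA a a w hz, h.apply hA _ w hz, h2M, hu0, hs0, zero_add, h.τ_zero z hz,
      dotZ_comm 0, dotZ_zero, sgnK_zero, one_smul, smul_smul, smul_smul]
    ring_nf
  constructor
  · rintro ⟨c, hc⟩
    rcases zmod_two_cases (dotZ (s a) (u a) + ε a a) with e | e
    · exact e
    · exfalso
      have h1 := hsq c 0 m.x m.x_mem
      change (scal c * m.stdE (u a) (τ a) (s a)) ^ 2 = 1 at hc
      rw [hc, e, sgnK_one, m.dW_zero] at h1
      change m.x = ((c : K) ^ 2 * -1) • m.x at h1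
      rw [← sub_eq_zero] at h1
      have h2' : (1 - (c : K) ^ 2 * -1) • m.x = 0 := by rw [sub_smul, one_smul, h1]
      have h3 := (smul_eq_zero.1 h2').resolve_right m.x_ne
      exact hns ⟨c, by linear_combination -h3⟩
  · intro e
    refine ⟨1, m.hom_ext_translates hA fun w z hz => ?_⟩
    exact (hsq 1 w z hz).trans (by rw [e, sgnK_zero]; simp)

end Build

end CfsgLib.Char.CoprimeBase
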