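import Cfsg.Agent.Lib.Char.CoprimeBase.Mono
import Cfsg.Agent.Lib.Char.CoprimeBase.AffineColour

/-!
# Colourings without monomial symmetries, values in a field
-/

set_option autoImplicit false
set_option linter.unusedSectionVars false
set_option linter.style.haveILetI false

namespace CfsgLib.Char.CoprimeBase

universe u

variable {K : Type u} [Field K] {l n : ℕ}

theorem zmod_two_cases : ∀ z : ZMod 2, z = 0 ∨ z = 1 := by decide

/-- A monomial symmetry: a linear map with multipliers that are multiplicative up to a pairing. -/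
structure LSym (a : (Fin n → ZMod l) →+ (Fin n → ZMod l)) (τ : (Fin n → ZMod l) → K)
    (b : (Fin n → ZMod l) → (Fin n → ZMod l) → K) : Prop where
  inj : Function.Injective a
  τ_zero : τ 0 = 1
  b_left : ∀ u v w, b (u + v) w = b u w * b v w
  b_right : ∀ u v w, b u (v + w) = b u v * b u w
  b_pow : ∀ v w, b v w ^ l = 1
  τ_add : ∀ v w, τ (v + w) = b v w * (τ v * τ w)

/-- A colouring with trivial symmetry group exists. -/
def LineRigid (K : Type u) [Field K] (l n : ℕ) : Prop :=
  ∃ c : (Fin n → ZMod l) → K, c 0 = 1 ∧ ∀ a τ b, LSym a τ b → (∀ w, c (a w) = τ w * c w) →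
    (∀ w, a w = w) ∧ ∀ w, τ w = 1

variable {a : (Fin n → ZMod l) →+ (Fin n → ZMod l)} {τ : (Fin n → ZMod l) → K}
  {b : (Fin n → ZMod l) → (Fin n → ZMod l) → K}

theorem LSym.b_zero_left (h : LSym a τ b) [NeZero l] (w : Fin n → ZMod l) : b 0 w = 1 := by
  have h1 := h.b_left 0 0 w
  rw [add_zero] at h1
  have h0 : b 0 w ≠ 0 := fun e => by
    have := h.b_pow 0 w
    rw [e, zero_pow (NeZero.ne l)] at this
    exact zero_ne_one this
  exact (mul_eq_left₀ h0).1 h1.symm

theorem LSym.τ_nsmul (h : LSym a τ b) [NeZero l] (w : Fin n → ZMod l) :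
    ∀ k : ℕ, τ (k • w) = b w w ^ (k * (k - 1) / 2) * τ w ^ k := by
  have hb : ∀ k : ℕ, b (k • w) w = b w w ^ k := by
    intro k
    induction k with
    | zero => rw [zero_nsmul, pow_zero, h.b_zero_left]
    | succ k ih => rw [succ_nsmul, h.b_left, ih, pow_succ]
  intro k
  induction k with
  | zero => simp [h.τ_zero]
  | succ k ih =>
    rw [succ_nsmul, h.τ_add, hb, ih]
    have hk : (k + 1) * (k + 1 - 1) / 2 = k * (k - 1) / 2 + k := by
      rcases k with _ | k
      · rfl
      · rw [show (k + 1 + 1) * (k + 1 + 1 - 1) = (k + 1) * (k + 1 - 1) + (k + 1) * 2 by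
          simp only [Nat.add_sub_cancel]; ring, Nat.add_mul_div_right _ _ two_pos]
    rw [hk, pow_add, pow_succ]
    ring

theorem nsmul_l_eq_zero (w : Fin n → ZMod l) : l • w = 0 := by
  funext i
  rw [Pi.smul_apply, nsmul_eq_mul, ZMod.natCast_self, zero_mul, Pi.zero_apply]

theorem LSym.τ_ne_zero (h : LSym a τ b) [NeZero l] (w : Fin n → ZMod l) : τ w ≠ 0 := fun e => by
  have h1 := h.τ_nsmul w l
  rw [nsmul_l_eq_zero, h.τ_zero, e, zero_pow (NeZero.ne l), mul_zero] at h1
  exact one_ne_zero h1

theorem LSym.τ_pow_odd (h : LSym a τ b) [NeZero l] (hl : Odd l) (w : Fin n → ZMod l) :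
    τ w ^ l = 1 := by
  have h1 := h.τ_nsmul w l
  rw [nsmul_l_eq_zero, h.τ_zero] at h1
  obtain ⟨k, hk⟩ := hl
  rw [show l * (l - 1) / 2 = l * k by
    rw [show l - 1 = 2 * k by omega, mul_left_comm, Nat.mul_div_cancel_left _ two_pos],
    pow_mul, h.b_pow, one_pow, one_mul] at h1
  exact h1.symm

theorem LSym.τ_pow_four {a : Bv n →+ Bv n} {τ : Bv n → K} {b : Bv n → Bv n → K}
    (h : LSym a τ b) (w : Bv n) : τ w ^ 4 = 1 := by
  haveI : NeZero 2 := ⟨two_ne_zero⟩
  have h1 := h.τ_nsmul w 2
  rw [nsmul_l_eq_zero, h.τ_zero, show 2 * (2 - 1) / 2 = 1 from rfl, pow_one] at h1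
  linear_combination (norm := ring_nf) (-(b w w * τ w ^ 2 + 1)) * h1 - τ w ^ 4 * h.b_pow w w

theorem rigid_small (hn : n ≤ 1) (hl : l = 2 ∨ n = 0) : LineRigid K l n := by
  refine ⟨fun _ => 1, rfl, fun a τ b h hc => ⟨?_, fun w => by simpa using (hc w).symm⟩⟩
  rcases Nat.eq_zero_or_pos n with rfl | hn0
  · exact fun w => Subsingleton.elim _ _
  have hl2 : l = 2 := hl.resolve_right (by omega)
  subst hl2
  obtain rfl : n = 1 := by omega
  haveI : Fact (Nat.Prime 2) := ⟨Nat.prime_two⟩
  refine eq_id_of_bas fun i => ?_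
  funext j
  obtain rfl := Subsingleton.elim i j
  have hne : a (bas i) i ≠ 0 := fun e => bas_ne_zero i (h.inj (by
    rw [map_zero]; funext k; rw [Subsingleton.elim k i]; exact e))
  rw [bas_apply, if_pos rfl]
  exact zmod_two_eq_one _ hne

theorem bas_sub_apply (i j k : Fin n) :
    (bas i - bas j : Fin n → ZMod l) k = (if k = i then 1 else 0) - (if k = j then 1 else 0) := by
  rw [Pi.sub_apply, bas_apply, bas_apply]

/-- Odd `l`: a scalar `t` with `t ^ l ≠ 1` separates the classes. -/
theorem rigid_odd [Fact l.Prime] (hl : Odd l) {t : K} (ht0 : t ≠ 0) (ht : t ^ l ≠ 1) :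
    LineRigid K l n := by
  classical
  haveI : NeZero l := ⟨(Fact.out : l.Prime).ne_zero⟩
  have hlp := (Fact.out : l.Prime)
  have hl3 : 3 ≤ l := by
    have := hlp.two_le
    obtain ⟨k, hk⟩ := hl
    omega
  have n2 : (2 : ZMod l) ≠ 0 := fun e => by
    have := Nat.le_of_dvd two_pos ((ZMod.natCast_eq_zero_iff 2 l).1 (by exact_mod_cast e))
    omega
  have n21 : (2 : ZMod l) ≠ 1 := fun e => one_ne_zero (α := ZMod l) (by linear_combination e)
  rcases Nat.lt_or_ge n 2 with hn | hn
  · rcases Nat.eq_zero_or_pos n with rfl | hn0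
    · exact rigid_small (by omega) (Or.inr rfl)
    obtain rfl : n = 1 := by omega
    refine ⟨fun w => if w = bas 0 then t else 1, if_neg (bas_ne_zero (0 : Fin 1)).symm,
      fun a τ b h hc => ?_⟩
    have ha : a (bas 0) = bas 0 := by
      by_contra hne
      have h1 := hc (bas 0)
      dsimp only at h1
      rw [if_neg hne, if_pos rfl] at h1
      refine ht ?_
      have h2 : (τ (bas 0) * t) ^ l = 1 := by rw [← h1, one_pow]
      rwa [mul_pow, h.τ_pow_odd hl, one_mul] at h2
    have hid : ∀ w, a w = w := eq_id_of_bas fun i => by rw [Subsingleton.elim i 0]; exact ha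
    refine ⟨hid, fun w => ?_⟩
    have h1 := hc w
    rw [hid] at h1
    have hne : (if w = bas 0 then t else 1) ≠ 0 := by
      split
      · exact ht0
      · exact one_ne_zero
    exact (mul_eq_right₀ hne).1 h1.symm
  let B : (Fin n → ZMod l) → Prop := fun w => ∃ i, w = bas i
  let Ed : (Fin n → ZMod l) → Prop := fun w => ∃ i j : Fin n, (j : ℕ) = i + 1 ∧ w = bas i - bas j
  refine ⟨fun w => if B w then 0 else if Ed w then t else 1, ?_, fun a τ b h hc => ?_⟩
  · dsimp only
    rw [if_neg (fun hB : B 0 => bas_ne_zero _ hB.choose_spec.symm), if_neg]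
    rintro ⟨i, j, hij, e⟩
    have hne : i ≠ j := fun e' => by rw [e'] at hij; omega
    have := congrFun e i
    rw [bas_sub_apply, if_pos rfl, if_neg hne, Pi.zero_apply, sub_zero] at this
    exact zero_ne_one this
  have hτl := h.τ_pow_odd hl
  have hB : ∀ w, B w ↔ B (a w) := by
    intro w
    have h1 := hc w
    by_cases h2 : B w <;> by_cases h3 : B (a w) <;> simp only [h2, h3, if_true, if_false] at h1 ⊢
    · rw [mul_zero] at h1
      split_ifs at h1
      · exact (ht0 h1).elim
      · exact (one_ne_zero h1).elim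
    · have h4 := (mul_eq_zero.1 h1.symm).resolve_left (h.τ_ne_zero w)
      split_ifs at h4
      · exact (ht0 h4).elim
      · exact (one_ne_zero h4).elim
  choose σ hσ using fun i => (hB (bas i)).1 ⟨i, rfl⟩
  have hσinj : Function.Injective σ := fun i j e => bas_injective (h.inj (by rw [hσ, hσ, e]))
  have hnotB : ∀ i j : Fin n, i ≠ j → ¬ B (bas i - bas j) := by
    rintro i j hne ⟨k, e⟩
    have e1 := congrFun e j
    rw [bas_sub_apply, if_neg hne.symm, if_pos rfl, bas_apply] at e1
    split_ifs at e1
    · exact n2 (by linear_combination -e1)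
    · exact one_ne_zero (α := ZMod l) (by linear_combination -e1)
  have hstep : ∀ i j : Fin n, (j : ℕ) = i + 1 → (σ j : ℕ) = σ i + 1 := by
    intro i j hij
    have hne : i ≠ j := fun e => by rw [e] at hij; omega
    have h1 := hc (bas i - bas j)
    dsimp only at h1
    rw [map_sub, hσ, hσ, if_neg (hnotB _ _ (hσinj.ne hne)), if_neg (hnotB _ _ hne),
      if_pos (⟨i, j, hij, rfl⟩ : Ed (bas i - bas j))] at h1
    split_ifs at h1 with hE
    swap
    · refine absurd ?_ ht
      have h2 : (τ (bas i - bas j) * t) ^ l = 1 := by rw [← h1, one_pow]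
      rwa [mul_pow, hτl, one_mul] at h2
    obtain ⟨k, m, hkm, e⟩ := hE
    have e1 := congrFun e (σ i)
    have e2 := congrFun e (σ j)
    rw [bas_sub_apply, bas_sub_apply, if_pos rfl, if_neg (hσinj.ne hne), sub_zero] at e1
    rw [bas_sub_apply, bas_sub_apply, if_neg (hσinj.ne hne.symm), if_pos rfl, zero_sub] at e2
    have hk : σ i = k := by
      by_contra hk
      rw [if_neg hk] at e1
      split_ifs at e1
      · exact n2 (by linear_combination e1)
      · exact one_ne_zero (α := ZMod l) (by linear_combination e1)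
    rw [if_neg (fun e => hσinj.ne hne (hk.trans e.symm))] at e2
    have hm : σ j = m := by
      by_contra hm
      rw [if_neg hm] at e2
      exact one_ne_zero (α := ZMod l) (by linear_combination -e2)
    rw [hm, hk, hkm]
  have hid : ∀ w, a w = w := eq_id_of_bas fun i => by
    rw [← eq_of_succ hstep i]
    conv_lhs => rw [eq_of_succ hstep i]
    exact hσ i
  have hsupp : ∀ w, ¬ B w → τ w = 1 := fun w hw => by
    have h1 := hc w
    dsimp only at h1
    rw [hid, if_neg hw] at h1
    refine (mul_eq_right₀ ?_).1 h1.symm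
    split
    · exact ht0
    · exact one_ne_zero
  refine ⟨hid, fun w => ?_⟩
  by_cases hw : B w
  swap
  · exact hsupp w hw
  obtain ⟨j, rfl⟩ := hw
  haveI : Nontrivial (Fin n) := Fin.nontrivial_iff_two_le.2 hn
  obtain ⟨i, hij⟩ := exists_ne j
  have notB : ∀ (w : Fin n → ZMod l) (k : Fin n), w k ≠ 0 → w k ≠ 1 → ¬ B w := by
    rintro w k h0 h1 ⟨m, rfl⟩
    rw [bas_apply] at h0 h1
    split_ifs at h0 h1 <;> contradiction
  have s1 : τ (bas i + bas j) = 1 := hsupp _ fun ⟨k, e⟩ => by
    have e1 := congrFun e i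
    have e2 := congrFun e j
    simp only [Pi.add_apply, bas_apply, if_neg hij, if_neg hij.symm, if_true, add_zero, zero_add]
      at e1 e2
    rcases eq_or_ne i k with rfl | hk
    · rw [if_neg hij.symm] at e2
      exact one_ne_zero e2
    · rw [if_neg hk] at e1
      exact one_ne_zero e1
  have s2 : τ (bas i + bas i) = 1 := hsupp _ (notB _ i
    (by simp only [Pi.add_apply, bas_apply, if_true, one_add_one_eq_two]; exact n2)
    (by simp only [Pi.add_apply, bas_apply, if_true, one_add_one_eq_two]; exact n21))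
  have s3 : τ (bas j + bas j) = 1 := hsupp _ (notB _ j
    (by simp only [Pi.add_apply, bas_apply, if_true, one_add_one_eq_two]; exact n2)
    (by simp only [Pi.add_apply, bas_apply, if_true, one_add_one_eq_two]; exact n21))
  have s4 : τ ((bas i + bas i) + bas j) = 1 := hsupp _ (notB _ i
    (by simp only [Pi.add_apply, bas_apply, if_true, if_neg hij, add_zero, one_add_one_eq_two]; exact n2)
    (by simp only [Pi.add_apply, bas_apply, if_true, if_neg hij, add_zero, one_add_one_eq_two]; exact n21))
  have s5 : τ ((bas i + bas i) + (bas j + bas j)) = 1 := hsupp _ (notB _ i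
    (by simp only [Pi.add_apply, bas_apply, if_true, if_neg hij, add_zero, one_add_one_eq_two]; exact n2)
    (by simp only [Pi.add_apply, bas_apply, if_true, if_neg hij, add_zero, one_add_one_eq_two]; exact n21))
  set β := b (bas i) (bas j)
  have hβ2 : b (bas i + bas i) (bas j) = β * β := h.b_left _ _ _
  rw [h.τ_add _ (bas j), s2, hβ2, one_mul] at s4
  rw [h.τ_add _ (bas j + bas j), s2, s3, h.b_right, hβ2, mul_one, mul_one] at s5
  have hβ : β = 1 := by
    have h2 : β ^ 4 = 1 := by linear_combination s5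
    have hco : Nat.gcd l 4 = 1 := Nat.Coprime.pow_right 2 (Nat.coprime_two_right.2 hl)
    have h3 := pow_gcd_eq_one.2 ⟨h.b_pow (bas i) (bas j), h2⟩
    rwa [hco, pow_one] at h3
  rw [hβ, one_mul, one_mul] at s4
  exact s4

/-- The edges as a finite set. -/
def edgeFin (n : ℕ) : Finset (Finset ℕ) :=
  insert {0, 1, 3} ((Finset.range (n - 2)).image fun k => {k, k + 1, k + 2})

theorem mem_edgeFin {n : ℕ} (hn : 4 ≤ n) {s : Finset ℕ} : s ∈ edgeFin n ↔ Edge n s := by
  simp only [edgeFin, Edge, Finset.mem_insert, Finset.mem_image, Finset.mem_range]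
  constructor
  · rintro (h | ⟨k, hk, rfl⟩)
    · exact Or.inr h
    · exact Or.inl ⟨k, by omega, rfl⟩
  · rintro (⟨k, hk, rfl⟩ | h)
    · exact Or.inr ⟨k, by omega, rfl⟩
    · exact Or.inl h

/-- The indicator of "contains the edge". -/
def hasEdge (E A : Finset ℕ) : ZMod 2 := if E ⊆ A then 1 else 0

/-- The number of edges contained in a set, modulo two. -/
def edgeParity (n : ℕ) (A : Finset ℕ) : ZMod 2 := ∑ E ∈ edgeFin n, hasEdge E A

/-- The difference in one direction. -/
theorem hasEdge_step (E A : Finset ℕ) {i : ℕ} (hi : i ∉ A) :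
    hasEdge E A + hasEdge E (insert i A) = if i ∈ E then hasEdge E (insert i A) else 0 := by
  have h2 : ∀ z : ZMod 2, z + z = 0 := by decide
  by_cases hiE : i ∈ E
  · rw [if_pos hiE]
    have : hasEdge E A = 0 := if_neg fun h => hi (h hiE)
    rw [this, zero_add]
  · rw [if_neg hiE]
    have : hasEdge E (insert i A) = hasEdge E A := by
      simp only [hasEdge, Finset.subset_insert_iff_of_notMem hiE]
    rw [this, h2]

/-- The third difference of the parity detects the edge. -/
theorem edgeParity_cube {n : ℕ} (hn : 4 ≤ n) {p q i j k : ℕ}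
    (hd : [p, q, i, j, k].Nodup) :
    edgeParity n {p, q} + edgeParity n (insert i {p, q}) + edgeParity n (insert j {p, q}) +
      edgeParity n (insert j (insert i {p, q})) +
      (edgeParity n (insert k {p, q}) + edgeParity n (insert k (insert i {p, q})) +
      edgeParity n (insert k (insert j {p, q})) +
      edgeParity n (insert k (insert j (insert i {p, q})))) =
      if ({i, j, k} : Finset ℕ) ∈ edgeFin n then 1 else 0 := by
  classical
  simp only [List.nodup_cons, List.mem_cons, List.not_mem_nil, or_false, not_or,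
    List.nodup_nil, and_true] at hd
  obtain ⟨⟨hpq, hpi, hpj, hpk⟩, ⟨hqi, hqj, hqk⟩, ⟨hij, hik⟩, hjk⟩ := hd
  simp only [edgeParity, ← Finset.sum_add_distrib]
  rw [← Finset.sum_ite_eq' (edgeFin n) ({i, j, k} : Finset ℕ) (fun _ => (1 : ZMod 2))]
  refine Finset.sum_congr rfl fun E hE => ?_
  have hi1 : i ∉ ({p, q} : Finset ℕ) := by simp; omega
  have hi2 : i ∉ insert k ({p, q} : Finset ℕ) := by simp; omega
  have hj1 : j ∉ ({p, q} : Finset ℕ) := by simp; omega
  have hi3 : i ∉ insert j ({p, q} : Finset ℕ) := by simp; omega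
  have hi4 : i ∉ insert k (insert j ({p, q} : Finset ℕ)) := by simp; omega
  have hj2 : j ∉ insert i ({p, q} : Finset ℕ) := by simp; omega
  have hk3 : k ∉ insert j (insert i ({p, q} : Finset ℕ)) := by simp; omega
  have hk2 : k ∉ insert i ({p, q} : Finset ℕ) := by simp; omega
  set A := insert i ({p, q} : Finset ℕ)
  have e1 := hasEdge_step E {p, q} hi1
  have e2 := hasEdge_step E (insert j {p, q}) hi3
  have e3 := hasEdge_step E (insert k {p, q}) hi2
  have e4 := hasEdge_step E (insert k (insert j {p, q})) hi4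
  rw [Finset.insert_comm i j] at e2
  rw [Finset.insert_comm i k] at e3
  rw [Finset.insert_comm i k, Finset.insert_comm i j] at e4
  have g1 := hasEdge_step E A hj2
  have g2 := hasEdge_step E (insert k A) (show j ∉ insert k A by
    simp only [A, Finset.mem_insert, Finset.mem_singleton]; omega)
  rw [Finset.insert_comm j k] at g2
  have g3 := hasEdge_step E (insert j A) hk3
  have hfin : hasEdge E (insert k (insert j A)) * (if i ∈ E ∧ j ∈ E ∧ k ∈ E then 1 else 0) =
      if E = ({i, j, k} : Finset ℕ) then 1 else 0 := by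
    by_cases h : E = ({i, j, k} : Finset ℕ)
    · subst h
      simp [hasEdge, A, Finset.subset_iff]
    · rw [if_neg h]
      by_cases h3 : i ∈ E ∧ j ∈ E ∧ k ∈ E
      · exfalso
        refine h (Finset.eq_of_subset_of_card_le ?_ ?_).symm
        · simp [Finset.insert_subset_iff, h3.1, h3.2.1, h3.2.2]
        · rw [edge_card ((mem_edgeFin hn).1 hE), Finset.card_insert_of_notMem (by simp; omega),
            Finset.card_insert_of_notMem (by simp; omega), Finset.card_singleton]
      · rw [if_neg h3, mul_zero]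
  rw [← hfin]
  by_cases hi : i ∈ E
  · rw [if_pos hi] at e1 e2 e3 e4
    by_cases hj : j ∈ E
    · rw [if_pos hj] at g1 g2
      by_cases hk : k ∈ E
      · rw [if_pos hk] at g3
        rw [if_pos ⟨hi, hj, hk⟩, mul_one]
        linear_combination e1 + e2 + e3 + e4 + g1 + g2 + g3
      · rw [if_neg hk] at g3
        rw [if_neg (fun h => hk h.2.2), mul_zero]
        linear_combination e1 + e2 + e3 + e4 + g1 + g2 + g3
    · rw [if_neg hj] at g1 g2
      rw [if_neg (fun h => hj h.2.1), mul_zero]
      linear_combination e1 + e2 + e3 + e4 + g1 + g2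
  · rw [if_neg hi] at e1 e2 e3 e4
    rw [if_neg (fun h => hi h.1), mul_zero]
    linear_combination e1 + e2 + e3 + e4

/-- The set of non-zero coordinates. -/
def support' (w : Bv n) : Finset ℕ :=
  (Finset.univ.filter fun i => w i = 1).map Fin.valEmbedding

theorem support'_ind {S : Finset ℕ} (hS : ∀ i ∈ S, i < n) : support' (ind n S) = S := by
  ext i
  simp only [support', Finset.mem_map, Finset.mem_filter, Finset.mem_univ, true_and,
    Fin.valEmbedding_apply, ind]
  constructor
  · rintro ⟨j, hj, rfl⟩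
    by_contra hc
    have hj2 := (Finset.mem_filter.1 hj).2
    change (if (j : ℕ) ∈ S then (1 : ZMod 2) else 0) = 1 at hj2
    rw [if_neg hc] at hj2
    exact zero_ne_one hj2
  · intro hi
    exact ⟨⟨i, hS i hi⟩, by simp [hi], rfl⟩

open Classical in
/-- The colouring for large `n`: zero on the basis, otherwise the sign of the edge parity. -/
noncomputable def bigColour (K : Type u) [Field K] (n : ℕ) (w : Bv n) : K :=
  if ∃ i, w = bas i then 0 else if edgeParity n (support' w) = 1 then -1 else 1

theorem bigColour_zero (hn : 4 ≤ n) : bigColour K n 0 = 1 := by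
  classical
  haveI : Fact (Nat.Prime 2) := ⟨Nat.prime_two⟩
  rw [bigColour, if_neg (fun h : ∃ i, (0 : Bv n) = bas i => bas_ne_zero _ h.choose_spec.symm),
    if_neg]
  have h0 : support' (0 : Bv n) = ∅ := by
    rw [← support'_ind (n := n) (S := ∅) (by simp)]
    congr 1
  have hpar : edgeParity n (support' (0 : Bv n)) = 0 := by
    rw [h0, edgeParity]
    refine Finset.sum_eq_zero fun E hE => ?_
    rw [hasEdge, if_neg]
    intro hsub
    have := edge_card ((mem_edgeFin hn).1 hE)
    rw [Finset.subset_empty.1 hsub] at this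
    simp at this
  rw [hpar]
  exact zero_ne_one

/-- Dimension at least six, characteristic two index space. -/
theorem rigid_big (hn : 6 ≤ n) (h2K : (2 : K) ≠ 0) {a : Bv n →+ Bv n} {τ : Bv n → K}
    {b : Bv n → Bv n → K} (h : LSym a τ b)
    (hc : ∀ w, bigColour K n (a w) = τ w * bigColour K n w) :
    (∀ w, a w = w) ∧ ∀ w, τ w = 1 := by
  classical
  haveI : Fact (Nat.Prime 2) := ⟨Nat.prime_two⟩
  haveI : NeZero 2 := ⟨two_ne_zero⟩
  set c := bigColour K n with hcdef
  have hc0 : ∀ w, c w = 0 ↔ ∃ i, w = bas i := fun w => by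
    rw [hcdef, bigColour]
    by_cases hw : ∃ i, w = bas i
    · simp [hw]
    · rw [if_neg hw]
      refine iff_of_false ?_ hw
      split
      · exact neg_ne_zero.2 one_ne_zero
      · exact one_ne_zero
  have hB : ∀ i, ∃ j, a (bas i) = bas j := fun i => by
    rw [← hc0, hc, (hc0 _).2 ⟨i, rfl⟩, mul_zero]
  choose σ hσ using hB
  have hσinj : Function.Injective σ := fun i j e => bas_injective (h.inj (by rw [hσ, hσ, e]))
  have hnot : ∀ w, (∀ i, w ≠ bas i) → ∀ i, a w ≠ bas i := fun w hw i e => by
    have h1 := hc w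
    rw [(hc0 _).2 ⟨i, e⟩] at h1
    obtain ⟨j, hj⟩ := (hc0 w).1 ((mul_eq_zero.1 h1.symm).resolve_left (h.τ_ne_zero w))
    exact hw j hj
  set σ' := Equiv.ofBijective σ (Finite.injective_iff_bijective.1 hσinj)
  have hmap := fun S => map_ind (π := a) (σ := σ') (fun i => hσ i) S
  -- signs
  have hpm : ∀ w, (∀ i, w ≠ bas i) → τ w ^ 2 = 1 := by
    intro w hw
    have h1 := hc w
    simp only [hcdef, bigColour] at h1
    rw [if_neg (fun h : ∃ i, a w = bas i => hnot w hw _ h.choose_spec),
      if_neg (fun h : ∃ i, w = bas i => hw _ h.choose_spec)] at h1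
    have h2 : τ w = 1 ∨ τ w = -1 := by
      split_ifs at h1
      · exact Or.inl (by linear_combination h1)
      · exact Or.inr (by linear_combination -h1)
      · exact Or.inr (by linear_combination h1)
      · exact Or.inl (by linear_combination -h1)
    rcases h2 with h2 | h2 <;> rw [h2] <;> ring
  have hsq : ∀ v w, τ (v + w) ^ 2 = τ v ^ 2 * τ w ^ 2 := fun v w => by
    rw [h.τ_add, mul_pow, h.b_pow, one_mul, mul_pow]
  have hb2 : ∀ i j : Fin n, i ≠ j → ∀ k, (bas i + bas j : Bv n) ≠ bas k := by
    intro i j hij k e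
    have e1 := congrFun e i
    have e2 := congrFun e j
    simp only [Pi.add_apply, bas_apply, if_neg hij, if_neg hij.symm, if_true, add_zero, zero_add]
      at e1 e2
    rcases eq_or_ne i k with rfl | hk
    · rw [if_neg hij.symm] at e2; exact one_ne_zero e2
    · rw [if_neg hk] at e1; exact one_ne_zero e1
  have hb3 : ∀ i j k : Fin n, i ≠ j → i ≠ k → j ≠ k → ∀ m,
      (bas i + bas j + bas k : Bv n) ≠ bas m := by
    intro i j k hij hik hjk m e
    have e1 := congrFun e i
    have e2 := congrFun e j
    simp only [Pi.add_apply, bas_apply, if_neg hij, if_neg hij.symm, if_neg hik, if_neg hjk,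
      if_true, add_zero, zero_add] at e1 e2
    rcases eq_or_ne i m with rfl | hm
    · rw [if_neg hij.symm] at e2; exact one_ne_zero e2
    · rw [if_neg hm] at e1; exact one_ne_zero e1
  have hsqall : ∀ i : Fin n, τ (bas i) ^ 2 = 1 := by
    intro i
    obtain ⟨j, k, hji, hki, hjk⟩ : ∃ j k : Fin n, j ≠ i ∧ k ≠ i ∧ j ≠ k := by
      rcases eq_or_ne (i : ℕ) 0 with hi | hi
      · exact ⟨⟨1, by omega⟩, ⟨2, by omega⟩, by simp [Fin.ext_iff]; omega,
          by simp [Fin.ext_iff]; omega, by simp [Fin.ext_iff]⟩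
      · rcases eq_or_ne (i : ℕ) 1 with hi' | hi'
        · exact ⟨⟨0, by omega⟩, ⟨2, by omega⟩, by simp [Fin.ext_iff]; omega,
            by simp [Fin.ext_iff]; omega, by simp [Fin.ext_iff]⟩
        · exact ⟨⟨0, by omega⟩, ⟨1, by omega⟩, by simp [Fin.ext_iff]; omega,
            by simp [Fin.ext_iff]; omega, by simp [Fin.ext_iff]⟩
    have e1 := hsq (bas j + bas k) (bas i)
    rw [hpm _ (hb2 j k hjk), hpm _ (hb3 j k i hjk hji hki), one_mul] at e1
    exact e1.symm
  have hτ2 : ∀ w, τ w ^ 2 = 1 := by
    intro w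
    by_cases hw : ∃ i, w = bas i
    · obtain ⟨i, rfl⟩ := hw
      exact hsqall i
    · exact hpm w fun i e => hw ⟨i, e⟩
  have hcube : ∀ v x y z,
      τ v * τ (x + v) * τ (y + v) * τ (y + (x + v)) *
        (τ (z + v) * τ (z + (x + v)) * τ (z + (y + v)) * τ (z + (y + (x + v)))) = 1 := by
    intro v x y z
    have hb : ∀ v w, b v w ^ 2 = 1 := h.b_pow
    simp only [h.τ_add, h.b_right]
    ring_nf
    simp only [show 4 = 2 * 2 from rfl, show 6 = 2 * 3 from rfl, show 8 = 2 * 4 from rfl, pow_mul,
      hb, hτ2, one_pow, mul_one]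
  -- transport the parity
  have hsign : ∀ w, (∀ i, w ≠ bas i) →
      τ w = (-1) ^ (edgeParity n (support' (a w))).val * (-1) ^ (edgeParity n (support' w)).val := by
    intro w hw
    have h1 := hc w
    simp only [hcdef, bigColour] at h1
    rw [if_neg (fun h : ∃ i, a w = bas i => hnot w hw _ h.choose_spec),
      if_neg (fun h : ∃ i, w = bas i => hw _ h.choose_spec)] at h1
    have hz := zmod_two_cases
    rcases hz (edgeParity n (support' (a w))) with e1 | e1 <;>
      rcases hz (edgeParity n (support' w)) with e2 | e2 <;>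
      simp [e1, e2, zero_ne_one, ZMod.val_one] at h1 ⊢ <;>
      first | linear_combination h1 | linear_combination -h1
  have hedge : ∀ s : Finset ℕ, (∀ i ∈ s, i < n) →
      (Edge n s ↔ Edge n (s.image (extPerm σ'))) := by
    intro s hs
    by_cases hcard : s.card = 3
    swap
    · refine iff_of_false (fun he => hcard (edge_card he)) fun he => hcard ?_
      rw [← edge_card he, Finset.card_image_of_injective _ (extPerm σ').injective]
    obtain ⟨i, j, k, hij, hik, hjk, rfl⟩ := Finset.card_eq_three.1 hcard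
    have hi : i < n := hs i (by simp)
    have hj : j < n := hs j (by simp)
    have hk : k < n := hs k (by simp)
    obtain ⟨p, q, hp, hq, hd⟩ : ∃ p q, p < n ∧ q < n ∧ [p, q, i, j, k].Nodup := by
      have hcard2 : 2 ≤ ((Finset.range n) \ {i, j, k}).card := by
        have h1 := Finset.le_card_sdiff ({i, j, k} : Finset ℕ) (Finset.range n)
        rw [hcard, Finset.card_range] at h1
        omega
      obtain ⟨p, hp, q, hq, hpq⟩ := Finset.one_lt_card.1 hcard2
      simp only [Finset.mem_sdiff, Finset.mem_range, Finset.mem_insert, Finset.mem_singleton,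
        not_or] at hp hq
      exact ⟨p, q, hp.1, hq.1, by simp; omega⟩
    set e := extPerm σ'
    have helt : ∀ m, m < n → e m < n := fun m hm => by
      rw [show e m = (σ' ⟨m, hm⟩ : ℕ) from extPerm_apply σ' ⟨m, hm⟩]
      exact Fin.isLt _
    have hd' : [e p, e q, e i, e j, e k].Nodup := (hd.map e.injective : ([p, q, i, j, k].map e).Nodup)
    -- the eight points
    let P : Finset ℕ → Prop := fun S => (∀ m ∈ S, m < n) ∧ 2 ≤ S.card
    have hval : ∀ S, P S → τ (ind n S) =
        (-1) ^ (edgeParity n (S.image e) + edgeParity n S).val := by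
      rintro S ⟨hSn, hS2⟩
      have hnb : ∀ m : Fin n, ind n S ≠ bas m := fun m hm => by
        have := support'_ind hSn
        rw [hm, show (bas m : Bv n) = ind n {(m : ℕ)} by
          funext t; simp [ind, bas_apply, Fin.ext_iff], support'_ind (by simp)] at this
        rw [← this] at hS2
        simp at hS2
      rw [hsign _ hnb, hmap, support'_ind (fun m hm => by
        obtain ⟨t, ht, rfl⟩ := Finset.mem_image.1 hm
        exact helt t (hSn t ht)), support'_ind hSn]
      have hz : ∀ z w : ZMod 2, ((-1 : K) ^ z.val * (-1) ^ w.val) = (-1) ^ (z + w).val := by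
        intro z w
        have hz := zmod_two_cases
        rcases hz z with rfl | rfl <;> rcases hz w with rfl | rfl <;>
          simp [show (1 + 1 : ZMod 2) = 0 from rfl, ZMod.val_one]
      exact hz _ _
    have hins : ∀ (m : ℕ) (S : Finset ℕ), m ∉ S → ind n (insert m S) = ind n {m} + ind n S := by
      intro m S hm
      funext t
      simp only [ind, Finset.mem_insert, Pi.add_apply, Finset.mem_singleton]
      by_cases h1 : (t : ℕ) = m
      · simp [h1, hm]
      · simp [h1]
    have hnd := hd
    simp only [List.nodup_cons, List.mem_cons, List.not_mem_nil, or_false, not_or, List.nodup_nil,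
      and_true] at hnd
    obtain ⟨⟨hpq, hpi, hpj, hpk⟩, ⟨hqi, hqj, hqk⟩, ⟨hij', hik'⟩, hjk'⟩ := hnd
    set v : Finset ℕ := {p, q} with hv
    have hPv : ∀ S, v ⊆ S → (∀ m ∈ S, m = p ∨ m = q ∨ m = i ∨ m = j ∨ m = k) → P S := by
      intro S hvS hS
      refine ⟨fun m hm => ?_, ?_⟩
      · rcases hS m hm with rfl | rfl | rfl | rfl | rfl <;> assumption
      · have := Finset.card_le_card hvS
        rwa [hv, Finset.card_pair hpq] at this
    have hC := hcube (ind n v) (ind n {i}) (ind n {j}) (ind n {k})
    rw [← hins i v (by simp [hv]; omega), ← hins j v (by simp [hv]; omega),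
      ← hins j (insert i v) (by simp [hv]; omega), ← hins k v (by simp [hv]; omega),
      ← hins k (insert i v) (by simp [hv]; omega), ← hins k (insert j v) (by simp [hv]; omega),
      ← hins k (insert j (insert i v)) (by simp [hv]; omega)] at hC
    repeat rw [hval _ (hPv _ (by intro m hm; simp_all) (by intro m hm; simp [hv] at hm; tauto))] at hC
    have hsum : ∀ z w : ZMod 2, ((-1 : K) ^ z.val * (-1) ^ w.val) = (-1) ^ (z + w).val := by
      intro z w
      have hz := zmod_two_cases
      rcases hz z with rfl | rfl <;> rcases hz w with rfl | rfl <;>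
        simp [show (1 + 1 : ZMod 2) = 0 from rfl, ZMod.val_one]
    simp only [hsum] at hC
    have hzero : ∀ z : ZMod 2, (-1 : K) ^ z.val = 1 → z = 0 := by
      intro z hz
      have hz' := zmod_two_cases
      refine (hz' z).resolve_right fun e => h2K ?_
      rw [e, ZMod.val_one, pow_one] at hz
      linear_combination -hz
    have hC' := hzero _ hC
    have c1 := edgeParity_cube (n := n) (by omega) hd
    have c2 := edgeParity_cube (n := n) (by omega) hd'
    rw [← hv] at c1
    simp only [hv, Finset.image_insert, Finset.image_singleton] at hC' c1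
    have heq : (if ({i, j, k} : Finset ℕ) ∈ edgeFin n then (1 : ZMod 2) else 0) +
        (if ({e i, e j, e k} : Finset ℕ) ∈ edgeFin n then 1 else 0) = 0 := by
      rw [← c1, ← c2, ← hC']
      ring
    simp only [mem_edgeFin (show 4 ≤ n by omega)] at heq
    simp only [Finset.image_insert, Finset.image_singleton]
    by_cases h1 : Edge n {i, j, k} <;> by_cases h2 : Edge n {e i, e j, e k} <;>
      simp [h1, h2] at heq ⊢
  have hid := rigid_of_edges hn (π := a) (σ := σ) hσ hσinj hedge
  have hsupp : ∀ w, (∀ i, w ≠ bas i) → τ w = 1 := fun w hw => by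
    have h1 := hc w
    rw [hid] at h1
    refine (mul_eq_right₀ fun e => ?_).1 h1.symm
    obtain ⟨i, hi⟩ := (hc0 w).1 e
    exact hw i hi
  have htri : ∀ i j k : Fin n, i ≠ j → i ≠ k → j ≠ k → τ (bas i) * τ (bas j) * τ (bas k) = 1 := by
    intro i j k hij hik hjk
    have hb : ∀ i j : Fin n, i ≠ j → b (bas i) (bas j) = τ (bas i) * τ (bas j) := fun i j hij => by
      have := h.τ_add (bas i) (bas j)
      rw [hsupp _ (hb2 i j hij)] at this
      linear_combination -(τ (bas i) * τ (bas j)) * this -
        b (bas i) (bas j) * τ (bas j) ^ 2 * hτ2 (bas i) - b (bas i) (bas j) * hτ2 (bas j)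
    have h1 := h.τ_add (bas i + bas j) (bas k)
    rw [hsupp _ (hb3 i j k hij hik hjk), hsupp _ (hb2 i j hij), h.b_left, hb i k hik, hb j k hjk]
      at h1
    linear_combination -h1 - (τ (bas i) * τ (bas j) * τ (bas k)) * hτ2 (bas k)
  have hone : ∀ i : Fin n, τ (bas i) = 1 := by
    intro i
    have hneq : ∀ j : Fin n, j ≠ i → τ (bas j) = τ (bas i) := by
      intro j hji
      have h3 : 2 ≤ (({i, j} : Finset (Fin n))ᶜ).card := by
        rw [Finset.card_compl, Fintype.card_fin, Finset.card_pair hji.symm]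
        omega
      obtain ⟨k, hk, m, hm, hkm⟩ := Finset.one_lt_card.1 h3
      simp only [Finset.mem_compl, Finset.mem_insert, Finset.mem_singleton, not_or] at hk hm
      have e1 := htri i k m (Ne.symm hk.1) (Ne.symm hm.1) hkm
      have e2 := htri j k m (Ne.symm hk.2) (Ne.symm hm.2) hkm
      rw [mul_assoc] at e1 e2
      exact mul_right_cancel₀ (fun e0 => one_ne_zero (e1.symm.trans (by rw [e0, mul_zero])))
        (e2.trans e1.symm)
    obtain ⟨j, hj, k, hk, hjk⟩ := Finset.one_lt_card.1
      (show 1 < (({i} : Finset (Fin n))ᶜ).card by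
        rw [Finset.card_compl, Fintype.card_fin, Finset.card_singleton]; omega)
    simp only [Finset.mem_compl, Finset.mem_singleton] at hj hk
    have e := htri i j k (Ne.symm hj) (Ne.symm hk) hjk
    rw [hneq j hj, hneq k hk] at e
    linear_combination e - τ (bas i) * hτ2 (bas i)
  refine ⟨hid, fun w => ?_⟩
  by_cases hw : ∃ i, w = bas i
  · obtain ⟨i, rfl⟩ := hw
    exact hone i
  · exact hsupp w fun i e => hw ⟨i, e⟩

theorem lineRigid_big (hn : 6 ≤ n) (h2K : (2 : K) ≠ 0) : LineRigid K 2 n :=
  ⟨bigColour K n, bigColour_zero (by omega), fun _ _ _ h hc => rigid_big hn h2K h hc⟩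

end CfsgLib.Char.CoprimeBase
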