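import Cfsg.Agent.Lib.Char.CoprimeBase.Rigid

/-!
# Rigid colourings of small dimension, and the plane with a quaternion group
-/

set_option autoImplicit false
set_option linter.unusedSectionVars false
set_option linter.style.haveILetI false

namespace CfsgLib.Char.CoprimeBase

universe u v

variable {K : Type u} [Field K] {U : Type v} [AddCommGroup U] [Module K U] {n : ℕ}

theorem zmod_two_add_self : ∀ z : ZMod 2, z + z = 0 := by decide

theorem bv_add_self (w : Bv n) : w + w = 0 := funext fun i => zmod_two_add_self (w i)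

/-- All entries of a code are in range. -/
def codeValid (m N n : ℕ) (code : ℕ → Option (ℕ × ℕ)) : Bool :=
  (List.range (2 ^ n)).all fun v =>
    match code v with
    | none => true
    | some kt => decide (kt.1 < N) && decide (kt.2 < m)

/-- The colour of a code. -/
def colOf (ev : ℕ → U →ₗ[K] U) (u : U) (r : ℕ → K) : Option (ℕ × ℕ) → U
  | none => 0
  | some (k, t) => r k • ev t u

theorem colOf_some (ev : ℕ → U →ₗ[K] U) (u : U) (r : ℕ → K) (k t : ℕ) :
    colOf ev u r (some (k, t)) = r k • ev t u := rfl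

theorem codeValid_some {m N n : ℕ} {code : ℕ → Option (ℕ × ℕ)} (h : codeValid m N n code = true)
    {v k t : ℕ} (hv : v < 2 ^ n) (he : code v = some (k, t)) : k < N ∧ t < m := by
  have h1 := List.all_eq_true.1 h v (List.mem_range.2 hv)
  rw [he] at h1
  simpa using h1

/-- A representation of a table in which the classes are separated. -/
structure TblRep (T : Tbl) (ev : ℕ → U →ₗ[K] U) (u : U) (r : ℕ → K) (N : ℕ) : Prop where
  pos : 0 < N
  ev_zero : ev 0 = LinearMap.id
  m_pos : 0 < T.m
  neg_lt : T.neg < T.m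
  mul_lt : ∀ a < T.m, ∀ b < T.m, T.mul a b < T.m
  ev_mul : ∀ a < T.m, ∀ b < T.m, ev (T.mul a b) = (ev a).comp (ev b)
  ev_neg : ev T.neg = -LinearMap.id
  sep : ∀ a < T.m, ∀ b < T.m, ∀ k < N, ∀ k' < N, r k • ev a u = r k' • ev b u → k = k' ∧ a = b
  col_ne : ∀ a < T.m, ∀ k < N, r k • ev a u ≠ 0

theorem TblRep.inj {T : Tbl} {ev : ℕ → U →ₗ[K] U} {u : U} {r : ℕ → K} {N : ℕ}
    (R : TblRep T ev u r N) {a b : ℕ} (ha : a < T.m) (hb : b < T.m) (h : ev a = ev b) : a = b :=
  (R.sep a ha b hb 0 R.pos 0 R.pos (by rw [h])).2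

/-- A successful check gives rigidity of the colouring. -/
theorem rigid_of_check {T : Tbl} {code : ℕ → Option (ℕ × ℕ)} {N : ℕ}
    (hchk : monCheck T code n = true) (hval : codeValid T.m N n code = true)
    {ev : ℕ → U →ₗ[K] U} {u : U} {r : ℕ → K} (R : TblRep T ev u r N)
    {a : Bv n →+ Bv n} (ha : Function.Injective a) (τ : Bv n → ℕ) (hτm : ∀ w, τ w < T.m)
    (hτ0 : ev (τ 0) = LinearMap.id) {b : Bv n → Bv n → K}
    (hb : ∀ x y z, b (x + y) z = b x z * b y z) (hb2 : ∀ x y, b x y ^ 2 = 1) (h2 : (2 : K) ≠ 0)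
    (hτ : ∀ x y, ev (τ (x + y)) = b x y • (ev (τ x)).comp (ev (τ y)))
    (hc : ∀ w, colOf ev u r (code (toNum (a w))) = ev (τ w) (colOf ev u r (code (toNum w)))) :
    ∀ w, a w = w ∧ ev (τ w) = LinearMap.id := by
  classical
  have hne : (-1 : K) ≠ 1 := fun e => h2 (by linear_combination -e)
  have hb01 : ∀ x y, b x y = 1 ∨ b x y = -1 := fun x y => sq_eq_one_iff.1 (hb2 x y)
  let β : Bv n → Bv n → ZMod 2 := fun x y => if b x y = 1 then 0 else 1
  have hτ0' : τ 0 = 0 := R.inj (hτm 0) R.m_pos (by rw [hτ0, R.ev_zero])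
  have h := monCheck_sound hchk a ha τ β hτm hτ0' ?_ ?_ ?_
  · intro w
    obtain ⟨h1, h3⟩ := h w
    exact ⟨h1, by rw [h3, R.ev_zero]⟩
  · intro x y z
    simp only [β, hb]
    rcases hb01 x z with e1 | e1 <;> rcases hb01 y z with e2 | e2 <;>
      simp [e1, e2, hne] <;> decide
  · intro x y
    have hlt := R.mul_lt _ (hτm x) _ (hτm y)
    rcases hb01 x y with e | e
    · simp only [β, e, if_true, Tbl.signed, zero_ne_one, decide_false, Bool.false_eq_true, if_false]
      refine R.inj (hτm _) hlt ?_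
      rw [hτ, e, one_smul, R.ev_mul _ (hτm x) _ (hτm y)]
    · simp only [β, e, if_neg hne, Tbl.signed, decide_true, if_true]
      refine R.inj (hτm _) (R.mul_lt _ R.neg_lt _ hlt) ?_
      rw [hτ, e, R.ev_mul _ R.neg_lt _ hlt, R.ev_neg, R.ev_mul _ (hτm x) _ (hτm y)]
      ext z
      simp
  · intro w
    have h1 := hc w
    have hinv : ∀ z : U, ev (τ w) z = 0 → z = 0 := by
      intro z hz
      have h3 := LinearMap.congr_fun (hτ w w) z
      rw [LinearMap.smul_apply, LinearMap.comp_apply, hz, map_zero, smul_zero,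
        bv_add_self w,
        hτ0, LinearMap.id_apply] at h3
      exact h3
    rcases hw : code (toNum w) with _ | ⟨k, t⟩ <;> rcases hw' : code (toNum (a w)) with _ | ⟨k', t'⟩
    · rfl
    · exfalso
      rw [hw, hw', show colOf ev u r none = 0 from rfl, map_zero, colOf_some] at h1
      obtain ⟨hk', ht'⟩ := codeValid_some hval (toNum_lt _) hw'
      exact R.col_ne _ ht' _ hk' h1
    · exfalso
      rw [hw, hw', show colOf ev u r none = 0 from rfl, colOf_some] at h1
      obtain ⟨hk, ht⟩ := codeValid_some hval (toNum_lt _) hw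
      exact R.col_ne _ ht _ hk (hinv _ h1.symm)
    · rw [hw, hw', colOf_some, colOf_some, map_smul, ← LinearMap.comp_apply,
        ← R.ev_mul _ (hτm w) t (codeValid_some hval (toNum_lt _) hw).2] at h1
      obtain ⟨hk, ht⟩ := codeValid_some hval (toNum_lt _) hw
      obtain ⟨hk', ht'⟩ := codeValid_some hval (toNum_lt _) hw'
      obtain ⟨e1, e2⟩ := R.sep _ ht' _ (R.mul_lt _ (hτm w) _ ht) _ hk' _ hk h1
      rw [Option.map_some, e1, e2]

/-- Signs. -/
def tbl2 : Tbl := ⟨2, fun a b => (a + b) % 2, 1⟩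

/-- Fourth roots of unity. -/
def tbl4 : Tbl := ⟨4, fun a b => (a + b) % 4, 2⟩

/-- The sign of a product of two quaternion units. -/
def qSign : ℕ → ℕ → ℕ
  | 1, 1 => 1
  | 1, 3 => 1
  | 2, 1 => 1
  | 2, 2 => 1
  | 3, 2 => 1
  | 3, 3 => 1
  | _, _ => 0

/-- The quaternion group: `4 * sign + unit`. -/
def tbl8 : Tbl :=
  ⟨8, fun a b => (a / 4 + b / 4 + qSign (a % 4) (b % 4)) % 2 * 4 + ((a % 4) ^^^ (b % 4)), 4⟩

/-- Codes from a list of classes, `3` standing for `none`. -/
def classCode (L : List ℕ) (v : ℕ) : Option (ℕ × ℕ) :=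
  if L.getD v 3 < 3 then some (L.getD v 3, 0) else none

/-- Codes from a list of values, `8` standing for `none`. -/
def valCode (L : List ℕ) (v : ℕ) : Option (ℕ × ℕ) :=
  if L.getD v 8 < 8 then some (0, L.getD v 8) else none

/-- The class codes in dimensions up to four. -/
def classList : ℕ → List ℕ
  | 0 => [0]
  | 1 => [0, 0]
  | 2 => [0, 0, 1, 2]
  | 3 => [0, 2, 0, 1, 3, 0, 0, 0]
  | 4 => [0, 1, 2, 1, 0, 1, 0, 0, 2, 1, 1, 1, 0, 2, 2, 0]
  | _ => []

/-- Four dimensions, fourth roots. -/
def list44 : List ℕ := [0, 0, 0, 0, 8, 3, 1, 1, 3, 2, 0, 8, 0, 0, 1, 0]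

/-- Three dimensions, quaternion values. -/
def list83 : List ℕ := [0, 7, 1, 1, 1, 6, 8, 6]

/-- Four dimensions, quaternion values. -/
def list84 : List ℕ := [0, 6, 6, 6, 5, 4, 3, 6, 6, 0, 8, 7, 1, 3, 2, 3]

/-- Five dimensions, signs. -/
def list25 : List ℕ :=
  [0, 8, 8, 8, 8, 1, 0, 0, 8, 0, 0, 1, 0, 1, 0, 8, 8, 1, 1, 1, 0, 1, 1, 0, 1, 0, 1, 1, 0, 0, 1, 0]

theorem check2_class2 : monCheck tbl2 (classCode (classList 2)) 2 = true := by decide +kernel
theorem check2_class3 : monCheck tbl2 (classCode (classList 3)) 3 = true := by decide +kernel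
theorem check2_class4 : monCheck tbl2 (classCode (classList 4)) 4 = true := by decide +kernel
theorem check4_class2 : monCheck tbl4 (classCode (classList 2)) 2 = true := by decide +kernel
theorem check4_class3 : monCheck tbl4 (classCode (classList 3)) 3 = true := by decide +kernel
theorem check4_class4 : monCheck tbl4 (classCode (classList 4)) 4 = true := by decide +kernel
theorem check8_class0 : monCheck tbl8 (classCode (classList 0)) 0 = true := by decide +kernel
theorem check8_class1 : monCheck tbl8 (classCode (classList 1)) 1 = true := by decide +kernel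
theorem check8_class2 : monCheck tbl8 (classCode (classList 2)) 2 = true := by decide +kernel
theorem check4_val4 : monCheck tbl4 (valCode list44) 4 = true := by decide +kernel
theorem check8_val3 : monCheck tbl8 (valCode list83) 3 = true := by decide +kernel
theorem check8_val4 : monCheck tbl8 (valCode list84) 4 = true := by decide +kernel
theorem check2_val5 : monCheck tbl2 (valCode list25) 5 = true := by decide +kernel

/-- Representation by signs on the field. -/
theorem tblRep_two (h2 : (2 : K) ≠ 0) {N : ℕ} (hN : 0 < N) {r : ℕ → K}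
    (hr : ∀ k < N, r k ≠ 0)
    (hsep : ∀ k < N, ∀ k' < N, r k ^ 4 = r k' ^ 4 → k = k') :
    TblRep tbl2 (fun j => ((-1 : K) ^ j) • (LinearMap.id : K →ₗ[K] K)) 1 r N where
  pos := hN
  ev_zero := by simp
  m_pos := by decide
  neg_lt := by decide
  mul_lt := fun a _ b _ => Nat.mod_lt _ two_pos
  ev_mul := fun a _ b _ => by
    ext; simp [tbl2, ← neg_one_pow_eq_pow_mod_two, pow_add]
  ev_neg := by ext; simp [tbl2]
  col_ne := fun a _ k hk => by simp [hr k hk]
  sep := by
    intro a ha b hb k hk k' hk' h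
    simp only [LinearMap.smul_apply, LinearMap.id_apply, smul_eq_mul, mul_one] at h
    have hp : ∀ j : ℕ, ((-1 : K) ^ j) ^ 4 = 1 := fun j => by
      rw [← pow_mul, mul_comm, pow_mul]; norm_num
    have h4 := congrArg (· ^ 4) h
    simp only [mul_pow, hp, mul_one] at h4
    obtain rfl := hsep k hk k' hk' h4
    refine ⟨rfl, ?_⟩
    have h' := mul_left_cancel₀ (hr k hk) h
    change a < 2 at ha
    change b < 2 at hb
    interval_cases a <;> interval_cases b <;> first | rfl | (exfalso; simp at h'; exact h2 (by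
      first | linear_combination h' | linear_combination -h'))

/-- Representation by fourth roots of unity. -/
theorem tblRep_four (h2 : (2 : K) ≠ 0) {ii : K} (hii : ii ^ 2 = -1) {N : ℕ} (hN : 0 < N)
    {r : ℕ → K} (hr : ∀ k < N, r k ≠ 0)
    (hsep : ∀ k < N, ∀ k' < N, r k ^ 4 = r k' ^ 4 → k = k') :
    TblRep tbl4 (fun j => (ii ^ j) • (LinearMap.id : K →ₗ[K] K)) 1 r N := by
  have h4 : ii ^ 4 = 1 := by linear_combination (ii ^ 2 - 1) * hii
  have hii0 : ii ≠ 0 := fun e => by rw [e] at hii; simp at hii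
  refine ⟨hN, by simp, by decide, by decide, fun a _ b _ => Nat.mod_lt _ (by norm_num),
    fun a _ b _ => ?_, ?_, ?_, fun a _ k hk => by simp [hr k hk, hii0]⟩
  · ext
    simp [tbl4, ← pow_eq_pow_mod (a + b) h4, pow_add]
  · ext
    simp [tbl4, hii]
  · intro a ha b hb k hk k' hk' h
    simp only [LinearMap.smul_apply, LinearMap.id_apply, smul_eq_mul, mul_one] at h
    have hp : ∀ j : ℕ, (ii ^ j) ^ 4 = 1 := fun j => by rw [← pow_mul, mul_comm, pow_mul, h4, one_pow]
    have h' := congrArg (· ^ 4) h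
    simp only [mul_pow, hp, mul_one] at h'
    obtain rfl := hsep k hk k' hk' h'
    refine ⟨rfl, ?_⟩
    have hord : orderOf ii = 4 := by
      refine (orderOf_eq_prime_pow (p := 2) (n := 1) ?_ (by norm_num [h4])).trans (by norm_num)
      rw [pow_one, hii]
      exact fun e => h2 (by linear_combination -e)
    exact pow_injOn_Iio_orderOf (by rw [hord]; exact ha) (by rw [hord]; exact hb)
      (mul_left_cancel₀ (hr k hk) h)

/-- Two anticommuting square roots of `-1`, over a field without one. -/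
structure QuatOps (K : Type u) [Field K] (U : Type v) [AddCommGroup U] [Module K U] where
  /-- the first root -/
  J1 : U →ₗ[K] U
  /-- the second root -/
  J2 : U →ₗ[K] U
  nonsq : ¬ IsSquare (-1 : K)
  sq1 : ∀ z, J1 (J1 z) = -z
  sq2 : ∀ z, J2 (J2 z) = -z
  anti : ∀ z, J2 (J1 z) = -J1 (J2 z)

namespace QuatOps

variable (P : QuatOps K U)

/-- The units. -/
def E : ℕ → U →ₗ[K] U
  | 0 => LinearMap.id
  | 1 => P.J1
  | 2 => P.J2
  | _ => P.J1.comp P.J2

/-- The eight elements. -/
def ev (j : ℕ) : U →ₗ[K] U := ((-1 : K) ^ (j / 4)) • P.E (j % 4)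

include P in
theorem two_ne : (2 : K) ≠ 0 := fun h => P.nonsq ⟨1, by linear_combination -h⟩

theorem E_mul {a b : ℕ} (ha : a < 4) (hb : b < 4) :
    (P.E a).comp (P.E b) = ((-1 : K) ^ qSign a b) • P.E (a ^^^ b) := by
  interval_cases a <;> interval_cases b <;> ext z <;> simp [E, qSign, P.sq1, P.sq2, P.anti]

theorem ev_mul (a b : ℕ) : P.ev (tbl8.mul a b) = (P.ev a).comp (P.ev b) := by
  have hx : (a % 4) ^^^ (b % 4) < 4 :=
    Nat.xor_lt_two_pow (n := 2) (Nat.mod_lt _ (by norm_num)) (Nat.mod_lt _ (by norm_num))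
  show P.ev ((a / 4 + b / 4 + qSign (a % 4) (b % 4)) % 2 * 4 + ((a % 4) ^^^ (b % 4))) = _
  rw [ev, ev, ev, LinearMap.smul_comp, LinearMap.comp_smul,
    P.E_mul (Nat.mod_lt _ (by norm_num)) (Nat.mod_lt _ (by norm_num)), smul_smul, smul_smul,
    show ∀ s x : ℕ, x < 4 → (s * 4 + x) / 4 = s from fun s x h => by omega,
    show ∀ s x : ℕ, x < 4 → (s * 4 + x) % 4 = x from fun s x h => by omega,
    ← neg_one_pow_eq_pow_mod_two, pow_add, pow_add]
  all_goals first | exact hx | ring_nf

theorem E_sq {k : ℕ} (hk : k < 4) (hk0 : k ≠ 0) (z : U) : P.E k (P.E k z) = -z := by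
  interval_cases k <;> first | exact absurd rfl hk0 | simp [E, P.sq1, P.sq2, P.anti]

theorem E_sq' {k : ℕ} (hk : k < 4) : ∃ e : K, (e = 1 ∨ e = -1) ∧ (k ≠ 0 → e = -1) ∧
    (P.E k).comp (P.E k) = e • LinearMap.id := by
  rcases Nat.eq_zero_or_pos k with rfl | hk0
  · exact ⟨1, Or.inl rfl, fun h => absurd rfl h, by ext; simp [E]⟩
  · exact ⟨-1, Or.inr rfl, fun _ => rfl, by ext z; simp [P.E_sq hk hk0.ne']⟩

theorem tblRep {u : U} (hu : u ≠ 0) {N : ℕ} (hN : 0 < N) {r : ℕ → K} (hr : ∀ k < N, r k ≠ 0)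
    (hsep : ∀ k < N, ∀ k' < N, r k ^ 2 = r k' ^ 2 → k = k') : TblRep tbl8 P.ev u r N := by
  have hinv : ∀ a : Fin 8, ∃ a' : Fin 8, tbl8.mul a' a = 0 ∧
      ∀ b : Fin 8, tbl8.mul a' b = 0 → b = a := by decide
  have hcl : ∀ a b : Fin 8, tbl8.mul a b < 8 := by decide
  have h0 : P.ev 0 = LinearMap.id := by simp [ev, E]
  have hneg : P.ev 4 = -LinearMap.id := by ext; simp [ev, E]
  have hinj : ∀ a < 8, ∀ z, P.ev a z = 0 → z = 0 := by
    intro a ha z hz
    obtain ⟨a', h1, -⟩ := hinv ⟨a, ha⟩
    have h2 := LinearMap.congr_fun (P.ev_mul a' a) z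
    rw [h1, h0, LinearMap.comp_apply, hz, map_zero] at h2
    exact h2
  refine ⟨hN, h0, by decide, by decide, fun a ha b hb => hcl ⟨a, ha⟩ ⟨b, hb⟩,
    fun a _ b _ => P.ev_mul a b, hneg, ?_, fun a ha k hk e =>
      hu (hinj a ha u ((smul_eq_zero.1 e).resolve_left (hr k hk)))⟩
  intro a ha b hb k hk k' hk' h
  obtain ⟨a', ha', huniq⟩ := hinv ⟨a, ha⟩
  have h2 := congrArg (P.ev a') h
  rw [map_smul, map_smul, ← LinearMap.comp_apply, ← P.ev_mul, ha', h0, LinearMap.id_apply,
    ← LinearMap.comp_apply, ← P.ev_mul] at h2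
  set c := tbl8.mul (a' : ℕ) b with hc
  have hc8 : c < 8 := hcl a' ⟨b, hb⟩
  rw [ev, LinearMap.smul_apply, smul_smul] at h2
  by_cases hcz : c % 4 = 0
  · rw [hcz] at h2
    change r k • u = (r k' * (-1) ^ (c / 4)) • u at h2
    have h3 : r k = r k' * (-1) ^ (c / 4) := smul_left_injective K hu h2
    have hk2 : k = k' := hsep k hk k' hk' (by
      rw [h3, mul_pow, ← pow_mul, mul_comm (c / 4) 2, pow_mul, neg_one_sq, one_pow, mul_one])
    subst hk2
    refine ⟨rfl, ?_⟩
    have hc0 : c = 0 := by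
      by_contra hne
      have hc4 : c = 4 := by omega
      rw [hc4] at h3
      have : r k * 2 = 0 := by linear_combination h3
      exact P.two_ne ((mul_eq_zero.1 this).resolve_left (hr k hk))
    have := huniq ⟨b, hb⟩ hc0
    exact (congrArg Fin.val this).symm
  · exfalso
    set s := r k' * (-1) ^ (c / 4)
    have h3 := congrArg (P.E (c % 4)) h2
    rw [map_smul, map_smul, P.E_sq (Nat.mod_lt _ (by norm_num)) hcz, smul_neg] at h3
    have h4 := congrArg (fun v => r k • v) h2
    simp only [smul_comm (r k) s] at h4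
    rw [h3, smul_neg, smul_smul, smul_smul, ← neg_smul] at h4
    have h5 : r k * r k = -(s * s) := smul_left_injective K hu h4
    have hs : s ≠ 0 := fun e => hr k hk (by
      rw [e] at h5; simpa using h5)
    exact P.nonsq ⟨r k / s, by field_simp; linear_combination -h5⟩

end QuatOps

/-- A colouring with values zero and signs that has no symmetries. -/
structure SignColour (K : Type u) [Field K] (n : ℕ) where
  /-- the colouring -/
  col : Bv n → K
  col_zero : col 0 = 1
  col_sq : ∀ w, col w ≠ 0 → col w ^ 2 = 1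
  gen : ∀ w, col w = 0 → ∃ v v', col v ≠ 0 ∧ col v' ≠ 0 ∧ w = v + v'
  rigid : ∀ a τ b, LSym a τ b → (∀ w, col (a w) = τ w * col w) →
    (∀ w, a w = w) ∧ ∀ w, τ w = 1

theorem SignColour.lineRigid (S : SignColour K n) : LineRigid K 2 n := ⟨S.col, S.col_zero, S.rigid⟩

theorem code25_gen : ∀ v : Fin 32, valCode list25 v = none → ∃ x y : Fin 32,
    valCode list25 x ≠ none ∧ valCode list25 y ≠ none ∧ (x : ℕ) ^^^ y = v := by decide +kernel

theorem code25_valid : codeValid 2 1 5 (valCode list25) = true := by decide +kernel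

/-- The colouring in dimension five. -/
theorem nonempty_signColour_five (h2 : (2 : K) ≠ 0) : Nonempty (SignColour K 5) := by
  classical
  set ev : ℕ → K →ₗ[K] K := fun j => ((-1 : K) ^ j) • LinearMap.id
  set c : Bv 5 → K := fun w => colOf ev 1 (fun _ => 1) (valCode list25 (toNum w)) with hc
  have hcz : ∀ w, c w = 0 ↔ valCode list25 (toNum w) = none := by
    intro w
    rcases h : valCode list25 (toNum w) with _ | ⟨k, t⟩ <;> simp [hc, h, colOf, ev]
  have hsq : ∀ w, c w ≠ 0 → c w ^ 2 = 1 := by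
    intro w hw
    rcases h : valCode list25 (toNum w) with _ | ⟨k, t⟩
    · exact absurd ((hcz w).2 h) hw
    · simp [hc, h, colOf, ev, ← pow_mul, mul_comm _ 2, pow_mul, neg_one_pow_eq_or]
  have hgen : ∀ w, c w = 0 → ∃ v v', c v ≠ 0 ∧ c v' ≠ 0 ∧ w = v + v' := by
    intro w hw
    obtain ⟨x, y, hx, hy, hxy⟩ := code25_gen ⟨toNum w, toNum_lt w⟩ ((hcz w).1 hw)
    refine ⟨toVec 5 x, toVec 5 y, ?_, ?_, ?_⟩
    · rw [Ne, hcz, toNum_toVec x.2]; exact hx
    · rw [Ne, hcz, toNum_toVec y.2]; exact hy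
    · rw [← toVec_xor, hxy]; exact (toVec_toNum w).symm
  refine ⟨⟨c, ?_, hsq, hgen, fun a τ b h hcol => ?_⟩⟩
  · simp [hc, toNum_zero, valCode, list25, colOf, ev]
  have hτ2 : ∀ w, τ w ^ 2 = 1 := by
    have hsupp : ∀ w, c w ≠ 0 → τ w ^ 2 = 1 := fun w hw => by
      have h1 := hcol w
      have haw : c (a w) ≠ 0 := h1 ▸ mul_ne_zero (h.τ_ne_zero w) hw
      have h3 := congrArg (· ^ 2) h1
      simp only [mul_pow, hsq _ hw, hsq _ haw, mul_one] at h3
      exact h3.symm
    intro w
    by_cases hw : c w = 0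
    · obtain ⟨v, v', hv, hv', rfl⟩ := hgen w hw
      rw [h.τ_add, mul_pow, h.b_pow, mul_pow, hsupp _ hv, hsupp _ hv', one_mul, one_mul]
    · exact hsupp w hw
  let τn : Bv 5 → ℕ := fun w => if τ w = 1 then 0 else 1
  have hev : ∀ w, ev (τn w) = τ w • LinearMap.id := by
    intro w
    rcases sq_eq_one_iff.1 (hτ2 w) with e | e
    · simp [τn, e, ev]
    · have : (-1 : K) ≠ 1 := fun e => h2 (by linear_combination -e)
      simp [τn, e, ev, this]
  have hfin := rigid_of_check check2_val5 code25_valid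
    (tblRep_two (r := fun _ => (1 : K)) h2 one_pos (fun _ _ => one_ne_zero)
      (fun k hk k' hk' _ => by omega))
    h.inj τn (fun w => by simp only [τn, tbl2]; split <;> norm_num)
    (by show ev _ = _; rw [hev, h.τ_zero, one_smul])
    h.b_left h.b_pow h2 (fun x y => by
      show ev _ = b x y • (ev _).comp (ev _)
      rw [hev, hev, hev, h.τ_add]
      ext
      simp [mul_comm, mul_assoc, mul_left_comm])
    (fun w => by
      show c (a w) = ev (τn w) (c w)
      rw [hcol, hev]
      simp)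
  refine ⟨fun w => (hfin w).1, fun w => ?_⟩
  have h3 : ev (τn w) = LinearMap.id := (hfin w).2
  rw [hev] at h3
  simpa using LinearMap.congr_fun h3 1

/-- The colouring in dimension at least six. -/
noncomputable def bigSign (hn : 6 ≤ n) (h2 : (2 : K) ≠ 0) : SignColour K n where
  col := bigColour K n
  col_zero := bigColour_zero (by omega)
  col_sq := fun w hw => by
    classical
    simp only [bigColour] at hw ⊢
    split_ifs with h1 h2 <;> simp_all
  gen := by
    classical
    intro w hw
    obtain ⟨i, rfl⟩ : ∃ i, w = bas i := by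
      by_contra hne
      rw [bigColour, if_neg hne] at hw
      split_ifs at hw
      · exact neg_ne_zero.2 one_ne_zero hw
      · exact one_ne_zero hw
    obtain ⟨j, hj, k, hk, hjk⟩ := Finset.one_lt_card.1
      (show 1 < (({i} : Finset (Fin n))ᶜ).card by
        rw [Finset.card_compl, Fintype.card_fin, Finset.card_singleton]; omega)
    simp only [Finset.mem_compl, Finset.mem_singleton] at hj hk
    have hne : ∀ (w : Bv n) (p q : Fin n), p ≠ q → w p = 1 → w q = 1 → bigColour K n w ≠ 0 := by
      intro w p q hpq hp hq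
      rw [bigColour, if_neg]
      · split <;> simp
      · rintro ⟨m, rfl⟩
        rw [bas_apply] at hp hq
        split_ifs at hp hq with e1 e2
        · exact hpq (e1.trans e2.symm)
        all_goals simp_all
    refine ⟨bas i + bas j + bas k, bas j + bas k, hne _ i j (Ne.symm hj) ?_ ?_,
      hne _ j k hjk ?_ ?_, ?_⟩
    iterate 4 simp [bas_apply, hj, hk, hjk, Ne.symm hj, Ne.symm hk, Ne.symm hjk]
    rw [add_assoc (bas i), add_assoc]
    exact (add_eq_left.2 (bv_add_self _)).symm
  rigid := fun _ _ _ h hc => rigid_big hn h2 h hc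

/-- The hypothesis that the classes `t ^ k` are separated. -/
def Sep3 (t : K) : Prop := t ≠ 0 ∧ t ^ 4 ≠ 1 ∧ t ^ 8 ≠ 1

theorem Sep3.pow_four {t : K} (h : Sep3 t) :
    ∀ k < 3, ∀ k' < 3, (t ^ k) ^ 4 = (t ^ k') ^ 4 → k = k' := by
  intro k hk k' hk' e
  obtain ⟨h0, h4, h8⟩ := h
  interval_cases k <;> interval_cases k' <;> first | rfl | (exfalso; ring_nf at e; first
    | exact h4 e | exact h4 e.symm | exact h8 e | exact h8 e.symm
    | exact h4 (mul_right_cancel₀ (pow_ne_zero 4 h0) (by linear_combination e))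
    | exact h4 (mul_right_cancel₀ (pow_ne_zero 4 h0) (by linear_combination -e)))

/-- Small dimensions with three classes. -/
theorem lineRigid_class (h2 : (2 : K) ≠ 0) {t : K} (ht : Sep3 t) {code : ℕ → Option (ℕ × ℕ)}
    (h0 : code 0 = some (0, 0)) (c2 : monCheck tbl2 code n = true)
    (c4 : monCheck tbl4 code n = true) (v2 : codeValid 2 3 n code = true)
    (v4 : codeValid 4 3 n code = true) (hz : ∀ v k s, code v = some (k, s) → s = 0) :
    LineRigid K 2 n := by
  classical
  refine ⟨fun w => match code (toNum w) with | none => 0 | some (k, _) => t ^ k, by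
    simp [toNum_zero, h0], fun a τ b h hc => ?_⟩
  have hr : ∀ k < 3, t ^ k ≠ 0 := fun k _ => pow_ne_zero k ht.1
  have hcol : ∀ (ev : ℕ → K →ₗ[K] K), ev 0 = LinearMap.id → ∀ w : Bv n,
      colOf ev (1 : K) (fun k => t ^ k) (code (toNum w)) =
        (match code (toNum w) with | none => 0 | some (k, _) => t ^ k) := by
    intro ev he w
    rcases hw : code (toNum w) with _ | ⟨k, s⟩
    · rfl
    · obtain rfl := hz _ _ _ hw
      simp [colOf, he]
  by_cases hi : ∃ ii : K, ii ^ 2 = -1
  · obtain ⟨ii, hii⟩ := hi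
    have hroot : ∀ w, ∃ j < 4, τ w = ii ^ j := by
      intro w
      have h4 := h.τ_pow_four w
      have : (τ w ^ 2 - 1) * (τ w ^ 2 + 1) = 0 := by linear_combination h4
      rcases mul_eq_zero.1 this with e | e
      · rcases sq_eq_one_iff.1 (show τ w ^ 2 = 1 by linear_combination e) with e | e
        · exact ⟨0, by norm_num, by rw [e, pow_zero]⟩
        · exact ⟨2, by norm_num, by rw [e, hii]⟩
      · rcases sq_eq_sq_iff_eq_or_eq_neg.1 (show τ w ^ 2 = ii ^ 2 by linear_combination e - hii)
          with e | e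
        · exact ⟨1, by norm_num, by rw [e, pow_one]⟩
        · exact ⟨3, by norm_num, by rw [e]; linear_combination -ii * hii⟩
    choose τn hτn hτ using hroot
    have hfin := rigid_of_check c4 v4 (tblRep_four h2 hii three_pos hr ht.pow_four) h.inj τn hτn
      (by rw [← hτ, h.τ_zero, one_smul]) h.b_left h.b_pow h2
      (fun x y => by
        rw [← hτ, ← hτ, ← hτ, h.τ_add]
        ext
        simp [mul_comm, mul_assoc, mul_left_comm])
      (fun w => by
        rw [hcol _ (by simp), hcol _ (by simp)]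
        exact (hc w).trans (by simp [← hτ]))
    refine ⟨fun w => (hfin w).1, fun w => ?_⟩
    simpa [← hτ] using LinearMap.congr_fun (hfin w).2 1
  · have hroot : ∀ w, ∃ j < 2, τ w = (-1 : K) ^ j := by
      intro w
      have h4 := h.τ_pow_four w
      have : (τ w ^ 2 - 1) * (τ w ^ 2 + 1) = 0 := by linear_combination h4
      rcases mul_eq_zero.1 this with e | e
      · rcases sq_eq_one_iff.1 (show τ w ^ 2 = 1 by linear_combination e) with e | e
        · exact ⟨0, by norm_num, by rw [e, pow_zero]⟩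
        · exact ⟨1, by norm_num, by rw [e, pow_one]⟩
      · exact absurd ⟨τ w, by linear_combination e⟩ hi
    choose τn hτn hτ using hroot
    have hfin := rigid_of_check c2 v2 (tblRep_two h2 three_pos hr ht.pow_four) h.inj τn hτn
      (by rw [← hτ, h.τ_zero, one_smul]) h.b_left h.b_pow h2
      (fun x y => by
        rw [← hτ, ← hτ, ← hτ, h.τ_add]
        ext
        simp [mul_comm, mul_assoc, mul_left_comm])
      (fun w => by
        rw [hcol _ (by simp), hcol _ (by simp)]
        exact (hc w).trans (by simp [← hτ]))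
    refine ⟨fun w => (hfin w).1, fun w => ?_⟩
    simpa [← hτ] using LinearMap.congr_fun (hfin w).2 1

/-- Dimension four with a fourth root of unity. -/
theorem lineRigid_four (h2 : (2 : K) ≠ 0) {ii : K} (hii : ii ^ 2 = -1) : LineRigid K 2 4 := by
  classical
  set ev : ℕ → K →ₗ[K] K := fun j => (ii ^ j) • LinearMap.id with hev
  refine ⟨fun w => colOf ev 1 (fun _ => 1) (valCode list44 (toNum w)), by
    simp [toNum_zero, valCode, list44, colOf, hev], fun a τ b h hc => ?_⟩
  have hroot : ∀ w, ∃ j < 4, τ w = ii ^ j := by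
    intro w
    have h4 := h.τ_pow_four w
    have : (τ w ^ 2 - 1) * (τ w ^ 2 + 1) = 0 := by linear_combination h4
    rcases mul_eq_zero.1 this with e | e
    · rcases sq_eq_one_iff.1 (show τ w ^ 2 = 1 by linear_combination e) with e | e
      · exact ⟨0, by norm_num, by rw [e, pow_zero]⟩
      · exact ⟨2, by norm_num, by rw [e, hii]⟩
    · rcases sq_eq_sq_iff_eq_or_eq_neg.1 (show τ w ^ 2 = ii ^ 2 by linear_combination e - hii)
        with e | e
      · exact ⟨1, by norm_num, by rw [e, pow_one]⟩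
      · exact ⟨3, by norm_num, by rw [e]; linear_combination -ii * hii⟩
  choose τn hτn hτ using hroot
  have hfin := rigid_of_check check4_val4 (N := 1) (by decide +kernel)
    (tblRep_four (r := fun _ => (1 : K)) h2 hii one_pos (fun _ _ => one_ne_zero)
      (fun k hk k' hk' _ => by omega))
    h.inj τn hτn (by rw [← hτ, h.τ_zero, one_smul]) h.b_left h.b_pow h2
    (fun x y => by
      rw [← hτ, ← hτ, ← hτ, h.τ_add]
      ext
      simp [mul_comm, mul_assoc, mul_left_comm])
    (fun w => (hc w).trans (by simp [← hτ, hev]))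
  refine ⟨fun w => (hfin w).1, fun w => ?_⟩
  simpa [← hτ] using LinearMap.congr_fun (hfin w).2 1

/-- All line colourings in index two when the field is large enough or the dimension is at least
five. -/
theorem lineRigid_two (h2 : (2 : K) ≠ 0)
    (h : n ≤ 1 ∨ 5 ≤ n ∨ (n = 4 ∧ IsSquare (-1 : K)) ∨ ∃ t : K, Sep3 t) : LineRigid K 2 n := by
  rcases lt_trichotomy n 5 with hn | rfl | hn
  · rcases Nat.lt_or_ge n 2 with h1 | h1
    · exact rigid_small (by omega) (Or.inl rfl)
    rcases h with h | h | ⟨rfl, ii, hii⟩ | ⟨t, ht⟩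
    · omega
    · omega
    · exact lineRigid_four h2 (ii := ii) (by rw [hii, pow_two])
    interval_cases n
    · exact lineRigid_class h2 ht rfl check2_class2 check4_class2 (by decide) (by decide)
        (fun v k s e => by
          simp only [classCode] at e; split at e <;> simp_all)
    · exact lineRigid_class h2 ht rfl check2_class3 check4_class3 (by decide) (by decide)
        (fun v k s e => by
          simp only [classCode] at e; split at e <;> simp_all)
    · exact lineRigid_class h2 ht rfl check2_class4 check4_class4 (by decide) (by decide)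
        (fun v k s e => by
          simp only [classCode] at e; split at e <;> simp_all)
  · obtain ⟨S⟩ := nonempty_signColour_five (K := K) h2
    exact S.lineRigid
  · exact (bigSign hn h2).lineRigid

/-- A colouring of the plane without monomial symmetries, with given value at zero. -/
def PlaneRigid (P : QuatOps K U) (n : ℕ) (u : U) : Prop :=
  ∃ c : Bv n → U, c 0 = u ∧ ∀ (a : Bv n →+ Bv n) (t : Bv n → U →ₗ[K] U) (b : Bv n → Bv n → K),
    Function.Injective a → (∀ w, ∃ s : K, ∃ k < 4, t w = s • P.E k) → t 0 = LinearMap.id →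
    (∀ x y z, b (x + y) z = b x z * b y z) → (∀ x y z, b x (y + z) = b x y * b x z) →
    (∀ x y, b x y ^ 2 = 1) → (∀ x y, t (x + y) = b x y • (t x).comp (t y)) →
    (∀ w, c (a w) = t w (c w)) → ∀ w, a w = w ∧ t w = LinearMap.id

/-- The multipliers are among the eight elements. -/
theorem QuatOps.exists_index (P : QuatOps K U) {u : U} (hu : u ≠ 0) {t : Bv n → U →ₗ[K] U}
    {b : Bv n → Bv n → K} (hk : ∀ w, ∃ s : K, ∃ k < 4, t w = s • P.E k)
    (h0 : t 0 = LinearMap.id) (hb2 : ∀ x y, b x y ^ 2 = 1)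
    (hadd : ∀ x y, t (x + y) = b x y • (t x).comp (t y)) (w : Bv n) :
    ∃ j < 8, t w = P.ev j := by
  obtain ⟨s, k, hk4, hs⟩ := hk w
  obtain ⟨e, he, hek, hE⟩ := P.E_sq' hk4
  have h1 := hadd w w
  rw [bv_add_self w,
    h0, hs, LinearMap.smul_comp, LinearMap.comp_smul, hE, smul_smul, smul_smul, smul_smul] at h1
  have h2 : (b w w * s * s * e) • u = (1 : K) • u := by
    rw [one_smul]; exact (LinearMap.congr_fun h1 u).symm
  have h3 : b w w * s * s * e = 1 := smul_left_injective K hu h2
  have hs2 : s ^ 2 = 1 := by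
    rcases sq_eq_one_iff.1 (hb2 w w) with e1 | e1 <;> rcases he with e2 | e2 <;> rw [e1, e2] at h3
    · linear_combination h3
    · exact absurd ⟨s, by linear_combination h3⟩ P.nonsq
    · exact absurd ⟨s, by linear_combination h3⟩ P.nonsq
    · linear_combination h3
  rcases sq_eq_one_iff.1 hs2 with e1 | e1
  · exact ⟨k, by omega, by rw [hs, e1, QuatOps.ev, Nat.div_eq_of_lt hk4, Nat.mod_eq_of_lt hk4, pow_zero]⟩
  · exact ⟨4 + k, by omega, by
      rw [hs, e1, QuatOps.ev, show (4 + k) / 4 = 1 by omega, show (4 + k) % 4 = k by omega, pow_one]⟩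

theorem planeRigid_of_check (P : QuatOps K U) {u : U} (hu : u ≠ 0) {N : ℕ} (hN : 0 < N)
    {r : ℕ → K} (hr0 : r 0 = 1) (hr : ∀ k < N, r k ≠ 0)
    (hsep : ∀ k < N, ∀ k' < N, r k ^ 2 = r k' ^ 2 → k = k') {code : ℕ → Option (ℕ × ℕ)}
    (h0 : code 0 = some (0, 0)) (hchk : monCheck tbl8 code n = true)
    (hval : codeValid 8 N n code = true) : PlaneRigid P n u := by
  refine ⟨fun w => colOf P.ev u r (code (toNum w)), ?_, ?_⟩
  · simp [toNum_zero, h0, colOf, hr0, QuatOps.ev, QuatOps.E]
  intro a t b ha hk h0t hb1 _ hb2 hadd hc w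
  choose τ hτ8 hτ using P.exists_index hu hk h0t hb2 hadd
  obtain ⟨h1, h2⟩ := rigid_of_check hchk hval (P.tblRep hu hN hr hsep) ha τ hτ8
    (by rw [← hτ, h0t]) hb1 hb2 P.two_ne (fun x y => by rw [← hτ, ← hτ, ← hτ, hadd])
    (fun w => by rw [← hτ]; exact hc w) w
  exact ⟨h1, by rw [hτ, h2]⟩

theorem planeRigid_of_sign (P : QuatOps K U) {u : U} (hu : u ≠ 0) (S : SignColour K n) :
    PlaneRigid P n u := by
  classical
  refine ⟨fun w => S.col w • u, by simp [S.col_zero], ?_⟩
  intro a t b ha hk h0t hb1 hbr hb2 hadd hc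
  choose τ hτ8 hτ using P.exists_index hu hk h0t hb2 hadd
  have R := P.tblRep hu one_pos (r := fun _ => (1 : K)) (fun _ _ => one_ne_zero)
    (fun k hk k' hk' _ => by omega)
  have hinj : ∀ w, ∀ z, t w z = 0 → z = 0 := by
    intro w z hz
    have h1 := LinearMap.congr_fun (hadd w w) z
    rw [bv_add_self w,
      h0t, LinearMap.smul_apply, LinearMap.comp_apply, hz, map_zero, smul_zero] at h1
    exact h1
  have hsupp : ∀ w, S.col w ≠ 0 → τ w % 4 = 0 := by
    intro w hw
    have h1 := hc w
    dsimp only at h1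
    rw [LinearMap.map_smul] at h1
    have haw : S.col (a w) ≠ 0 := fun e => by
      rw [e, zero_smul] at h1
      exact hu (hinj w u ((smul_eq_zero.1 h1.symm).resolve_left hw))
    obtain ⟨j, hj, hej⟩ : ∃ j, (j = 0 ∨ j = 4) ∧
        S.col (a w) • u = S.col w • P.ev j u := by
      rcases sq_eq_one_iff.1 (S.col_sq _ haw) with e | e <;>
        rcases sq_eq_one_iff.1 (S.col_sq _ hw) with e' | e' <;> rw [e, e']
      · exact ⟨0, Or.inl rfl, by simp [QuatOps.ev, QuatOps.E]⟩
      · exact ⟨4, Or.inr rfl, by simp [QuatOps.ev, QuatOps.E]⟩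
      · exact ⟨4, Or.inr rfl, by simp [QuatOps.ev, QuatOps.E]⟩
      · exact ⟨0, Or.inl rfl, by simp [QuatOps.ev, QuatOps.E]⟩
    rw [hej, hτ] at h1
    have h2 := smul_right_injective U hw h1
    have := (R.sep j (by rcases hj with rfl | rfl <;> decide) (τ w) (hτ8 w) 0 one_pos 0 one_pos
      (by simpa using h2)).2
    rcases hj with rfl | rfl <;> omega
  have hτadd : ∀ x y, τ x % 4 = 0 → τ y % 4 = 0 → τ (x + y) % 4 = 0 := by
    intro x y hx hy
    rcases sq_eq_one_iff.1 (hb2 x y) with e | e
    · have := R.inj (hτ8 (x + y)) (R.mul_lt _ (hτ8 x) _ (hτ8 y))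
        (by rw [← hτ, hadd, e, one_smul, P.ev_mul, ← hτ, ← hτ])
      rw [this]
      simp [tbl8, hx, hy]
    · have hlt := R.mul_lt _ (hτ8 x) _ (hτ8 y)
      have := R.inj (hτ8 (x + y)) (R.mul_lt 4 R.neg_lt _ hlt)
        (by rw [← hτ, hadd, e, P.ev_mul, P.ev_mul, ← hτ, ← hτ, show P.ev 4 = _ from R.ev_neg]
            ext; simp)
      rw [this]
      simp [tbl8, hx, hy]
  have hall : ∀ w, τ w % 4 = 0 := by
    intro w
    by_cases hw : S.col w = 0
    · obtain ⟨x, y, hx, hy, rfl⟩ := S.gen w hw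
      exact hτadd x y (hsupp x hx) (hsupp y hy)
    · exact hsupp w hw
  let σ : Bv n → K := fun w => (-1) ^ (τ w / 4)
  have hσ : ∀ w, t w = σ w • LinearMap.id := fun w => by
    rw [hτ, QuatOps.ev, hall]; rfl
  have hid : ∀ k : K, k • (LinearMap.id : U →ₗ[K] U) = LinearMap.id → k = 1 := fun k e => by
    refine smul_left_injective K hu ?_
    have := LinearMap.congr_fun e u
    simpa using this
  have hsym : LSym a σ b :=
    ⟨ha, hid _ (by rw [← hσ, h0t]), hb1, hbr, hb2, fun x y => by
      refine smul_left_injective K hu ?_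
      have h1 := LinearMap.congr_fun (hadd x y) u
      rw [hσ, hσ, hσ] at h1
      simpa [smul_smul, mul_comm, mul_assoc, mul_left_comm] using h1⟩
  have hcol : ∀ w, S.col (a w) = σ w * S.col w := fun w => by
    refine smul_left_injective K hu ?_
    have h1 := hc w
    rw [hσ] at h1
    simpa [smul_smul, mul_comm] using h1
  obtain ⟨h1, h2⟩ := S.rigid a σ b hsym hcol
  exact fun w => ⟨h1 w, by rw [hσ, h2, one_smul]⟩

/-- All plane colourings except dimension two over a field too small. -/
theorem planeRigid_all (P : QuatOps K U) {u : U} (hu : u ≠ 0)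
    (h : n ≠ 2 ∨ ∃ t : K, Sep3 t) : PlaneRigid P n u := by
  have hone : ∀ k < 1, ∀ k' < 1, ((1 : K)) ^ 2 = 1 ^ 2 → k = k' := fun k hk k' hk' _ => by omega
  rcases lt_trichotomy n 5 with hn | rfl | hn
  · interval_cases n
    · exact planeRigid_of_check P hu one_pos (r := fun _ => 1) rfl (fun _ _ => one_ne_zero) hone
        (code := classCode (classList 0)) rfl check8_class0 (by decide)
    · exact planeRigid_of_check P hu one_pos (r := fun _ => 1) rfl (fun _ _ => one_ne_zero) hone
        (code := classCode (classList 1)) rfl check8_class1 (by decide)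
    · obtain ⟨t, ht⟩ := h.resolve_left (by simp)
      refine planeRigid_of_check P hu three_pos (r := fun k => t ^ k) (pow_zero t)
        (fun k _ => pow_ne_zero k ht.1) (fun k hk k' hk' e => ht.pow_four k hk k' hk' ?_)
        (code := classCode (classList 2)) rfl check8_class2 (by decide)
      linear_combination ((t ^ k) ^ 2 + (t ^ k') ^ 2) * e
    · exact planeRigid_of_check P hu one_pos (r := fun _ => 1) rfl (fun _ _ => one_ne_zero) hone
        (code := valCode list83) rfl check8_val3 (by decide)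
    · exact planeRigid_of_check P hu one_pos (r := fun _ => 1) rfl (fun _ _ => one_ne_zero) hone
        (code := valCode list84) rfl check8_val4 (by decide)
  · obtain ⟨S⟩ := nonempty_signColour_five (K := K) P.two_ne
    exact planeRigid_of_sign P hu S
  · exact planeRigid_of_sign P hu (bigSign hn P.two_ne)

end CfsgLib.Char.CoprimeBase
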