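import Cfsg.Agent.Lib.Char.CoprimeBase.Monomial

/-!
# The space as a sum of translates, the two shapes of the fixed space, and monomial symmetries
-/

set_option autoImplicit false
set_option linter.unusedSectionVars false
set_option linter.style.haveILetI false

namespace CfsgLib.Char.CoprimeBase

universe u

variable {K V : Type u} [Field K] [AddCommGroup V] [Module K V] [Finite V] [Nontrivial V]
  {D : Subgroup (V ≃ₗ[K] V)} {l : ℕ}

namespace Mono

variable (m : Mono D l)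

/-- The fixed space of the stabiliser. -/
def U0 : Submodule K V := fixSp (stabD D m.x)

/-- The elements commuting with the stabiliser and the translations. -/
def T : Subgroup (V ≃ₗ[K] V) :=
  D ⊓ (Subgroup.centralizer (stabD D m.x : Set (V ≃ₗ[K] V)) ⊓
    Subgroup.centralizer (Set.range m.dW))

theorem mem_T {t : V ≃ₗ[K] V} : t ∈ m.T ↔ t ∈ D ∧ (∀ ℓ ∈ stabD D m.x, Commute t ℓ) ∧
    ∀ w, Commute t (m.dW w) := by
  constructor
  · rintro ⟨h1, h2, h3⟩
    exact ⟨h1, fun ℓ hℓ => (Subgroup.mem_centralizer_iff.1 h2 ℓ hℓ).symm,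
      fun w => (Subgroup.mem_centralizer_iff.1 h3 _ ⟨w, rfl⟩).symm⟩
  · rintro ⟨h1, h2, h3⟩
    exact ⟨h1, Subgroup.mem_centralizer_iff.2 fun ℓ hℓ => (h2 ℓ hℓ).symm,
      Subgroup.mem_centralizer_iff.2 fun _ ⟨w, e⟩ => e ▸ (h3 w).symm⟩

theorem x_mem : m.x ∈ m.U0 := fun _ hℓ => hℓ.2

theorem dW_zero : m.dW 0 = 1 := by
  have h := m.dW_add 0 0
  rw [add_zero] at h
  exact left_eq_mul.1 h

theorem T_mapsTo {t : V ≃ₗ[K] V} (ht : t ∈ m.T) {z : V} (hz : z ∈ m.U0) : t z ∈ m.U0 := by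
  intro ℓ hℓ
  have h := LinearEquiv.congr_fun ((m.mem_T.1 ht).2.1 ℓ hℓ).eq z
  rw [LinearEquiv.mul_apply, LinearEquiv.mul_apply, hz ℓ hℓ] at h
  exact h.symm

variable (hA : AIrr D l)
include hA

theorem decompT {d : V ≃ₗ[K] V} (hd : d ∈ D) :
    ∃ w, ∃ t ∈ m.T, ∃ ℓ ∈ stabD D m.x, d = m.dW w * t * ℓ := by
  obtain ⟨w, t, ℓ, h1, h2, h3, h4, h5⟩ := m.decomp d hd
  exact ⟨w, t, m.mem_T.2 ⟨h1, h2, h3⟩, ℓ, h4, h5⟩

theorem ell_apply (w : Fin m.n → ZMod l) {ℓ : V ≃ₗ[K] V} (hℓ : ℓ ∈ stabD D m.x) {z : V}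
    (hz : z ∈ m.U0) : ℓ (m.dW w z) = (cmt (m.dW w) ℓ : K) • m.dW w z := by
  have h := LinearEquiv.congr_fun (cmt_spec hA.heis (m.dW_mem w) hℓ.1) z
  rw [LinearEquiv.mul_apply, LinearEquiv.mul_apply, scal_apply, LinearEquiv.mul_apply, hz ℓ hℓ]
    at h
  exact h

theorem sum_eq_zero [Fact l.Prime] {c : (Fin m.n → ZMod l) → V} (hc : ∀ w, c w ∈ m.U0)
    (h : ∑ w, m.dW w (c w) = 0) : ∀ w, c w = 0 := by
  classical
  let L := stabD D m.x
  let χ : (Fin m.n → ZMod l) → (L →* K) := fun w =>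
    { toFun := fun ℓ => ((cmt (m.dW w) (ℓ : V ≃ₗ[K] V) : Kˣ) : K)
      map_one' := by
        rw [OneMemClass.coe_one, (cmt_eq_one_iff hA.heis (m.dW_mem w) (one_mem D)).2
          (Commute.one_left _), Units.val_one]
      map_mul' := fun a b => by
        rw [Subgroup.coe_mul, cmt_mul_right hA.heis (m.dW_mem w) a.2.1 b.2.1, Units.val_mul] }
  have hχ : Function.Injective χ := by
    intro v w e
    have h1 : ∀ ℓ ∈ L, Commute (m.dW (w - v)) ℓ := fun ℓ hℓ => by
      refine ((cmt_eq_one_iff hA.heis (m.dW_mem _) hℓ.1).1 ?_).symm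
      have e1 : cmt (m.dW w) ℓ = cmt (m.dW v) ℓ := Units.ext (DFunLike.congr_fun e ⟨ℓ, hℓ⟩).symm
      have e2 : cmt (m.dW w) ℓ = cmt (m.dW (w - v)) ℓ * cmt (m.dW v) ℓ := by
        rw [← cmt_mul_left hA.heis (m.dW_mem _) (m.dW_mem _) hℓ.1, ← m.dW_add, sub_add_cancel]
      rw [e1] at e2
      exact right_eq_mul.1 e2
    exact (sub_eq_zero.1 (m.char_inj _ h1)).symm
  intro w
  haveI : Module.Finite K V := Module.Finite.of_finite
  refine (m.dW w).map_eq_zero_iff.1 ((Module.forall_dual_apply_eq_zero_iff K _).1 fun φ => ?_)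
  have hLI := ((linearIndependent_monoidHom L K).comp χ hχ)
  refine Fintype.linearIndependent_iff.1 hLI (fun w => φ (m.dW w (c w))) ?_ w
  funext ℓ
  rw [Finset.sum_apply, Pi.zero_apply]
  have h2 := congrArg (fun v => φ ((ℓ : V ≃ₗ[K] V) v)) h
  simp only [map_sum, map_zero] at h2
  rw [← h2]
  refine Finset.sum_congr rfl fun v _ => ?_
  rw [m.ell_apply hA v ℓ.2 (hc v), map_smul]
  show φ (m.dW v (c v)) * χ v ℓ = _
  rw [smul_eq_mul, mul_comm]
  rfl

theorem exists_sum [Fact l.Prime] (v : V) :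
    ∃ c : (Fin m.n → ZMod l) → V, (∀ w, c w ∈ m.U0) ∧ v = ∑ w, m.dW w (c w) := by
  classical
  let S : Submodule K V := ⨆ w, m.U0.map (m.dW w : V →ₗ[K] V)
  have hS : S = ⊤ := by
    refine (hA.irr S ?_).resolve_left fun e => m.x_ne ?_
    · intro d hd v hv
      induction hv using Submodule.iSup_induction' with
      | mem w y hy =>
        obtain ⟨z, hz, rfl⟩ := hy
        obtain ⟨u, t, ht, ℓ, hℓ, rfl⟩ := m.decompT hA hd
        refine Submodule.mem_iSup_of_mem (u + w)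
          ⟨(cmt (m.dW w) ℓ : K) • t z, m.U0.smul_mem _ (m.T_mapsTo ht hz), ?_⟩
        show m.dW (u + w) ((cmt (m.dW w) ℓ : K) • t z) = (m.dW u * t * ℓ) (m.dW w z)
        rw [LinearEquiv.mul_apply, m.ell_apply hA w hℓ hz, LinearEquiv.map_smul, LinearEquiv.map_smul,
          LinearEquiv.mul_apply, m.dW_add, LinearEquiv.mul_apply]
        have := LinearEquiv.congr_fun ((m.mem_T.1 ht).2.2 w).eq z
        rw [LinearEquiv.mul_apply, LinearEquiv.mul_apply] at this
        rw [this]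
      | zero => rw [map_zero]; exact zero_mem _
      | add a b _ _ ha hb => rw [map_add]; exact add_mem ha hb
    · have : m.x ∈ S := Submodule.mem_iSup_of_mem 0 ⟨m.x, m.x_mem, by rw [m.dW_zero]; rfl⟩
      rw [e, Submodule.mem_bot] at this
      exact this
  have hv : v ∈ S := hS ▸ Submodule.mem_top
  induction hv using Submodule.iSup_induction' with
  | mem w y hy =>
    obtain ⟨z, hz, rfl⟩ := hy
    refine ⟨fun u => if u = w then z else 0, fun u => ?_, ?_⟩
    · dsimp only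
      split
      · exact hz
      · exact zero_mem _
    · rw [Finset.sum_eq_single w (fun u _ hu => by simp [hu]) (fun h => absurd (Finset.mem_univ w) h)]
      simp
  | zero => exact ⟨0, fun u => zero_mem _, by simp⟩
  | add a b _ _ ha hb =>
    obtain ⟨c, hc, rfl⟩ := ha
    obtain ⟨c', hc', rfl⟩ := hb
    exact ⟨c + c', fun u => add_mem (hc u) (hc' u), by simp [Finset.sum_add_distrib]⟩

theorem translate_eq [Fact l.Prime] {v w : Fin m.n → ZMod l} {y z : V} (hy : y ∈ m.U0)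
    (hz : z ∈ m.U0) (hy0 : y ≠ 0) (h : m.dW v y = m.dW w z) : v = w := by
  classical
  by_contra hne
  refine hy0 ?_
  have h1 := m.sum_eq_zero hA
    (c := fun u => if u = v then y else if u = w then -z else 0) (fun u => by
      split
      · exact hy
      · split
        · exact neg_mem hz
        · exact zero_mem _) (by
      rw [← Finset.sum_subset (Finset.subset_univ {v, w}) (fun u _ hu => ?_), Finset.sum_pair hne]
      · simp [hne, Ne.symm hne, h]
      · simp only [Finset.mem_insert, Finset.mem_singleton, not_or] at hu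
        simp [hu.1, hu.2]) v
  simpa using h1

/-- An endomorphism of the fixed space commuting with `T` is a scalar. -/
theorem exists_scalar_of_commute [Fact l.Prime] (f : m.U0 →ₗ[K] m.U0)
    (hf : ∀ t (ht : t ∈ m.T) (z : m.U0),
      (f ⟨t z, m.T_mapsTo ht z.2⟩ : V) = t (f z : V)) : ∃ c : K, ∀ z, f z = c • z := by
  classical
  have htop : EIrr D (⊤ : Submodule K V) :=
    ⟨top_ne_bot, fun _ _ _ _ => Submodule.mem_top, fun U _ hU => hA.irr U hU⟩
  let Ψ : ((Fin m.n → ZMod l) → m.U0) →ₗ[K] V :=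
    { toFun := fun c => ∑ w, m.dW w (c w : V)
      map_add' := fun a b => by simp [Finset.sum_add_distrib]
      map_smul' := fun k a => by simp [Finset.smul_sum] }
  have hΨ : Function.Bijective Ψ := by
    refine ⟨(injective_iff_map_eq_zero Ψ).2 fun c hc => ?_, fun v => ?_⟩
    · exact funext fun w => Subtype.ext (m.sum_eq_zero hA (fun w => (c w).2) hc w)
    · obtain ⟨c, hc, hv⟩ := m.exists_sum hA v
      exact ⟨fun w => ⟨c w, hc w⟩, hv.symm⟩
  let e := LinearEquiv.ofBijective Ψ hΨ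
  let F : V →ₗ[K] V :=
    (Ψ.comp (LinearMap.pi fun w => f.comp (LinearMap.proj w))).comp e.symm.toLinearMap
  have hF : ∀ (w : Fin m.n → ZMod l) (z : m.U0), F (m.dW w (z : V)) = m.dW w (f z : V) := by
    intro w z
    have h1 : e.symm (m.dW w (z : V)) = fun u => if u = w then z else 0 := by
      rw [LinearEquiv.symm_apply_eq]
      show m.dW w (z : V) = ∑ u, m.dW u ((if u = w then z else 0 : m.U0) : V)
      rw [Finset.sum_eq_single w (fun u _ hu => by simp [hu]) (fun h => absurd (Finset.mem_univ w) h)]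
      simp
    show Ψ (fun u => f (e.symm (m.dW w (z : V)) u)) = _
    rw [h1]
    show ∑ u, m.dW u ((f (if u = w then z else 0) : m.U0) : V) = _
    rw [Finset.sum_eq_single w (fun u _ hu => by simp [hu]) (fun h => absurd (Finset.mem_univ w) h),
      if_pos rfl]
  have hFd : ∀ d ∈ D, ∀ v : V, F (d v) = d (F v) := by
    intro d hd v
    obtain ⟨c, hc, rfl⟩ := m.exists_sum hA v
    simp only [map_sum]
    refine Finset.sum_congr rfl fun w _ => ?_
    obtain ⟨u, t, ht, ℓ, hℓ, rfl⟩ := m.decompT hA hd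
    have hcomm : ∀ z, t (m.dW w z) = m.dW w (t z) := fun z => by
      have := LinearEquiv.congr_fun ((m.mem_T.1 ht).2.2 w).eq z
      rwa [LinearEquiv.mul_apply, LinearEquiv.mul_apply] at this
    have key : ∀ z ∈ m.U0, (m.dW u * t * ℓ) (m.dW w z) =
        (cmt (m.dW w) ℓ : K) • m.dW (u + w) (t z) := fun z hz => by
      rw [LinearEquiv.mul_apply, m.ell_apply hA w hℓ hz, LinearEquiv.map_smul, LinearEquiv.mul_apply,
        hcomm, m.dW_add, LinearEquiv.mul_apply]
    rw [key _ (hc w), map_smul, hF (u + w) ⟨t (c w), m.T_mapsTo ht (hc w)⟩, hF w ⟨c w, hc w⟩,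
      key _ (f ⟨c w, hc w⟩).2, hf t ht ⟨c w, hc w⟩]
  obtain ⟨c, hc⟩ := (exists_spanAlg_eq hA.heis htop).1
    (((LinearMap.id : V →ₗ[K] V).comp F).restrict (p := (⊤ : Submodule K V)) (q := ⊤)
      fun _ _ => Submodule.mem_top) fun d hd v => hFd d hd v
  refine ⟨c, fun z => Subtype.ext ?_⟩
  have h1 := congrArg Subtype.val (hc ⟨(z : V), Submodule.mem_top⟩)
  change F (z : V) = c • (z : V) at h1
  have h2 := hF 0 z
  rw [m.dW_zero] at h2
  exact h2.symm.trans h1

/-- The fixed space is irreducible for `T`. -/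
theorem eq_of_invariant [Fact l.Prime] (Y : Submodule K V) (hY : Y ≤ m.U0)
    (hinv : ∀ t ∈ m.T, ∀ y ∈ Y, t y ∈ Y) (hY0 : Y ≠ ⊥) : ∀ z ∈ m.U0, z ∈ Y := by
  classical
  let S : Submodule K V := ⨆ w, Y.map (m.dW w : V →ₗ[K] V)
  have hS : S = ⊤ := by
    refine (hA.irr S ?_).resolve_left fun e => hY0 ?_
    · intro d hd v hv
      induction hv using Submodule.iSup_induction' with
      | mem w y hy =>
        obtain ⟨z, hz, rfl⟩ := hy
        obtain ⟨u, t, ht, ℓ, hℓ, rfl⟩ := m.decompT hA hd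
        refine Submodule.mem_iSup_of_mem (u + w)
          ⟨(cmt (m.dW w) ℓ : K) • t z, Y.smul_mem _ (hinv t ht z hz), ?_⟩
        show m.dW (u + w) ((cmt (m.dW w) ℓ : K) • t z) = (m.dW u * t * ℓ) (m.dW w z)
        rw [LinearEquiv.mul_apply, m.ell_apply hA w hℓ (hY hz), LinearEquiv.map_smul,
          LinearEquiv.map_smul, LinearEquiv.mul_apply, m.dW_add, LinearEquiv.mul_apply]
        have := LinearEquiv.congr_fun ((m.mem_T.1 ht).2.2 w).eq z
        rw [LinearEquiv.mul_apply, LinearEquiv.mul_apply] at this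
        rw [this]
      | zero => rw [map_zero]; exact zero_mem _
      | add a b _ _ ha hb => rw [map_add]; exact add_mem ha hb
    · rw [Submodule.eq_bot_iff]
      intro y hy
      have : y ∈ S := Submodule.mem_iSup_of_mem 0 ⟨y, hy, by rw [m.dW_zero]; rfl⟩
      rw [e, Submodule.mem_bot] at this
      exact this
  intro z hz
  have hsum : ∀ v ∈ S, ∃ c : (Fin m.n → ZMod l) → V, (∀ w, c w ∈ Y) ∧ v = ∑ w, m.dW w (c w) := by
    intro v hv
    induction hv using Submodule.iSup_induction' with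
    | mem w y hy =>
      obtain ⟨z, hz, rfl⟩ := hy
      refine ⟨fun u => if u = w then z else 0, fun u => ?_, ?_⟩
      · dsimp only
        split
        · exact hz
        · exact zero_mem _
      · rw [Finset.sum_eq_single w (fun u _ hu => by simp [hu]) (fun h => absurd (Finset.mem_univ w) h)]
        simp
    | zero => exact ⟨0, fun u => zero_mem _, by simp⟩
    | add a b _ _ ha hb =>
      obtain ⟨c, hc, rfl⟩ := ha
      obtain ⟨c', hc', rfl⟩ := hb
      exact ⟨c + c', fun u => add_mem (hc u) (hc' u), by simp [Finset.sum_add_distrib]⟩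
  obtain ⟨c, hc, hcz⟩ := hsum z (hS ▸ Submodule.mem_top)
  have h1 := m.sum_eq_zero hA (c := fun w => c w - if w = 0 then z else 0)
    (fun w => sub_mem (hY (hc w)) (by split <;> [exact hz; exact zero_mem _])) (by
      simp only [map_sub, Finset.sum_sub_distrib, ← hcz]
      rw [Finset.sum_eq_single 0 (fun u _ hu => by simp [hu]) (fun h => absurd (Finset.mem_univ _) h)]
      simp [m.dW_zero]) 0
  simp only [if_true, sub_eq_zero] at h1
  exact h1 ▸ hc 0

/-- An element of `T` of exponent `l` is scalar on the fixed space. -/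
theorem scalar_of_pow [Fact l.Prime] {ζ : Kˣ} (hζ : orderOf ζ = l) (hlK : (l : K) ≠ 0)
    {t : V ≃ₗ[K] V} (ht : t ∈ m.T) (htl : t ^ l = 1) :
    ∃ c : Kˣ, ∀ z ∈ m.U0, t z = (c : K) • z := by
  classical
  have hl : 0 < l := (Fact.out : l.Prime).pos
  have hζl : ((ζ : K)) ^ l = 1 := by
    rw [← Units.val_pow_eq_pow_val, ← hζ, pow_orderOf_eq_one, Units.val_one]
  let zk : ℕ → V := fun k => ∑ i ∈ Finset.range l, ((ζ : K) ^ k) ^ i • (t ^ i) m.x
  have hmem : ∀ i, (t ^ i) m.x ∈ m.U0 := fun i => m.T_mapsTo (pow_mem ht i) m.x_mem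
  have heig : ∀ k, ((ζ : K) ^ k) • t (zk k) = zk k := by
    intro k
    simp only [zk, map_sum, LinearEquiv.map_smul, Finset.smul_sum, smul_smul]
    have hstep : ∀ i, (((ζ : K) ^ k) * ((ζ : K) ^ k) ^ i) • t ((t ^ i) m.x) =
        ((ζ : K) ^ k) ^ (i + 1) • (t ^ (i + 1)) m.x := fun i => by
      rw [← pow_succ', ← LinearEquiv.mul_apply, ← pow_succ']
    simp only [hstep]
    set F : ℕ → V := fun i => ((ζ : K) ^ k) ^ i • (t ^ i) m.x
    have h0 : F l = F 0 := by
      simp only [F, ← pow_mul, mul_comm k l]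
      rw [pow_mul, hζl, one_pow, htl]
      simp
    show ∑ i ∈ Finset.range l, F (i + 1) = ∑ i ∈ Finset.range l, F i
    have h1 := Finset.sum_range_succ' F l
    rw [Finset.sum_range_succ, h0] at h1
    exact (add_right_cancel h1).symm
  obtain ⟨k, hk⟩ : ∃ k, zk k ≠ 0 := by
    by_contra hcon
    push Not at hcon
    refine m.x_ne ((smul_eq_zero.1 ?_).resolve_left hlK)
    have h1 : ∑ k ∈ Finset.range l, zk k = (l : K) • m.x := by
      simp only [zk]
      rw [Finset.sum_comm, Finset.sum_eq_single 0]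
      · simp [Nat.cast_smul_eq_nsmul]
      · intro i hi hi0
        rw [← Finset.sum_smul]
        have hne : (ζ : K) ^ i ≠ 1 := fun e => by
          have h2 : ζ ^ i = 1 := Units.ext (by rw [Units.val_pow_eq_pow_val, e, Units.val_one])
          have h3 := Nat.le_of_dvd (Nat.pos_of_ne_zero hi0) (hζ ▸ orderOf_dvd_of_pow_eq_one h2)
          rw [Finset.mem_range] at hi
          omega
        have hgeo : ∑ k ∈ Finset.range l, ((ζ : K) ^ k) ^ i = 0 := by
          simp_rw [← pow_mul, mul_comm _ i, pow_mul]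
          rw [geom_sum_eq hne, ← pow_mul, mul_comm, pow_mul, hζl, one_pow, sub_self, zero_div]
        rw [hgeo, zero_smul]
      · intro h
        exact absurd (Finset.mem_range.2 hl) h
    rw [← h1]
    exact Finset.sum_eq_zero fun k _ => hcon k
  have hzU : zk k ∈ m.U0 := sum_mem fun i _ => m.U0.smul_mem _ (hmem i)
  have hst : scal (ζ ^ k) * t ∈ stabD D (zk k) := ⟨mul_mem (hA.heis.scal_mem _) (m.mem_T.1 ht).1, by
    rw [scal_mul_apply, Units.val_pow_eq_pow_val, heig k]⟩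
  rw [m.max _ hzU hk] at hst
  refine ⟨(ζ ^ k)⁻¹, fun z hz => ?_⟩
  have h1 := hz _ hst
  rw [scal_mul_apply] at h1
  conv_rhs => rw [← h1]
  rw [smul_smul, ← Units.val_mul, inv_mul_cancel, Units.val_one, one_smul]

end Mono

/-- The fixed space is a line, or a plane with a quaternion group of order eight. -/
def Mono.IsLine (m : Mono D l) : Prop := ∀ z ∈ m.U0, ∃ k : K, z = k • m.x

/-- The plane case. -/
structure Mono.Plane (m : Mono D l) where
  /-- the first generator -/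
  t1 : V ≃ₗ[K] V
  /-- the second generator -/
  t2 : V ≃ₗ[K] V
  l_two : l = 2
  nonsq : ¬ IsSquare (-1 : K)
  t1_mem : t1 ∈ m.T
  t2_mem : t2 ∈ m.T
  sq1 : ∀ z ∈ m.U0, t1 (t1 z) = -z
  sq2 : ∀ z ∈ m.U0, t2 (t2 z) = -z
  anti : ∀ z ∈ m.U0, t2 (t1 z) = -t1 (t2 z)
  span : ∀ z ∈ m.U0, ∃ a b : K, z = a • m.x + b • t1 m.x
  cases : ∀ t ∈ m.T, ∃ c : Kˣ, (∀ z ∈ m.U0, t z = (c : K) • z) ∨
    (∀ z ∈ m.U0, t z = (c : K) • t1 z) ∨ (∀ z ∈ m.U0, t z = (c : K) • t2 z) ∨
    (∀ z ∈ m.U0, t z = (c : K) • t1 (t2 z))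

theorem AIrr.line_or_plane (hA : AIrr D l) (m : Mono D l) (hl : l.Prime) {ζ : Kˣ}
    (hζ : orderOf ζ = l) (hlK : (l : K) ≠ 0) {p : ℕ} [hp : Fact p.Prime] [CharP K p] :
    m.IsLine ∨ Nonempty m.Plane := by
  classical
  haveI := Fact.mk hl
  haveI : NeZero p := ⟨hp.out.ne_zero⟩
  -- normalised lifts
  have hnorm : ∀ t ∈ m.T, ∃ c : Kˣ, (scal c * t) ^ l = 1 ∨
      (l = 2 ∧ ¬ IsSquare (-1 : K) ∧ (scal c * t) ^ 2 = scal (-1)) := by
    intro t ht
    obtain ⟨c, hc⟩ := hA.norm t (m.mem_T.1 ht).1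
    rcases hc with h | ⟨h2, h⟩
    · exact ⟨c, Or.inl h⟩
    by_cases hsq : IsSquare (-1 : K)
    · obtain ⟨i, hi⟩ := hsq
      have hi0 : i ≠ 0 := by rintro rfl; simp at hi
      refine ⟨Units.mk0 i hi0 * c, Or.inl ?_⟩
      rw [map_mul, mul_assoc, h2, (Commute.symm (scal_comm (Units.mk0 i hi0) _)).mul_pow, h,
        ← map_pow, ← map_mul]
      convert map_one (scal : Kˣ →* (V ≃ₗ[K] V))
      refine Units.ext ?_
      simp [pow_two, ← hi]
    · exact ⟨c, Or.inr ⟨h2, hsq, h⟩⟩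
  have hscT : ∀ (c : Kˣ), scal c ∈ m.T := fun c =>
    m.mem_T.2 ⟨hA.heis.scal_mem c, fun ℓ _ => (scal_comm c ℓ).symm,
      fun w => (scal_comm c _).symm⟩
  by_cases hall : ∀ t ∈ m.T, ∃ c : Kˣ, ∀ z ∈ m.U0, t z = (c : K) • z
  · left
    intro z hz
    have h := m.eq_of_invariant hA (K ∙ m.x)
      (Submodule.span_le.2 (Set.singleton_subset_iff.2 m.x_mem)) (fun t ht y hy => by
        obtain ⟨k, rfl⟩ := Submodule.mem_span_singleton.1 hy
        obtain ⟨c, hc⟩ := hall t ht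
        rw [LinearEquiv.map_smul, hc _ m.x_mem]
        exact Submodule.smul_mem _ _ (Submodule.smul_mem _ _ (Submodule.mem_span_singleton_self _)))
      (by simpa using m.x_ne) z hz
    obtain ⟨k, hk⟩ := Submodule.mem_span_singleton.1 h
    exact ⟨k, hk.symm⟩
  right
  -- non-scalar elements have square minus one
  have hroot : ∀ t ∈ m.T, (¬ ∃ c : Kˣ, ∀ z ∈ m.U0, t z = (c : K) • z) →
      l = 2 ∧ ¬ IsSquare (-1 : K) ∧ ∃ c : Kˣ, (scal c * t) ^ 2 = scal (-1) := by
    intro t ht hns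
    obtain ⟨c, hc⟩ := hnorm t ht
    rcases hc with h | ⟨h2, hsq, h⟩
    · exfalso
      obtain ⟨k, hk⟩ := m.scalar_of_pow hA hζ hlK (mul_mem (hscT c) ht) h
      refine hns ⟨c⁻¹ * k, fun z hz => ?_⟩
      have := hk z hz
      rw [scal_mul_apply] at this
      rw [Units.val_mul, ← smul_smul, ← this, smul_smul, ← Units.val_mul, inv_mul_cancel,
        Units.val_one, one_smul]
    · exact ⟨h2, hsq, c, h⟩
  push Not at hall
  obtain ⟨s1, hs1, hs1ns⟩ := hall
  obtain ⟨hl2, hsq, c1, hc1⟩ := hroot s1 hs1 (by push Not; exact hs1ns)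
  obtain ⟨t1, ht1T, hc1⟩ : ∃ t1 ∈ m.T, t1 ^ 2 = scal (-1) := ⟨_, mul_mem (hscT c1) hs1, hc1⟩
  have hsqapp : ∀ t : V ≃ₗ[K] V, t ^ 2 = scal (-1) → ∀ z, t (t z) = -z := fun t h z => by
    have := LinearEquiv.congr_fun h z
    rw [pow_two, LinearEquiv.mul_apply, scal_apply, Units.val_neg, Units.val_one, neg_one_smul]
      at this
    exact this
  have hsq1 := hsqapp t1 hc1
  -- some element does not commute with `t1` on the fixed space
  obtain ⟨s2, hs2, z2, hz2, hz2ne⟩ : ∃ s2 ∈ m.T, ∃ z ∈ m.U0, s2 (t1 z) ≠ t1 (s2 z) := by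
    by_contra hcon
    push Not at hcon
    let f : m.U0 →ₗ[K] m.U0 := (t1 : V →ₗ[K] V).restrict fun z hz => m.T_mapsTo ht1T hz
    obtain ⟨c, hc⟩ := m.exists_scalar_of_commute hA f fun t ht z => (hcon t ht z z.2).symm
    have h1 : t1 m.x = c • m.x := congrArg Subtype.val (hc ⟨m.x, m.x_mem⟩)
    have h2 := hsq1 m.x
    rw [h1, LinearEquiv.map_smul, h1, smul_smul, ← neg_one_smul K m.x, ← sub_eq_zero, ← sub_smul]
      at h2
    exact hsq ⟨c, (sub_eq_zero.1 ((smul_eq_zero.1 h2).resolve_right m.x_ne)).symm⟩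
  obtain ⟨-, -, c2, hc2⟩ := hroot s2 hs2 (by
    rintro ⟨c, hc⟩
    exact hz2ne (by rw [hc _ (m.T_mapsTo ht1T hz2), hc _ hz2, LinearEquiv.map_smul]))
  obtain ⟨t2, ht2T, hc2, ht2ne⟩ : ∃ t2 ∈ m.T, t2 ^ 2 = scal (-1) ∧ t2 (t1 z2) ≠ t1 (t2 z2) := by
    refine ⟨_, mul_mem (hscT c2) hs2, hc2, fun e => hz2ne ?_⟩
    rw [scal_mul_apply, scal_mul_apply, LinearEquiv.map_smul] at e
    exact smul_right_injective V c2.ne_zero e
  have hsq2 := hsqapp t2 hc2
  have hD1 := (m.mem_T.1 ht1T).1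
  have hD2 := (m.mem_T.1 ht2T).1
  have hc : cmt t1 t2 = -1 := by
    refine neg_one_of_pow_two (hl2 ▸ hA.cmt_pow hD1 hD2) fun e => ht2ne ?_
    have h := LinearEquiv.congr_fun ((cmt_eq_one_iff hA.heis hD1 hD2).1 e).eq z2
    rw [LinearEquiv.mul_apply, LinearEquiv.mul_apply] at h
    exact h
  have hanti : ∀ z, t2 (t1 z) = -t1 (t2 z) := fun z => by
    have h := LinearEquiv.congr_fun (cmt_spec hA.heis hD1 hD2) z
    rw [hc] at h
    rw [LinearEquiv.mul_apply, scal_mul_apply, LinearEquiv.mul_apply, Units.val_neg, Units.val_one,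
      neg_one_smul] at h
    exact h
  -- an element commuting with both is scalar
  have hcases : ∀ t ∈ m.T, ∃ c : Kˣ, (∀ z ∈ m.U0, t z = (c : K) • z) ∨
      (∀ z ∈ m.U0, t z = (c : K) • t1 z) ∨ (∀ z ∈ m.U0, t z = (c : K) • t2 z) ∨
      (∀ z ∈ m.U0, t z = (c : K) • t1 (t2 z)) := by
    intro t ht
    have hkey : ∀ s ∈ m.T, cmt t1 s = 1 → cmt t2 s = 1 →
        ∃ c : Kˣ, ∀ z ∈ m.U0, s z = (c : K) • z := by
      intro s hs e1 e2
      by_contra hns
      obtain ⟨-, -, c, hc'⟩ := hroot s hs hns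
      have hsD := (m.mem_T.1 hs).1
      have hcs1 : Commute (scal c * s) t1 :=
        Commute.mul_left (scal_comm c t1).symm ((cmt_eq_one_iff hA.heis hD1 hsD).1 e1)
      have hpow : ((scal c * s) * t1) ^ l = 1 := by
        rw [hl2, hcs1.mul_pow, hc', hc1, ← map_mul, neg_mul_neg, one_mul, map_one]
      obtain ⟨k, hk⟩ := m.scalar_of_pow hA hζ hlK (mul_mem (mul_mem (hscT c) hs) ht1T) hpow
      refine ht2ne ?_
      have hs1 : ∀ z ∈ m.U0, (c : K) • s z = -((k : K) • t1 z) := fun z hz => by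
        have h := hk _ (m.T_mapsTo ht1T hz)
        rw [LinearEquiv.mul_apply, scal_mul_apply, hsq1, map_neg, smul_neg] at h
        rw [← h, neg_neg]
      have hh : ∀ z ∈ m.U0, t2 (t1 z) = t1 (t2 z) := by
        intro z hz
        have h := LinearEquiv.congr_fun ((cmt_eq_one_iff hA.heis hD2 hsD).1 e2).eq z
        rw [LinearEquiv.mul_apply, LinearEquiv.mul_apply] at h
        have h' := congrArg (fun v => (c : K) • v) h
        simp only [← LinearEquiv.map_smul t2] at h'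
        rw [hs1 _ (m.T_mapsTo ht2T hz), hs1 z hz, map_neg, neg_inj, LinearEquiv.map_smul] at h'
        exact smul_right_injective V k.ne_zero h'.symm
      exact hh z2 hz2
    have hD := (m.mem_T.1 ht).1
    have hsign : ∀ a ∈ m.T, cmt a t = 1 ∨ cmt a t = -1 := fun a ha => by
      by_cases h : cmt a t = 1
      · exact Or.inl h
      · exact Or.inr (neg_one_of_pow_two (hl2 ▸ hA.cmt_pow (m.mem_T.1 ha).1 hD) h)
    have h11 : cmt t1 t1 = 1 := cmt_self hA.heis hD1
    have h22 : cmt t2 t2 = 1 := cmt_self hA.heis hD2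
    have h21 : cmt t2 t1 = -1 := by rw [cmt_symm hA.heis hD1 hD2, hc]; simp
    have hmul : ∀ a ∈ m.T, ∀ s ∈ m.T, cmt a (s * t) = cmt a s * cmt a t := fun a ha s hs =>
      cmt_mul_right hA.heis (m.mem_T.1 ha).1 (m.mem_T.1 hs).1 hD
    have h112 : cmt t1 (t1 * t2) = -1 := by rw [cmt_mul_right hA.heis hD1 hD1 hD2, h11, hc, one_mul]
    have h212 : cmt t2 (t1 * t2) = -1 := by rw [cmt_mul_right hA.heis hD2 hD1 hD2, h21, h22, mul_one]
    have hneg : ∀ z : V, (-1 : K) • z = -z := fun z => neg_one_smul K z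
    rcases hsign t1 ht1T with e1 | e1 <;> rcases hsign t2 ht2T with e2 | e2
    · obtain ⟨c, hc'⟩ := hkey t ht e1 e2
      exact ⟨c, Or.inl hc'⟩
    · obtain ⟨c, hc'⟩ := hkey (t1 * t) (mul_mem ht1T ht)
        (by rw [hmul t1 ht1T t1 ht1T, h11, e1, one_mul])
        (by rw [hmul t2 ht2T t1 ht1T, h21, e2, neg_mul_neg, one_mul])
      refine ⟨-c, Or.inr (Or.inl fun z hz => ?_)⟩
      have h := congrArg t1 (hc' z hz)
      rw [LinearEquiv.mul_apply, hsq1, LinearEquiv.map_smul] at h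
      rw [Units.val_neg, neg_smul, ← h, neg_neg]
    · obtain ⟨c, hc'⟩ := hkey (t2 * t) (mul_mem ht2T ht)
        (by rw [hmul t1 ht1T t2 ht2T, hc, e1, neg_mul_neg, one_mul])
        (by rw [hmul t2 ht2T t2 ht2T, h22, e2, one_mul])
      refine ⟨-c, Or.inr (Or.inr (Or.inl fun z hz => ?_))⟩
      have h := congrArg t2 (hc' z hz)
      rw [LinearEquiv.mul_apply, hsq2, LinearEquiv.map_smul] at h
      rw [Units.val_neg, neg_smul, ← h, neg_neg]
    · obtain ⟨c, hc'⟩ := hkey ((t1 * t2) * t) (mul_mem (mul_mem ht1T ht2T) ht)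
        (by rw [hmul t1 ht1T _ (mul_mem ht1T ht2T), h112, e1, neg_mul_neg, one_mul])
        (by rw [hmul t2 ht2T _ (mul_mem ht1T ht2T), h212, e2, neg_mul_neg, one_mul])
      refine ⟨-c, Or.inr (Or.inr (Or.inr fun z hz => ?_))⟩
      have h := congrArg (fun v => t1 (t2 v)) (hc' z hz)
      simp only [LinearEquiv.mul_apply, LinearEquiv.map_smul] at h
      rw [hanti (t2 (t z)), map_neg, hsq1, hsq2, neg_neg] at h
      rw [Units.val_neg, neg_smul, ← h, neg_neg]
  -- a two-dimensional invariant subspace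
  obtain ⟨a, b, hab⟩ := CharP.sq_add_sq K p (-1)
  push_cast at hab
  have hb0 : (b : K) ≠ 0 := fun e => hsq ⟨(a : K), by rw [e] at hab; linear_combination -hab⟩
  set q : V → V := fun v => (a : K) • t1 v + (b : K) • t2 v with hq
  have hqq : ∀ v, q (q v) = v := by
    intro v
    simp only [hq, map_add, LinearEquiv.map_smul, hsq1, hsq2, hanti, smul_add, smul_smul, smul_neg]
    have : ((a : K) ^ 2 + (b : K) ^ 2) • v = (-1 : K) • v := by rw [hab]
    rw [neg_one_smul, add_smul] at this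
    linear_combination (norm := module) -this
  obtain ⟨z, hz, hz0, ε, hε⟩ : ∃ z ∈ m.U0, z ≠ 0 ∧ ∃ ε : K, q z = ε • z := by
    have hqm : q m.x ∈ m.U0 := add_mem (m.U0.smul_mem _ (m.T_mapsTo ht1T m.x_mem))
      (m.U0.smul_mem _ (m.T_mapsTo ht2T m.x_mem))
    by_cases h : m.x + q m.x = 0
    · exact ⟨m.x, m.x_mem, m.x_ne, -1, by
        rw [neg_one_smul]; exact eq_neg_of_add_eq_zero_right h⟩
    · refine ⟨_, add_mem m.x_mem hqm, h, 1, ?_⟩
      have hadd : q (m.x + q m.x) = q m.x + q (q m.x) := by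
        simp only [hq, map_add, smul_add]; abel
      rw [hadd, hqq, one_smul, add_comm]
  let Y : Submodule K V := Submodule.span K {z, t1 z}
  have hYU : Y ≤ m.U0 := Submodule.span_le.2 (by
    rintro _ (rfl | rfl)
    · exact hz
    · exact m.T_mapsTo ht1T hz)
  have hYmem : ∀ {v}, v ∈ Y ↔ ∃ r s : K, v = r • z + s • t1 z := fun {v} => by
    rw [Submodule.mem_span_pair]
    exact ⟨fun ⟨r, s, h⟩ => ⟨r, s, h.symm⟩, fun ⟨r, s, h⟩ => ⟨r, s, h.symm⟩⟩
  have hY1 : ∀ v ∈ Y, t1 v ∈ Y := by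
    intro v hv
    obtain ⟨r, s, rfl⟩ := hYmem.1 hv
    exact hYmem.2 ⟨-s, r, by rw [map_add, LinearEquiv.map_smul, LinearEquiv.map_smul, hsq1]; module⟩
  have hY2 : ∀ v ∈ Y, t2 v ∈ Y := by
    intro v hv
    obtain ⟨r, s, rfl⟩ := hYmem.1 hv
    rw [map_add, LinearEquiv.map_smul, LinearEquiv.map_smul]
    have hz2 : (b : K) • t2 z = ε • z - (a : K) • t1 z := by
      rw [← hε, hq]; module
    have hzY : t2 z ∈ Y := hYmem.2 ⟨(b : K)⁻¹ * ε, -((b : K)⁻¹ * a), by
      have h := congrArg (fun w => (b : K)⁻¹ • w) hz2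
      simp only [smul_smul, inv_mul_cancel₀ hb0, one_smul, smul_sub] at h
      rw [h]; module⟩
    refine add_mem (Y.smul_mem _ hzY) (Y.smul_mem _ ?_)
    rw [hanti]
    exact neg_mem (hY1 _ hzY)
  have hYinv : ∀ t ∈ m.T, ∀ v ∈ Y, t v ∈ Y := by
    intro t ht v hv
    obtain ⟨c, h | h | h | h⟩ := hcases t ht <;> rw [h v (hYU hv)] <;> apply Y.smul_mem
    · exact hv
    · exact hY1 v hv
    · exact hY2 v hv
    · exact hY1 _ (hY2 v hv)
  have hY0 : Y ≠ ⊥ := fun e => hz0 (by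
    have : z ∈ Y := Submodule.subset_span (Set.mem_insert _ _)
    rwa [e, Submodule.mem_bot] at this)
  have hall' := m.eq_of_invariant hA Y hYU hYinv hY0
  refine ⟨{ t1 := t1, t2 := t2, l_two := hl2, nonsq := hsq, t1_mem := ht1T, t2_mem := ht2T,
            sq1 := fun z _ => hsq1 z, sq2 := fun z _ => hsq2 z, anti := fun z _ => hanti z,
            span := ?_, cases := hcases }⟩
  intro v hv
  obtain ⟨r, s, hx⟩ := hYmem.1 (hall' _ m.x_mem)
  obtain ⟨r', s', rfl⟩ := hYmem.1 (hall' _ hv)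
  have hn : r ^ 2 + s ^ 2 ≠ 0 := by
    intro e
    by_cases hs : s = 0
    · subst hs
      have hr : r = 0 := by
        have : r ^ 2 = 0 := by linear_combination e
        exact pow_eq_zero_iff (n := 2) two_ne_zero |>.1 this
      exact m.x_ne (by rw [hx, hr]; simp)
    · exact hsq ⟨r / s, by field_simp; linear_combination -e⟩
  have ht1x : t1 m.x = (-s) • z + r • t1 z := by
    rw [hx, map_add, LinearEquiv.map_smul, LinearEquiv.map_smul, hsq1]; module
  refine ⟨(r' * r + s' * s) / (r ^ 2 + s ^ 2), (s' * r - r' * s) / (r ^ 2 + s ^ 2), ?_⟩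
  rw [ht1x, hx]
  match_scalars <;> field_simp <;> ring

/-- A monomial symmetry: the action of an element fixing the base vector. -/
theorem AIrr.sym_of_fix (hA : AIrr D l) (m : Mono D l) [Fact l.Prime] {g : V ≃ₗ[K] V}
    (hnorm : ∀ d ∈ D, g * d * g⁻¹ ∈ D) (hx : g m.x = m.x) :
    (∀ z ∈ m.U0, g z ∈ m.U0) ∧
    ∃ (a : (Fin m.n → ZMod l) →+ (Fin m.n → ZMod l)) (t : (Fin m.n → ZMod l) → V ≃ₗ[K] V)
      (b : (Fin m.n → ZMod l) → (Fin m.n → ZMod l) → Kˣ),
      Function.Injective a ∧ (∀ w, t w ∈ m.T) ∧ (∀ z ∈ m.U0, t 0 z = z) ∧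
      (∀ u v w, b (u + v) w = b u w * b v w) ∧ (∀ u v w, b u (v + w) = b u v * b u w) ∧
      (∀ v w, b v w ^ l = 1) ∧
      (∀ v w, ∀ z ∈ m.U0, t (v + w) z = (b v w : K) • t v (t w z)) ∧
      ∀ w, ∀ z ∈ m.U0, g (m.dW w z) = m.dW (a w) (t w (g z)) := by
  classical
  haveI : Finite (V ≃ₗ[K] V) := finite_linearEquiv
  have hginj : Function.Injective fun d : D => (⟨g * d * g⁻¹, hnorm d d.2⟩ : D) := fun d e h => by
    have := congrArg Subtype.val h
    simpa using this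
  have hsurj := Finite.injective_iff_surjective.1 hginj
  have hinvD : ∀ d ∈ D, g⁻¹ * d * g ∈ D := fun d hd => by
    obtain ⟨e, he⟩ := hsurj ⟨d, hd⟩
    have : g * e * g⁻¹ = d := congrArg Subtype.val he
    rw [← this]
    convert e.2 using 1
    group
  have hgx' : g⁻¹ m.x = m.x := by
    conv_lhs => rw [← hx]
    exact LinearEquiv.symm_apply_apply g m.x
  have hLin : ∀ ℓ ∈ stabD D m.x, g⁻¹ * ℓ * g ∈ stabD D m.x := fun ℓ hℓ => ⟨hinvD ℓ hℓ.1, by
    rw [LinearEquiv.mul_apply, LinearEquiv.mul_apply, hx, hℓ.2, hgx']⟩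
  have hU : ∀ z ∈ m.U0, g z ∈ m.U0 := fun z hz ℓ hℓ => by
    have h := congrArg g (hz _ (hLin ℓ hℓ))
    rw [LinearEquiv.mul_apply, LinearEquiv.mul_apply,
      show g (g⁻¹ (ℓ (g z))) = ℓ (g z) from LinearEquiv.apply_symm_apply g _] at h
    exact h
  refine ⟨hU, ?_⟩
  choose a t ht ℓ hℓ hdec using fun w => m.decompT hA (hnorm _ (m.dW_mem w))
  have hgd : ∀ w, ∀ z ∈ m.U0, g (m.dW w z) = m.dW (a w) (t w (g z)) := fun w z hz => by
    have h := LinearEquiv.congr_fun (hdec w) (g z)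
    rw [LinearEquiv.mul_apply, LinearEquiv.mul_apply, LinearEquiv.mul_apply, LinearEquiv.mul_apply,
      show g⁻¹ (g z) = z from LinearEquiv.symm_apply_apply g z, (hU z hz) _ (hℓ w)] at h
    exact h
  have hkey : ∀ v w, ∀ z ∈ m.U0, g (m.dW (v + w) z) =
      (cmt (m.dW (a w)) (ℓ v) : K) • m.dW (a v + a w) (t v (t w (g z))) := by
    intro v w z hz
    have hs : t w (g z) ∈ m.U0 := m.T_mapsTo (ht w) (hU z hz)
    rw [m.dW_add v w, LinearEquiv.mul_apply]
    have h := LinearEquiv.congr_fun (hdec v) (g (m.dW w z))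
    rw [LinearEquiv.mul_apply, LinearEquiv.mul_apply,
      show g⁻¹ (g (m.dW w z)) = m.dW w z from LinearEquiv.symm_apply_apply g _] at h
    rw [h, hgd w z hz, LinearEquiv.mul_apply, LinearEquiv.mul_apply, m.ell_apply hA _ (hℓ v) hs,
      LinearEquiv.map_smul, LinearEquiv.map_smul]
    have hc := LinearEquiv.congr_fun ((m.mem_T.1 (ht v)).2.2 (a w)).eq (t w (g z))
    rw [LinearEquiv.mul_apply, LinearEquiv.mul_apply] at hc
    rw [hc, m.dW_add, LinearEquiv.mul_apply]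
  have hgx0 : g m.x ∈ m.U0 ∧ g m.x ≠ 0 := ⟨hU _ m.x_mem, by rw [hx]; exact m.x_ne⟩
  have hadd : ∀ v w, a (v + w) = a v + a w := fun v w => by
    have h := hkey v w m.x m.x_mem
    rw [hgd _ _ m.x_mem, ← LinearEquiv.map_smul] at h
    exact m.translate_eq hA (m.T_mapsTo (ht _) hgx0.1)
      (m.U0.smul_mem _ (m.T_mapsTo (ht v) (m.T_mapsTo (ht w) hgx0.1)))
      (fun e => hgx0.2 ((t (v + w)).map_eq_zero_iff.1 e)) h
  let ah : (Fin m.n → ZMod l) →+ (Fin m.n → ZMod l) := AddMonoidHom.mk' a hadd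
  let b : (Fin m.n → ZMod l) → (Fin m.n → ZMod l) → Kˣ := fun v w => cmt (m.dW (a w)) (ℓ v)
  have hsurjU : ∀ z ∈ m.U0, ∃ y ∈ m.U0, g y = z := by
    intro z hz
    let f : m.U0 → m.U0 := fun y => ⟨g y, hU y y.2⟩
    obtain ⟨y, hy⟩ := (Finite.injective_iff_surjective.1
      (fun p q h => Subtype.ext (g.injective (congrArg Subtype.val h)) : Function.Injective f)) ⟨z, hz⟩
    exact ⟨y, y.2, congrArg Subtype.val hy⟩
  have hb2 : ∀ u v w, b u (v + w) = b u v * b u w := fun u v w => by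
    show cmt (m.dW (a (v + w))) (ℓ u) = _
    rw [hadd, m.dW_add, cmt_mul_left hA.heis (m.dW_mem _) (m.dW_mem _) (hℓ u).1]
  have hb1 : ∀ u v w, b (u + v) w = b u w * b v w := by
    intro u v w
    show cmt (m.dW (a w)) (ℓ (u + v)) = cmt (m.dW (a w)) (ℓ u) * cmt (m.dW (a w)) (ℓ v)
    set Dw := m.dW (a w)
    have hDw : Dw ∈ D := m.dW_mem _
    have hTd : ∀ r ∈ m.T, cmt Dw r = 1 := fun r hr =>
      (cmt_eq_one_iff hA.heis hDw (m.mem_T.1 hr).1).2 ((m.mem_T.1 hr).2.2 (a w))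
    have hWd : ∀ r, cmt Dw (m.dW r) = 1 := fun r => by
      refine (cmt_eq_one_iff hA.heis hDw (m.dW_mem r)).2 ?_
      show m.dW r * Dw = Dw * m.dW r
      rw [← m.dW_add, ← m.dW_add, add_comm]
    have hval : ∀ w', cmt Dw (g * m.dW w' * g⁻¹) = cmt Dw (ℓ w') := fun w' => by
      rw [hdec w', cmt_mul_right hA.heis hDw (mul_mem (m.dW_mem _) (m.mem_T.1 (ht w')).1) (hℓ w').1,
        cmt_mul_right hA.heis hDw (m.dW_mem _) (m.mem_T.1 (ht w')).1, hWd, hTd _ (ht w'), one_mul,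
        one_mul]
    rw [← hval, ← hval, ← hval, ← cmt_mul_right hA.heis hDw (hnorm _ (m.dW_mem u)) (hnorm _ (m.dW_mem v)),
      m.dW_add]
    congr 1
    group
  refine ⟨ah, t, b, ?_, ht, ?_, hb1, hb2, fun v w => hA.cmt_pow (m.dW_mem _) (hℓ v).1, ?_, hgd⟩
  · refine (injective_iff_map_eq_zero ah).2 fun w hw => m.char_inj w fun k hk => ?_
    have hk' : g * k * g⁻¹ ∈ stabD D m.x := ⟨hnorm k hk.1, by
      rw [LinearEquiv.mul_apply, LinearEquiv.mul_apply, hgx', hk.2, hx]⟩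
    have hc : Commute (g * m.dW w * g⁻¹) (g * k * g⁻¹) := by
      rw [hdec w, show a w = 0 from hw, m.dW_zero, one_mul]
      exact ((m.mem_T.1 (ht w)).2.1 _ hk').mul_left
        (hA.stab_commute m.x_ne (hℓ w) hk')
    exact (Commute.conj_iff g).1 hc
  · intro z hz
    obtain ⟨y, hy, rfl⟩ := hsurjU z hz
    have h := hgd 0 y hy
    rw [m.dW_zero, show a 0 = 0 from ah.map_zero, m.dW_zero] at h
    exact h.symm
  · intro v w z hz
    obtain ⟨y, hy, rfl⟩ := hsurjU z hz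
    have h := hkey v w y hy
    rw [hgd _ _ hy, hadd, ← LinearEquiv.map_smul] at h
    exact (m.dW (a v + a w)).injective h

end CfsgLib.Char.CoprimeBase
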