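import Mathlib

/-!
# Groups that are abelian modulo scalars with trivial centre modulo scalars

Elements pairwise distinct modulo scalars are linearly independent on every invariant subspace, and
an irreducible invariant subspace is absolutely irreducible and occurs alone.
-/

set_option autoImplicit false
set_option linter.unusedSectionVars false
set_option linter.style.haveILetI false

namespace CfsgLib.Char.CoprimeBase

universe u

variable {K V : Type u} [Field K] [AddCommGroup V] [Module K V]

/-- Multiplication by a non-zero scalar, as an automorphism. -/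
def scal : Kˣ →* (V ≃ₗ[K] V) where
  toFun c := LinearEquiv.smulOfUnit c
  map_one' := LinearEquiv.ext fun v => one_smul K v
  map_mul' a b := LinearEquiv.ext fun v => mul_smul (a : K) (b : K) v

theorem scal_apply (c : Kˣ) (v : V) : (scal c : V ≃ₗ[K] V) v = (c : K) • v := rfl

theorem scal_comm (c : Kˣ) (g : V ≃ₗ[K] V) : g * scal c = scal c * g :=
  LinearEquiv.ext fun v => g.map_smul (c : K) v

variable (K V) in
/-- The scalar automorphisms. -/
def scalars : Subgroup (V ≃ₗ[K] V) := (scal : Kˣ →* (V ≃ₗ[K] V)).range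

/-- A group containing the scalars, abelian modulo them, whose centre consists of scalars. -/
structure Heis (E : Subgroup (V ≃ₗ[K] V)) : Prop where
  scal_mem : ∀ c : Kˣ, scal c ∈ E
  comm : ∀ d ∈ E, ∀ e ∈ E, ∃ c : Kˣ, e * d = scal c * (d * e)
  sep : ∀ d ∈ E, (∀ e ∈ E, e * d = d * e) → d ∈ scalars K V

/-- Invariance of a subspace. -/
def EInv (E : Subgroup (V ≃ₗ[K] V)) (U : Submodule K V) : Prop := ∀ d ∈ E, ∀ u ∈ U, d u ∈ U

/-- An irreducible invariant subspace. -/
def EIrr (E : Subgroup (V ≃ₗ[K] V)) (U : Submodule K V) : Prop :=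
  U ≠ ⊥ ∧ EInv E U ∧ ∀ U' : Submodule K V, U' ≤ U → EInv E U' → U' = ⊥ ∨ U' = U

theorem exists_eIrr [Finite V] {E : Subgroup (V ≃ₗ[K] V)} {U : Submodule K V} (hU0 : U ≠ ⊥)
    (hU : EInv E U) : ∃ U' : Submodule K V, U' ≤ U ∧ EIrr E U' := by
  haveI : Finite (Submodule K V) :=
    Finite.of_injective (fun S : Submodule K V => (S : Set V)) SetLike.coe_injective
  obtain ⟨U', ⟨h1, h2, h3⟩, hmin⟩ :=
    (Set.toFinite {S : Submodule K V | S ≤ U ∧ S ≠ ⊥ ∧ EInv E S}).exists_minimal
      ⟨U, le_rfl, hU0, hU⟩
  exact ⟨U', h1, h2, h3, fun S hS hSi => or_iff_not_imp_left.2 fun h0 =>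
    le_antisymm hS (hmin ⟨hS.trans h1, h0, hSi⟩ hS)⟩

variable {E : Subgroup (V ≃ₗ[K] V)}

/-- Two elements are congruent modulo scalars. -/
def Congr (d e : V ≃ₗ[K] V) : Prop := e⁻¹ * d ∈ scalars K V

theorem Heis.exists_separating (hE : Heis E) {d e : V ≃ₗ[K] V} (hd : d ∈ E) (he : e ∈ E)
    (h : ¬ Congr d e) : ∃ x ∈ E, ∀ a b : Kˣ, x * d = scal a * (d * x) → x * e = scal b * (e * x) →
      (a : K) • (LinearMap.id : V →ₗ[K] V) ≠ (b : K) • LinearMap.id := by
  by_contra hc
  push Not at hc
  refine h (hE.sep _ (mul_mem (inv_mem he) hd) fun x hx => ?_)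
  obtain ⟨a, b, ha, hb, hab⟩ := hc x hx
  have hsc : (scal a : V ≃ₗ[K] V) = scal b := LinearEquiv.ext fun v => LinearMap.congr_fun hab v
  have h2 : x * e⁻¹ = scal (b⁻¹) * (e⁻¹ * x) := by
    have h3 : e⁻¹ * x = scal b * (x * e⁻¹) := by
      calc e⁻¹ * x = e⁻¹ * (x * e) * e⁻¹ := by group
        _ = e⁻¹ * (scal b * (e * x)) * e⁻¹ := by rw [hb]
        _ = (e⁻¹ * scal b) * e * x * e⁻¹ := by group
        _ = scal b * (x * e⁻¹) := by rw [scal_comm]; group
    rw [h3, ← mul_assoc, ← map_mul, inv_mul_cancel, map_one, one_mul]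
  calc x * (e⁻¹ * d) = (x * e⁻¹) * d := by group
    _ = scal (b⁻¹) * e⁻¹ * (x * d) := by rw [h2]; group
    _ = scal (b⁻¹) * (e⁻¹ * scal a) * (d * x) := by rw [ha]; group
    _ = (scal (b⁻¹) * scal a) * (e⁻¹ * d * x) := by rw [scal_comm]; group
    _ = e⁻¹ * d * x := by rw [hsc, ← map_mul, inv_mul_cancel, map_one, one_mul]

/-- Elements distinct modulo scalars are independent on a non-zero invariant subspace. -/
theorem Heis.indep (hE : Heis E) {U : Submodule K V} (hU : EInv E U) (hU0 : U ≠ ⊥) {ι : Type*}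
    [Fintype ι] (d : ι → V ≃ₗ[K] V) (hd : ∀ i, d i ∈ E)
    (hne : ∀ i j, i ≠ j → ¬ Congr (d i) (d j)) (c : ι → K)
    (h : ∀ u ∈ U, ∑ i, c i • d i u = 0) : ∀ i, c i = 0 := by
  classical
  obtain ⟨u0, hu0, hu0'⟩ := (Submodule.ne_bot_iff _).1 hU0
  generalize hn : (Finset.univ.filter fun i => c i ≠ 0).card = n
  induction n using Nat.strong_induction_on generalizing c with
  | _ n ih =>
  intro i
  by_contra hi
  by_cases hj : ∃ j, j ≠ i ∧ c j ≠ 0
  · obtain ⟨j, hji, hcj⟩ := hj
    obtain ⟨x, hx, hsep⟩ := hE.exists_separating (hd i) (hd j) (hne i j (Ne.symm hji))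
    choose lam hlam using fun k => hE.comm (d k) (hd k) x hx
    have h1 : ∀ u ∈ U, ∑ k, (c k * (lam k : K)) • d k u = 0 := by
      intro u hu
      have h2 := h (x⁻¹ u) (hU _ (inv_mem hx) u hu)
      have h3 := congrArg x h2
      rw [map_sum, map_zero] at h3
      rw [← h3]
      refine Finset.sum_congr rfl fun k _ => ?_
      have h4 := LinearEquiv.congr_fun (hlam k) (x⁻¹ u)
      simp only [LinearEquiv.mul_apply, scal_apply] at h4
      rw [LinearEquiv.map_smul, h4, mul_smul]
      congr 3
      exact (LinearEquiv.apply_symm_apply x u).symm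
    let c' : ι → K := fun k => c k * (lam k : K) - (lam j : K) * c k
    have hc' : ∀ u ∈ U, ∑ k, c' k • d k u = 0 := by
      intro u hu
      simp only [c', sub_smul, Finset.sum_sub_distrib]
      rw [h1 u hu]
      simp only [mul_smul, ← Finset.smul_sum, h u hu, smul_zero, sub_zero]
    have hlt : (Finset.univ.filter fun k => c' k ≠ 0).card < n := by
      rw [← hn]
      refine Finset.card_lt_card (Finset.ssubset_iff_subset_ne.2 ⟨fun k hk => ?_, fun e => ?_⟩)
      · simp only [Finset.mem_filter, Finset.mem_univ, true_and, c'] at hk ⊢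
        intro h0
        exact hk (by rw [h0]; simp)
      · have hmem : j ∈ Finset.univ.filter fun k => c k ≠ 0 := by simp [hcj]
        rw [← e] at hmem
        simp only [Finset.mem_filter, Finset.mem_univ, true_and, c'] at hmem
        exact hmem (by ring)
    have h0 := ih _ hlt c' hc' rfl i
    simp only [c'] at h0
    have h5 : c i * ((lam i : K) - lam j) = 0 := by linear_combination h0
    have h6 := (mul_eq_zero.1 h5).resolve_left hi
    exact hsep (lam i) (lam j) (hlam i) (hlam j) (by rw [sub_eq_zero.1 h6])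
  · push Not at hj
    have h1 := h u0 hu0
    rw [Finset.sum_eq_single i (fun k _ hk => by rw [hj k hk, zero_smul])
      (fun h => absurd (Finset.mem_univ i) h)] at h1
    rcases smul_eq_zero.1 h1 with h2 | h2
    · exact hi h2
    · exact hu0' ((d i).map_eq_zero_iff.1 h2)

/-- The endomorphisms of `V` spanned by `E`. -/
def spanAlg (hE : Heis E) : Subalgebra K (Module.End K V) :=
  (Submodule.span K ((fun d : V ≃ₗ[K] V => (d : V →ₗ[K] V)) '' (E : Set (V ≃ₗ[K] V)))).toSubalgebra
    (Submodule.subset_span ⟨1, one_mem E, rfl⟩) (fun x y hx hy => by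
      induction hx using Submodule.span_induction with
      | mem a ha =>
        induction hy using Submodule.span_induction with
        | mem b hb =>
          obtain ⟨d, hd, rfl⟩ := ha
          obtain ⟨e, he, rfl⟩ := hb
          exact Submodule.subset_span ⟨d * e, mul_mem hd he, rfl⟩
        | zero => rw [mul_zero]; exact zero_mem _
        | add _ _ _ _ h1 h2 => rw [mul_add]; exact add_mem h1 h2
        | smul t _ _ h1 => rw [mul_smul_comm]; exact Submodule.smul_mem _ t h1
      | zero => rw [zero_mul]; exact zero_mem _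
      | add _ _ _ _ h1 h2 => rw [add_mul]; exact add_mem h1 h2
      | smul t _ _ h1 => rw [smul_mul_assoc]; exact Submodule.smul_mem _ t h1)

theorem mem_spanAlg (hE : Heis E) {d : V ≃ₗ[K] V} (hd : d ∈ E) :
    (d : V →ₗ[K] V) ∈ spanAlg hE :=
  Submodule.subset_span ⟨d, hd, rfl⟩

/-- Every spanned endomorphism maps an invariant subspace to itself. -/
theorem spanAlg_mem_inv (hE : Heis E) {U : Submodule K V} (hU : EInv E U) {r : Module.End K V}
    (hr : r ∈ spanAlg hE) : ∀ u ∈ U, r u ∈ U := by
  change r ∈ Submodule.span K _ at hr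
  induction hr using Submodule.span_induction with
  | mem a ha => obtain ⟨d, hd, rfl⟩ := ha; exact hU d hd
  | zero => exact fun u _ => zero_mem U
  | add _ _ _ _ h1 h2 => exact fun u hu => add_mem (h1 u hu) (h2 u hu)
  | smul t _ _ h1 => exact fun u hu => U.smul_mem t (h1 u hu)

/-- Maps commuting with `E` commute with the spanned endomorphisms. -/
theorem spanAlg_commute (hE : Heis E) {U : Submodule K V} (f : U →ₗ[K] V)
    (hU : EInv E U) (hf : ∀ d (hd : d ∈ E) (u : U), f ⟨d u, hU d hd u u.2⟩ = d (f u))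
    {r : Module.End K V} (hr : r ∈ spanAlg hE) (u : U) :
    f ⟨r u, spanAlg_mem_inv hE hU hr u u.2⟩ = r (f u) := by
  obtain ⟨l, hl, rfl⟩ := (Finsupp.mem_span_iff_linearCombination K _ _).1 hr |>.imp
    fun l hl => And.intro trivial hl.symm
  simp only [Finsupp.linearCombination_apply, Finsupp.sum, LinearMap.sum_apply, LinearMap.smul_apply]
  rw [show (⟨_, _⟩ : U) = ∑ a ∈ l.support, l a •
      (⟨(a : Module.End K V) u, by obtain ⟨d, hd, e⟩ := a.2; rw [← e]; exact hU d hd u u.2⟩ : U) from
    Subtype.ext (by simp), map_sum]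
  refine Finset.sum_congr rfl fun a _ => ?_
  obtain ⟨a, d, hd, rfl⟩ := a
  rw [map_smul]
  exact congrArg (l _ • ·) (hf d hd u)

section Classes

variable [Finite V]

instance finite_linearEquiv : Finite (V ≃ₗ[K] V) :=
  Finite.of_injective (fun f : V ≃ₗ[K] V => (f : V → V)) DFunLike.coe_injective

/-- A system of representatives of `E` modulo scalars. -/
theorem Heis.exists_reps (hE : Heis E) : ∃ (n : ℕ) (d : Fin n → V ≃ₗ[K] V), (∀ i, d i ∈ E) ∧
    (∀ i j, i ≠ j → ¬ Congr (d i) (d j)) ∧ ∀ e ∈ E, ∃ i, Congr e (d i) := by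
  classical
  let S : Subgroup E := (scalars K V).subgroupOf E
  haveI : Finite (E ⧸ S) := Quotient.finite _
  obtain ⟨n, ⟨q⟩⟩ := Finite.exists_equiv_fin (E ⧸ S)
  refine ⟨n, fun i => ((q.symm i).out : E), fun i => ((q.symm i).out : E).2, fun i j hij h => ?_,
    fun e he => ⟨q (QuotientGroup.mk ⟨e, he⟩), ?_⟩⟩
  · refine hij (q.symm.injective ?_)
    rw [← QuotientGroup.out_eq' (q.symm i), ← QuotientGroup.out_eq' (q.symm j)]
    exact (QuotientGroup.eq.2 (Subgroup.mem_subgroupOf.2 (by simpa [Congr] using h))).symm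
  · have h := QuotientGroup.eq.1 (QuotientGroup.out_eq'
      (QuotientGroup.mk (⟨e, he⟩ : E) : E ⧸ S))
    simp only [Congr, Equiv.symm_apply_apply]
    exact Subgroup.mem_subgroupOf.1 h

theorem spanAlg_exists_coeff (hE : Heis E) {n : ℕ} (d : Fin n → V ≃ₗ[K] V)
    (hd : ∀ e ∈ E, ∃ i, Congr e (d i)) {r : Module.End K V} (hr : r ∈ spanAlg hE) :
    ∃ c : Fin n → K, r = ∑ i, c i • (d i : V →ₗ[K] V) := by
  classical
  change r ∈ Submodule.span K _ at hr
  induction hr using Submodule.span_induction with
  | mem a ha =>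
    obtain ⟨e, he, rfl⟩ := ha
    obtain ⟨i, k, hk⟩ := hd e he
    refine ⟨fun j => if j = i then (k : K) else 0, ?_⟩
    rw [Finset.sum_eq_single i (fun j _ hj => by simp only [if_neg hj, zero_smul])
      (fun h => absurd (Finset.mem_univ i) h)]
    simp only [if_true]
    refine LinearMap.ext fun v => ?_
    have h1 := LinearEquiv.congr_fun hk v
    simp only [scal_apply, LinearEquiv.mul_apply] at h1
    show e v = (k : K) • d i v
    rw [← (d i).map_smul, h1]
    exact (LinearEquiv.apply_symm_apply (d i) (e v)).symm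
  | zero => exact ⟨0, by simp⟩
  | add _ _ _ _ h1 h2 =>
    obtain ⟨c, rfl⟩ := h1
    obtain ⟨c', rfl⟩ := h2
    exact ⟨c + c', by simp [add_smul, Finset.sum_add_distrib]⟩
  | smul t _ _ h1 =>
    obtain ⟨c, rfl⟩ := h1
    exact ⟨t • c, by simp [Finset.smul_sum, mul_smul]⟩

/-- A spanned endomorphism vanishing on a non-zero invariant subspace is zero. -/
theorem spanAlg_ext (hE : Heis E) {U : Submodule K V} (hU : EInv E U) (hU0 : U ≠ ⊥)
    {r s : Module.End K V} (hr : r ∈ spanAlg hE) (hs : s ∈ spanAlg hE)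
    (h : ∀ u ∈ U, r u = s u) : r = s := by
  obtain ⟨n, d, hd, hne, hcov⟩ := hE.exists_reps
  obtain ⟨c, hc⟩ := spanAlg_exists_coeff hE d hcov (sub_mem hr hs)
  refine sub_eq_zero.1 (hc.trans ?_)
  have h0 := hE.indep hU hU0 d hd hne c fun u hu => by
    have h1 := LinearMap.congr_fun hc u
    rw [LinearMap.sub_apply, h u hu, sub_self, LinearMap.sum_apply] at h1
    exact h1.symm
  exact Finset.sum_eq_zero fun i _ => by rw [h0 i, zero_smul]

/-- An irreducible invariant subspace is absolutely irreducible: its endomorphisms are spanned. -/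
theorem exists_spanAlg_eq (hE : Heis E) {U : Submodule K V} (hU : EIrr E U) :
    (∀ f : U →ₗ[K] U, (∀ d (hd : d ∈ E) (u : U), (f ⟨d u, hU.2.1 d hd u u.2⟩ : V) = d (f u : V)) →
        ∃ c : K, ∀ u : U, f u = c • u) ∧
      ∀ h : U →ₗ[K] U, ∃ r ∈ spanAlg hE, ∀ u : U, r (u : V) = (h u : V) := by
  classical
  obtain ⟨hU0, hUi, hUmin⟩ := hU
  set R := spanAlg hE
  letI instR : Module R U :=
    { smul := fun r u => ⟨(r : Module.End K V) u, spanAlg_mem_inv hE hUi r.2 u u.2⟩
      one_smul := fun u => Subtype.ext rfl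
      mul_smul := fun r s u => Subtype.ext rfl
      smul_zero := fun r => Subtype.ext (map_zero (r : Module.End K V))
      smul_add := fun r u v => Subtype.ext (map_add (r : Module.End K V) _ _)
      add_smul := fun r s u => Subtype.ext rfl
      zero_smul := fun u => Subtype.ext rfl }
  have hsm : ∀ (r : R) (u : U), ((r • u : U) : V) = (r : Module.End K V) u := fun r u => rfl
  haveI : Nontrivial U := (Submodule.nontrivial_iff_ne_bot).2 hU0
  haveI : IsSimpleModule R U := by
    refine isSimpleModule_iff_toSpanSingleton_surjective.2 ⟨inferInstance, fun v hv w => ?_⟩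
    let S : Submodule K V :=
      { carrier := {x | ∃ r : R, (r : Module.End K V) (v : V) = x}
        add_mem' := fun ⟨r, hr⟩ ⟨s, hs⟩ => ⟨r + s, by rw [← hr, ← hs]; rfl⟩
        zero_mem' := ⟨0, rfl⟩
        smul_mem' := fun c x ⟨r, hr⟩ => ⟨c • r, by rw [← hr]; rfl⟩ }
    have hSU : S ≤ U := by
      rintro x ⟨r, rfl⟩
      exact spanAlg_mem_inv hE hUi r.2 v v.2
    rcases hUmin S hSU (by
      rintro d hd x ⟨r, rfl⟩
      exact ⟨⟨_, mem_spanAlg hE hd⟩ * r, rfl⟩) with e | e
    · exfalso
      have : (v : V) ∈ S := ⟨1, rfl⟩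
      rw [e, Submodule.mem_bot] at this
      exact hv (Subtype.ext this)
    · obtain ⟨r, hr⟩ : (w : V) ∈ S := by rw [e]; exact w.2
      exact ⟨r, Subtype.ext hr⟩
  haveI : Finite (Module.End R U) :=
    Finite.of_injective (fun f : Module.End R U => (⇑f : U → U)) DFunLike.coe_injective
  have hKlin : ∀ (f : Module.End R U) (c : K) (u : U), f (c • u) = c • f u := fun f c u => by
    have hr : (c • (1 : Module.End K V)) ∈ R := R.smul_mem (one_mem R) c
    have h1 : c • u = (⟨_, hr⟩ : R) • u := Subtype.ext rfl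
    rw [h1, map_smul]
    exact Subtype.ext rfl
  have hmem : ∀ f : Module.End R U, ∃ r : R, ∀ u : U, f u = r • u := by
    intro f
    have := Fintype.ofFinite U
    let f' : Module.End (Module.End R U) U :=
      { toFun := f
        map_add' := map_add f
        map_smul' := fun g u => by
          show f (g u) = g (f u)
          exact LinearMap.congr_fun ((littleWedderburn (Module.End R U)).mul_comm f g) u }
    obtain ⟨r, hr⟩ := jacobson_density (R := R) (M := U) f' Finset.univ
    exact ⟨r, fun u => hr u (Finset.mem_univ u)⟩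
  obtain ⟨n, d, hd, hne, hcov⟩ := hE.exists_reps
  have hscalar : ∀ f : Module.End R U, ∃ c : K, ∀ u : U, f u = c • u := by
    intro f
    obtain ⟨r, hr⟩ := hmem f
    obtain ⟨c, hc⟩ := spanAlg_exists_coeff hE d hcov r.2
    have hscal : ∀ i, d i ∉ scalars K V → c i = 0 := by
      intro i hi
      obtain ⟨x, hx, hxd⟩ : ∃ x ∈ E, x * d i ≠ d i * x := by
        by_contra hcon
        push Not at hcon
        exact hi (hE.sep _ (hd i) hcon)
      choose lam hlam using fun k => hE.comm (d k) (hd k) x hx
      have h0 := hE.indep hUi hU0 d hd hne (fun k => c k * ((lam k : K) - 1)) fun w hw => by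
        set u := x⁻¹ w with hu'
        have hu : u ∈ U := hUi _ (inv_mem hx) w hw
        have hxu : x u = w := LinearEquiv.apply_symm_apply x w
        have h1 : (r : Module.End K V) (x u) = x ((r : Module.End K V) u) := by
          have h2 := congrArg Subtype.val (f.map_smul (⟨_, mem_spanAlg hE hx⟩ : R) ⟨u, hu⟩)
          rw [hr, hr] at h2
          exact h2
        rw [hc] at h1
        simp only [LinearMap.sum_apply, LinearMap.smul_apply, LinearEquiv.coe_coe, map_sum,
          LinearEquiv.map_smul] at h1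
        have h3 : ∀ k, x (d k u) = (lam k : K) • d k w := fun k => by
          have := LinearEquiv.congr_fun (hlam k) u
          simpa [LinearEquiv.mul_apply, scal_apply, hxu] using this
        simp only [h3, smul_smul, hxu] at h1
        simp only [mul_sub, mul_one, sub_smul, Finset.sum_sub_distrib, h1, sub_self]
      have h5 := h0 i
      rcases mul_eq_zero.1 h5 with h6 | h6
      · exact h6
      · exfalso
        refine hxd ?_
        rw [hlam i, Units.ext (sub_eq_zero.1 h6 : (lam i : K) = ((1 : Kˣ) : K)), map_one, one_mul]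
    refine ⟨∑ i, if h : d i ∈ scalars K V then c i * (h.choose : K) else 0, fun u => Subtype.ext ?_⟩
    rw [hr, hsm, hc, Submodule.coe_smul, Finset.sum_smul, LinearMap.sum_apply]
    refine Finset.sum_congr rfl fun i _ => ?_
    split
    · next h =>
      rw [mul_smul, LinearMap.smul_apply, LinearEquiv.coe_coe]
      exact congrArg (c i • ·) (LinearEquiv.congr_fun h.choose_spec (u : V)).symm
    · next h => rw [hscal i h, zero_smul, zero_smul, LinearMap.zero_apply]
  refine ⟨fun f hf => ?_, fun h => ?_⟩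
  · let f' : Module.End R U :=
      { toFun := f
        map_add' := map_add f
        map_smul' := fun r u => Subtype.ext (by
          have h1 := spanAlg_commute hE (U.subtype.comp f) hUi
            (fun e he v => hf e he v) r.2 u
          exact h1) }
    exact hscalar f'
  · have := Fintype.ofFinite U
    let h' : Module.End (Module.End R U) U :=
      { toFun := h
        map_add' := map_add h
        map_smul' := fun g u => by
          obtain ⟨c, hc⟩ := hscalar g
          show h (g u) = g (h u)
          rw [hc, hc, map_smul] }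
    obtain ⟨r, hr⟩ := jacobson_density (R := R) (M := U) h' Finset.univ
    exact ⟨r, r.2, fun u => (congrArg Subtype.val (hr u (Finset.mem_univ u))).symm⟩

end Classes

end CfsgLib.Char.CoprimeBase
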